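import Mathlib
import Groth.Agent.S7931

/-!
# Rational functions with prescribed orders at finitely many codimension one points (S7938)
-/

set_option autoImplicit false
set_option linter.style.haveILetI false
universe u
open CategoryTheory CategoryTheory.Limits AlgebraicGeometry TopologicalSpace Opposite

namespace Groth.Agent.H5.ArS

theorem isDominant_specMap_of_injective {A B : CommRingCat.{u}} (φ : A ⟶ B)
    (hφ : Function.Injective φ.hom) : IsDominant (Spec.map φ) := by
  constructor
  change DenseRange (PrimeSpectrum.comap φ.hom)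
  rw [PrimeSpectrum.denseRange_comap_iff_ker_le_nilRadical]
  rw [(RingHom.injective_iff_ker_eq_bot φ.hom).mp hφ]
  exact bot_le

/-- on a separated integral scheme, a point is determined by its local ring inside the function
field. -/
theorem eq_of_range_algebraMap_eq (X : Scheme.{u}) [IsIntegral X] [X.IsSeparated] (x y : X)
    (h : (algebraMap (X.presheaf.stalk x) X.functionField).range =
      (algebraMap (X.presheaf.stalk y) X.functionField).range) : x = y := by
  have hx : genericPoint X ⤳ x := (genericPoint_spec X).specializes trivial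
  have hy : genericPoint X ⤳ y := (genericPoint_spec X).specializes trivial
  have hαx : algebraMap (X.presheaf.stalk x) X.functionField =
      (X.presheaf.stalkSpecializes hx).hom := rfl
  have hαy : algebraMap (X.presheaf.stalk y) X.functionField =
      (X.presheaf.stalkSpecializes hy).hom := rfl
  have hix : Function.Injective (algebraMap (X.presheaf.stalk x) X.functionField) :=
    IsFractionRing.injective _ _
  have hiy : Function.Injective (algebraMap (X.presheaf.stalk y) X.functionField) :=
    IsFractionRing.injective _ _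
  -- the induced isomorphism of local rings
  have hex : ∀ b : X.presheaf.stalk y, ∃ a : X.presheaf.stalk x,
      algebraMap (X.presheaf.stalk x) X.functionField a =
        algebraMap (X.presheaf.stalk y) X.functionField b := by
    intro b
    have : algebraMap (X.presheaf.stalk y) X.functionField b ∈
        (algebraMap (X.presheaf.stalk x) X.functionField).range := by
      rw [h]
      exact ⟨b, rfl⟩
    exact this
  have hex' : ∀ a : X.presheaf.stalk x, ∃ b : X.presheaf.stalk y,
      algebraMap (X.presheaf.stalk y) X.functionField b =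
        algebraMap (X.presheaf.stalk x) X.functionField a := by
    intro a
    have : algebraMap (X.presheaf.stalk x) X.functionField a ∈
        (algebraMap (X.presheaf.stalk y) X.functionField).range := by
      rw [← h]
      exact ⟨a, rfl⟩
    exact this
  choose g hg using hex
  let ψ : X.presheaf.stalk y →+* X.presheaf.stalk x :=
    { toFun := g
      map_one' := hix (by rw [hg, map_one, map_one])
      map_mul' := fun a b => hix (by rw [hg, map_mul, map_mul, hg, hg])
      map_zero' := hix (by rw [hg, map_zero, map_zero])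
      map_add' := fun a b => hix (by rw [hg, map_add, map_add, hg, hg]) }
  have hψ : ∀ b, algebraMap (X.presheaf.stalk x) X.functionField (ψ b) =
      algebraMap (X.presheaf.stalk y) X.functionField b := hg
  have hψbij : Function.Bijective ψ := by
    constructor
    · intro a b hab
      apply hiy
      rw [← hψ a, ← hψ b, hab]
    · intro a
      obtain ⟨b, hb⟩ := hex' a
      exact ⟨b, hix (by rw [hψ, hb])⟩
  haveI : IsLocalHom ψ := ⟨fun a ha => by
    have h1 : IsUnit ((RingEquiv.ofBijective ψ hψbij) a) := ha
    have h2 := h1.map (RingEquiv.ofBijective ψ hψbij).symm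
    rwa [RingEquiv.symm_apply_apply] at h2⟩
  let l₁ : Spec (X.presheaf.stalk x) ⟶ X := X.fromSpecStalk x
  let l₂ : Spec (X.presheaf.stalk x) ⟶ X := Spec.map (CommRingCat.ofHom ψ) ≫ X.fromSpecStalk y
  haveI : IsDominant (Spec.map (X.presheaf.stalkSpecializes hx)) :=
    isDominant_specMap_of_injective _ (by rw [← hαx]; exact hix)
  have hcomp : CommRingCat.ofHom ψ ≫ X.presheaf.stalkSpecializes hx =
      X.presheaf.stalkSpecializes hy := by
    ext b
    exact hψ b
  have hU : Spec.map (X.presheaf.stalkSpecializes hx) ≫ l₁ =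
      Spec.map (X.presheaf.stalkSpecializes hx) ≫ l₂ := by
    change _ ≫ X.fromSpecStalk x = _ ≫ Spec.map (CommRingCat.ofHom ψ) ≫ X.fromSpecStalk y
    rw [Scheme.SpecMap_stalkSpecializes_fromSpecStalk, ← Category.assoc, ← Spec.map_comp, hcomp,
      Scheme.SpecMap_stalkSpecializes_fromSpecStalk]
  have hl : l₁ = l₂ :=
    ext_of_isDominant_of_isSeparated (terminal.from X) (Subsingleton.elim _ _)
      (Spec.map (X.presheaf.stalkSpecializes hx)) hU
  have h1 : l₁ (IsLocalRing.closedPoint (X.presheaf.stalk x)) = x :=
    Scheme.fromSpecStalk_closedPoint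
  have h2 : l₂ (IsLocalRing.closedPoint (X.presheaf.stalk x)) = y := by
    change X.fromSpecStalk y (Spec.map (CommRingCat.ofHom ψ)
      (IsLocalRing.closedPoint (X.presheaf.stalk x))) = y
    have : Spec.map (CommRingCat.ofHom ψ) (IsLocalRing.closedPoint (X.presheaf.stalk x)) =
        IsLocalRing.closedPoint (X.presheaf.stalk y) := IsLocalRing.comap_closedPoint ψ
    rw [this]
    exact Scheme.fromSpecStalk_closedPoint
  rw [← h1, ← h2, hl]

/-- a Noetherian integrally closed local domain of dimension one is a discrete valuation ring. -/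
theorem isDVR_of_dim_one (B : Type u) [CommRing B] [IsDomain B] [IsLocalRing B]
    [IsNoetherianRing B] (hic : IsIntegrallyClosed B) (hdim : ringKrullDim B = 1) :
    IsDiscreteValuationRing B := by
  have hnf : ¬ IsField B := by
    intro hf
    have := ringKrullDim_eq_zero_of_isField hf
    rw [hdim] at this
    exact one_ne_zero this
  haveI : Ring.KrullDimLE 1 B := Ring.krullDimLE_iff.mpr (by rw [hdim]; exact le_rfl)
  have hm0 : IsLocalRing.maximalIdeal B ≠ ⊥ := IsLocalRing.isField_iff_maximalIdeal_eq.not.mp hnf
  have htfae := (IsDiscreteValuationRing.TFAE B hnf).out 3 0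
  refine htfae.mp ?_
  refine ⟨hic, IsLocalRing.maximalIdeal B, ⟨hm0, inferInstance⟩, ?_⟩
  rintro P ⟨hP0, hP⟩
  exact IsLocalRing.eq_maximalIdeal (hP.isMaximal_of_ne_bot hP0)

/-- **S7938**. -/
theorem exists_functionField_orders (X : Scheme.{u}) [IsIntegral X] [IsNoetherian X]
    [X.IsSeparated]
    (hnor : ∀ x : X, IsIntegrallyClosed (X.presheaf.stalk x))
    {r : ℕ} (ξ : Fin r → X) (hξ : Function.Injective ξ)
    (hcodim : ∀ i, ringKrullDim (X.presheaf.stalk (ξ i)) = 1) (n : Fin r → ℤ) :
    ∃ f : X.functionField, f ≠ 0 ∧ ∀ i : Fin r,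
      ∃ (ϖ : X.presheaf.stalk (ξ i)) (_ : Irreducible ϖ) (w : (X.presheaf.stalk (ξ i))ˣ),
        f = algebraMap (X.presheaf.stalk (ξ i)) X.functionField (w : X.presheaf.stalk (ξ i)) *
          algebraMap (X.presheaf.stalk (ξ i)) X.functionField ϖ ^ (n i) := by
  classical
  cases r with
  | zero => exact ⟨1, one_ne_zero, fun i => i.elim0⟩
  | succ r =>
  haveI hdvr : ∀ i, IsDiscreteValuationRing (X.presheaf.stalk (ξ i)) := fun i =>
    isDVR_of_dim_one _ (hnor (ξ i)) (hcodim i)
  let O : Fin (r + 1) → ValuationSubring X.functionField := fun i =>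
    (ValuationRing.valuation (X.presheaf.stalk (ξ i)) X.functionField).valuationSubring
  have hmem : ∀ i (x : X.functionField), x ∈ O i ↔
      ∃ a : X.presheaf.stalk (ξ i), algebraMap _ X.functionField a = x := fun i x =>
    ValuationRing.mem_integer_iff _ _ x
  -- the isomorphisms `O_{X, ξ_i} ≃ O i`
  let φ : ∀ i, X.presheaf.stalk (ξ i) →+* O i := fun i =>
    (algebraMap (X.presheaf.stalk (ξ i)) X.functionField).codRestrict (O i).toSubring
      (fun a => (hmem i _).mpr ⟨a, rfl⟩)
  have hφ : ∀ i a, ((φ i a : O i) : X.functionField) = algebraMap _ X.functionField a :=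
    fun i a => rfl
  have hφbij : ∀ i, Function.Bijective (φ i) := by
    intro i
    constructor
    · intro a b hab
      apply IsFractionRing.injective (X.presheaf.stalk (ξ i)) X.functionField
      rw [← hφ, ← hφ, hab]
    · rintro ⟨x, hx⟩
      obtain ⟨a, ha⟩ := (hmem i x).mp hx
      exact ⟨a, Subtype.ext ha⟩
  let e : ∀ i, X.presheaf.stalk (ξ i) ≃+* O i := fun i => RingEquiv.ofBijective (φ i) (hφbij i)
  have hO : ∀ i, IsDiscreteValuationRing (O i) := fun i =>
    IsDiscreteValuationRing.RingEquivClass.isDiscreteValuationRing (e i)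
  have hinj : Function.Injective O := by
    intro i j hij
    apply hξ
    apply eq_of_range_algebraMap_eq
    ext x
    rw [RingHom.mem_range, RingHom.mem_range, ← hmem i x, ← hmem j x, hij]
  obtain ⟨f, hf⟩ := Groth.Agent.S7931.result X.functionField O hO hinj (fun _ => 0) n
  have key : ∀ i : Fin (r + 1),
      ∃ (ϖ : X.presheaf.stalk (ξ i)) (_ : Irreducible ϖ) (w : (X.presheaf.stalk (ξ i))ˣ),
        f = algebraMap (X.presheaf.stalk (ξ i)) X.functionField (w : X.presheaf.stalk (ξ i)) *
          algebraMap (X.presheaf.stalk (ξ i)) X.functionField ϖ ^ (n i) := by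
    intro i
    obtain ⟨ϖ, hϖ, w, hw⟩ := hf i
    rw [sub_zero] at hw
    refine ⟨(e i).symm ϖ, (MulEquiv.irreducible_iff (e i).symm.toMulEquiv).mpr hϖ,
      Units.map (e i).symm.toRingHom.toMonoidHom w, ?_⟩
    rw [hw]
    have h1 : algebraMap (X.presheaf.stalk (ξ i)) X.functionField ((e i).symm ϖ) =
        ((ϖ : O i) : X.functionField) := by
      rw [← hφ i]
      change (((e i) ((e i).symm ϖ) : O i) : X.functionField) = _
      rw [RingEquiv.apply_symm_apply]
    have h2 : algebraMap (X.presheaf.stalk (ξ i)) X.functionField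
        ((Units.map (e i).symm.toRingHom.toMonoidHom w : (X.presheaf.stalk (ξ i))ˣ) :
          X.presheaf.stalk (ξ i)) = (((w : (O i)ˣ) : O i) : X.functionField) := by
      rw [← hφ i]
      change (((e i) ((e i).symm (w : O i)) : O i) : X.functionField) = _
      rw [RingEquiv.apply_symm_apply]
    rw [h1, h2]
  refine ⟨f, ?_, key⟩
  obtain ⟨ϖ, hϖ, w, hw⟩ := key 0
  rw [hw]
  have hinjK := IsFractionRing.injective (X.presheaf.stalk (ξ 0)) X.functionField
  refine mul_ne_zero ?_ (zpow_ne_zero _ ?_)
  · rw [ne_eq, map_eq_zero_iff _ hinjK]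
    exact w.ne_zero
  · rw [ne_eq, map_eq_zero_iff _ hinjK]
    exact hϖ.ne_zero

end Groth.Agent.H5.ArS
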