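import Mathlib
import Groth.Prelude.Def_ArSurf
import Groth.Agent.Lib.Lead.QC.IdealPull
import Groth.Agent.Lib.Lead.QC.IdealComap
import Groth.Agent.Lib.Lead.QC.CartierBC
import Groth.Agent.Lib.Lead.QC.InvInverse
import Groth.Agent.Lib.Lead.QC.InvBasis
import Groth.Agent.Lib.Lead.QC.PullInv
import Groth.Agent.Lib.Helper5.DegC.Cartier
import Groth.Agent.Lib.Helper5.IntN.Num3
import Groth.Agent.Lib.Helper5.IntN.Num8
import Groth.Agent.Lib.Helper5.Curve6.Rat

/-!
# Degrees of restrictions of `O(D)` to a curve (towards arithmetic surfaces)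
-/

set_option autoImplicit false
set_option linter.style.haveILetI false
universe u
open CategoryTheory CategoryTheory.Limits AlgebraicGeometry TopologicalSpace Opposite

namespace Groth.Agent.H5.ArS

open Groth.Agent.LD Groth.Agent.LD.QC Groth.Agent.H5.IntN Groth.Agent.H5.DegC
  Groth.Agent.H5.Snap

/-- the inverse image of an effective Cartier divisor on an integral scheme whose generic point
is not mapped into the divisor is an effective Cartier divisor. -/
theorem isEffCartierIdeal_comap_of_generic {X Y : Scheme.{u}} [IsIntegral Y] (ι : Y ⟶ X)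
    (I : X.IdealSheafData) (hI : BlowUp.IsEffCartierIdeal I)
    (hgen : ι (genericPoint Y) ∉ (I.support : Set X)) :
    BlowUp.IsEffCartierIdeal (I.comap ι) := by
  intro z
  obtain ⟨U, hxU, -, a, ha, hUa⟩ := exists_affine_principal_le I hI (ι z) ⊤ trivial
  obtain ⟨V, hV, hzV, hVle⟩ := exists_isAffineOpen_mem_and_subset (x := z) (U := ι ⁻¹ᵁ U.1) hxU
  refine ⟨⟨V, hV⟩, hzV, (ι.appLE U.1 V hVle).hom a, ?_, ?_⟩
  · haveI : Nonempty V := ⟨⟨z, hzV⟩⟩
    haveI : IsDomain Γ(Y, V) := inferInstance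
    rw [mem_nonZeroDivisors_iff_ne_zero]
    intro h0
    have h1 : (I.comap ι).ideal ⟨V, hV⟩ = ⊥ := by
      rw [ideal_comap_of_le I ι U ⟨V, hV⟩ hVle, hUa, Ideal.map_span, Set.image_singleton, h0]
      simp
    have hη : genericPoint Y ∈ V :=
      ((genericPoint_spec Y).mem_open_set_iff V.2).mpr ⟨z, trivial, hzV⟩
    have h2 : genericPoint Y ∈ (I.comap ι).support := by
      rw [Scheme.IdealSheafData.mem_support_iff_of_mem (U := ⟨V, hV⟩) hη, h1]
      simp
    rw [Scheme.IdealSheafData.support_comap] at h2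
    exact hgen h2
  · rw [ideal_comap_of_le I ι U ⟨V, hV⟩ hVle, hUa, Ideal.map_span, Set.image_singleton]

variable (k : Type u) [Field k] {Y : Scheme.{u}} [Y.Over (Spec (CommRingCat.of k))]
  [IsProper (Y ↘ Spec (CommRingCat.of k))]

/-- `ArSurf.curveDeg` of an invertible module is `χ(M) - χ(O)`. -/
theorem curveDeg_eq_deg (hdim : topologicalKrullDim Y ≤ 1) (M : Y.Modules)
    (hM : PicF.IsInvertible M) :
    ArSurf.curveDeg k Y M = Curv2.deg k Y M 1 := by
  have hY1 : topologicalKrullDim Y ≤ ((1 : ℕ) : WithBot ℕ∞) := by exact_mod_cast hdim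
  haveI := Curve.isLocallyNoetherian k Y
  unfold ArSurf.curveDeg Curv2.deg
  rw [eulerCharLE_eq_euler k 1 hY1 M (isCoh_of_isInvertible hM),
    eulerCharLE_eq_euler k 1 hY1 _ (Groth.Agent.LD.PF.isCoh_unitMod Y)]
  push_cast
  ring

/-- the degree of the inverse. -/
theorem curveDeg_of_inverse (hdim : topologicalKrullDim Y ≤ 1) (A B : Y.Modules)
    (hA : PicF.IsInvertible A) (hB : PicF.IsInvertible B)
    (e : CohB1.tensorMod A B ≅ Coh.structureModule Y) :
    ArSurf.curveDeg k Y A = - ArSurf.curveDeg k Y B := by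
  have hY1 : topologicalKrullDim Y ≤ ((1 : ℕ) : WithBot ℕ∞) := by exact_mod_cast hdim
  haveI := Curve.isLocallyNoetherian k Y
  have hOc : Coh.IsCoh (unitMod Y) := Groth.Agent.LD.PF.isCoh_unitMod Y
  have hsupp : topologicalKrullDim (CohB1.support (unitMod Y)) ≤ 1 :=
    (topologicalKrullDim_subspace_le _ _).trans hdim
  have h1 := intNum_one_unit k 1 hY1 _ hA
  have h2 := intNum_one_unit k 1 hY1 _ hB
  have h3 := intNum_one_inverse k 1 hY1 _ _ hA hB e (unitMod Y) hOc hsupp
  rw [curveDeg_eq_deg k hdim A hA, curveDeg_eq_deg k hdim B hB]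
  unfold Curv2.deg
  have : Curv2.euler k Y (Coh.structureModule Y) = Curv2.euler k Y (unitMod Y) := rfl
  rw [this]
  push_cast
  linarith

variable {X : Scheme.{u}} (ι : Y ⟶ X)

/-- restricting `O(D)` to a curve: the data. -/
theorem pullback_inverse_facts (I : X.IdealSheafData) (hI : BlowUp.IsEffCartierIdeal I)
    (L : X.Modules) (hL : ClSub.IsInverseOf L (ClSub.idealMod I)) :
    PicF.IsInvertible L ∧ PicF.IsInvertible ((Scheme.Modules.pullback ι).obj L) ∧
      PicF.IsInvertible ((Scheme.Modules.pullback ι).obj (ClSub.idealMod I)) ∧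
      Nonempty (CohB1.tensorMod ((Scheme.Modules.pullback ι).obj L)
        ((Scheme.Modules.pullback ι).obj (ClSub.idealMod I)) ≅ Coh.structureModule Y) := by
  have hIinv : PicF.IsInvertible (ClSub.idealMod I) := (isInvertible_idealMod_iff I).mpr hI
  obtain ⟨e⟩ := hL
  have hLinv : PicF.IsInvertible L :=
    isInvertible_of_tensor_iso hIinv (tensorCommGen _ _ ≪≫ e)
  exact ⟨hLinv, isInvertible_pullback ι hLinv, isInvertible_pullback ι hIinv,
    ⟨(pbTensorIso ι L _ hLinv hIinv).symm ≪≫ (Scheme.Modules.pullback ι).mapIso e ≪≫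
      pbUnitIso ι⟩⟩

/-- **the degree of `O(D)` restricted to a curve not contained in `D`** is the length of the
scheme theoretic intersection. -/
theorem curveDeg_pullback_eq_finrank (hdim : topologicalKrullDim Y ≤ 1)
    (I : X.IdealSheafData) (hI : BlowUp.IsEffCartierIdeal I)
    (hJ : BlowUp.IsEffCartierIdeal (I.comap ι))
    (L : X.Modules) (hL : ClSub.IsInverseOf L (ClSub.idealMod I)) :
    ArSurf.curveDeg k Y ((Scheme.Modules.pullback ι).obj L) =
      (Module.finrank k (Coh.HH Y (ClSub.quotMod (I.comap ι)) 0) : ℤ) := by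
  obtain ⟨hLinv, hpL, hpI, ⟨e⟩⟩ := pullback_inverse_facts ι I hI L hL
  obtain ⟨φ⟩ := nonempty_pullback_idealMod_iso ι I hI hJ
  have e' : CohB1.tensorMod ((Scheme.Modules.pullback ι).obj L) (ClSub.idealMod (I.comap ι)) ≅
      Coh.structureModule Y := tensorIso' (Iso.refl _) φ.symm ≪≫ e
  rw [curveDeg_eq_deg k hdim _ hpL]
  exact deg_of_inverse_idealMod k hdim (I.comap ι) hJ _ hpL ⟨e'⟩

/-- `h⁰(O/J) = 0` iff the closed subscheme is empty. -/
theorem finrank_H0_quotMod_eq_zero_iff (J : Y.IdealSheafData) :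
    Module.finrank k (Coh.HH Y (ClSub.quotMod J) 0) = 0 ↔ (J.support : Set Y) = ∅ := by
  haveI := Curve.isLocallyNoetherian k Y
  have hfin : Module.Finite k (Coh.HH Y (ClSub.quotMod J) 0) :=
    Curve.finite_HH k Y _ (isCoh_quotMod J) 0
  letI oS : J.subscheme.Over (Spec (CommRingCat.of k)) :=
    ⟨J.subschemeι ≫ (Y ↘ Spec (CommRingCat.of k))⟩
  haveI : IsProper (J.subscheme ↘ Spec (CommRingCat.of k)) := by
    change IsProper (J.subschemeι ≫ (Y ↘ Spec (CommRingCat.of k)))
    infer_instance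
  haveI := Curve.isLocallyNoetherian k J.subscheme
  have h1 := Groth.Agent.H5.Curve6.finrank_H0_quotMod_ker_eq k Y J.subschemeι
  rw [Scheme.IdealSheafData.ker_subschemeι] at h1
  have h2 := Groth.Agent.LD.FF.finrank_HH0_eq k J.subscheme
  have h3 : Module.finrank k (Coh.HH Y (ClSub.quotMod J) 0) =
      Module.finrank k (Coh.HH J.subscheme (Coh.structureModule J.subscheme) 0) := h1.trans h2.symm
  rw [h3]
  haveI hfin' : Module.Finite k (Coh.HH J.subscheme (Coh.structureModule J.subscheme) 0) :=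
    Curve.finite_HH k J.subscheme _ (Groth.Agent.LD.PF.isCoh_unitMod _) 0
  letI : Algebra k Γ(J.subscheme, ⊤) :=
    (Coh.toGlobal (J.subscheme ↘ Spec (CommRingCat.of k))).toAlgebra
  have e := Groth.Agent.LD.FF.HH0LinearEquivΓ k J.subscheme
  rw [Module.finrank_zero_iff, e.subsingleton_congr]
  constructor
  · intro hsub
    by_contra hne
    obtain ⟨x, hx⟩ := Set.nonempty_iff_ne_empty.mpr hne
    have hx' : x ∈ Set.range J.subschemeι := by
      rw [Scheme.IdealSheafData.range_subschemeι]; exact hx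
    obtain ⟨s, -⟩ := hx'
    haveI : Nonempty (⊤ : J.subscheme.Opens) := ⟨⟨s, trivial⟩⟩
    haveI : Nontrivial Γ(J.subscheme, ⊤) := inferInstance
    exact not_subsingleton _ hsub
  · intro hempty
    haveI : IsEmpty J.subscheme := by
      constructor
      intro s
      have : J.subschemeι s ∈ (J.support : Set Y) := by
        rw [← Scheme.IdealSheafData.range_subschemeι]; exact ⟨s, rfl⟩
      rw [hempty] at this
      exact this
    infer_instance

end Groth.Agent.H5.ArS
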