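import Mathlib
import Groth.Agent.Lib.Helper1.PushO6
import Groth.Agent.Lib.Helper1.PushO4
import Groth.Agent.Lib.Helper1.DimIneqE
import Groth.Agent.Lib.Helper1.DimIneqF
import Groth.Agent.Lib.Helper1.DimFormula3
import Groth.Agent.Lib.Helper1.JacobsonTrdeg
import Groth.Agent.Lib.Helper5.FtPts.QuasiFiniteFiber
import Groth.Agent.Lib.Helper5.AG.ProjProper

/-!
# A proper birational morphism with `O_Y = f_* O_X` is an isomorphism outside codimension two (S7899)
-/

set_option autoImplicit false
set_option linter.style.haveILetI false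
universe u
open CategoryTheory CategoryTheory.Limits AlgebraicGeometry TopologicalSpace Opposite

namespace Groth.Agent.H5.ArS

theorem withBot_one_le_of_pos (d : WithBot ℕ∞) (h : 0 < d) : 1 ≤ d := by
  induction d using WithBot.recBotCoe with
  | bot => exact absurd h (by simp)
  | coe n =>
    have h2 : (0 : ℕ∞) < n := by exact_mod_cast h
    have : (1 : ℕ∞) ≤ n := Order.one_le_iff_pos.2 h2
    exact_mod_cast this

/-- pointwise criterion for quasi-finiteness: no nontrivial specializations inside the fibre. -/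
theorem quasiFiniteAt_of_no_specializes_in_fiber {Y S : Scheme.{u}} (g : Y ⟶ S)
    [LocallyOfFiniteType g] (y : Y)
    (hcl : ∀ a b : Y, g a = g y → g b = g y → a ⤳ b → b = a) : g.QuasiFiniteAt y := by
  rw [Groth.Agent.H5.FtPts.quasiFiniteAt_iff_isClosed_and_no_generization]
  refine ⟨(Groth.Agent.H5.FtPts.isClosed_singleton_asFiber_iff g y).mpr
    (fun z hz hgz => hcl y z rfl hgz hz), fun y'' hy'' => ?_⟩
  have hmem : g.fiberι (g y) y'' ∈ g ⁻¹' {g y} := by
    rw [← g.range_fiberι]; exact ⟨y'', rfl⟩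
  have h1 : IsClosed ({y''} : Set ↑(g.fiber (g y))) := by
    rw [Groth.Agent.H5.FtPts.isClosed_singleton_fiber_iff]
    intro z hz hgz
    exact hcl _ _ hmem hgz hz
  have h2 : g.asFiber y ∈ closure ({y''} : Set ↑(g.fiber (g y))) :=
    specializes_iff_mem_closure.mp hy''
  rw [h1.closure_eq] at h2
  exact (Set.mem_singleton_iff.mp h2).symm

/-- variant of Mathlib's `exists_isFinite_morphismRestrict_of_finite_preimage_singleton`. -/
theorem exists_isFinite_morphismRestrict_of_forall_quasiFiniteAt {X Y : Scheme.{u}} (f : X ⟶ Y)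
    [IsProper f] (y : Y) (h : ∀ x, f x = y → f.QuasiFiniteAt x) :
    ∃ V : Y.Opens, y ∈ V ∧ IsFinite (f ∣_ V) := by
  let V : Y.Opens := ⟨_, (f.isClosedMap _ f.quasiFiniteLocus.isOpen.isClosed_compl).isOpen_compl⟩
  refine ⟨V, ?_, ?_⟩
  · simpa [V, not_imp_not] using h
  · suffices LocallyQuasiFinite (f ∣_ V) from .of_isProper_of_locallyQuasiFinite _
    rw [← Scheme.Hom.quasiFiniteLocus_eq_top_iff]
    ext x
    have : f.QuasiFiniteAt ((f ⁻¹ᵁ V).ι x) := by by_contra H; exact x.2 ⟨_, H, by simp⟩
    rw [← Scheme.Hom.quasiFiniteAt_comp_iff_of_isOpenImmersion, ← morphismRestrict_ι,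
      Scheme.Hom.quasiFiniteAt_comp_iff] at this
    simpa

/-- **S7899**, proper form. -/
theorem exists_isIso_compl_codim_two {X Y : Scheme.{u}} [IsIntegral X] [IsIntegral Y]
    [IsLocallyNoetherian Y] (f : X ⟶ Y) [IsProper f]
    (hbir : ∃ U : Y.Opens, (U : Set Y).Nonempty ∧ IsIso (f ∣_ U))
    (hO : ∀ U : Y.Opens, IsAffineOpen U → IsIso (f.app U)) :
    ∃ V : Y.Opens, IsIso (f ∣_ V) ∧
      ∀ y : Y, y ∉ (V : Set Y) → 2 ≤ ringKrullDim (Y.presheaf.stalk y) := by
  haveI : IsLocallyNoetherian X := LocallyOfFiniteType.isLocallyNoetherian f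
  obtain ⟨U, hU, hfU⟩ := hbir
  obtain ⟨hgen, hbirs⟩ := Groth.Agent.H1.PushO.birational_of_isIso_morphismRestrict f U hU hfU
  let ι := {V' : Y.Opens // IsIso (f ∣_ V')}
  set V : Y.Opens := ⨆ i : ι, i.1 with hVdef
  have hViso : IsIso (f ∣_ V) :=
    Groth.Agent.H5.GF.morphismRestrict_iSup_of_forall (P := MorphismProperty.isomorphisms Scheme)
      f (fun i : ι => i.1) (fun i => i.2)
  refine ⟨V, hViso, ?_⟩
  intro y hy
  by_contra hdim
  apply hy
  have hle : ringKrullDim (Y.presheaf.stalk y) ≤ 1 :=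
    Groth.Agent.H1.PushO.withBot_le_one_of_not_two_le _ hdim
  -- the generic point has residue transcendence degree zero
  have hqξ : f.QuasiFiniteAt (genericPoint X) :=
    RingHom.QuasiFinite.of_finite (RingHom.Finite.of_surjective _
      (ConcreteCategory.bijective_of_isIso (f.stalkMap (genericPoint X))).2)
  have hE : Dual3.resTrdeg f (genericPoint X) = 0 :=
    Groth.Agent.H1.JacobsonTrdeg.resTrdeg_eq_zero_of_finite f _ hqξ
  -- dimension bound on the fibre
  have hdimle : ∀ z : X, f z = y → ringKrullDim (X.presheaf.stalk z) ≤ 1 := by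
    intro z hz
    have key := Groth.Agent.H1.DimIneq.stalk_dim_add_resTrdeg_le f z
      (Dual3.resTrdeg f (genericPoint X)) (by
        intro ξ' _ hz'
        rw [← Groth.Agent.H1.DimIneq.eq_of_specializes_of_stalk_dim_eq_zero ξ' (genericPoint X) hz'
          (genericPoint_specializes ξ')])
    rw [hE, hz] at key
    simp only [map_zero, WithBot.coe_zero, add_zero] at key
    refine le_trans ?_ (key.trans hle)
    exact le_add_of_nonneg_right (WithBot.coe_nonneg.2 (by simp))
  -- no specializations within the fibre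
  have hcl : ∀ a b : X, f a = y → f b = y → a ⤳ b → b = a := by
    intro a b ha hb hab
    by_contra hne
    have h1 := Groth.Agent.H1.DimFormula.ringKrullDim_stalk_lt_of_specializes hab (Ne.symm hne)
    have h2 := hdimle b hb
    by_cases haξ : a = genericPoint X
    · -- then `y` is the generic point and `dim O_{Y,y} = 0`
      have hyη : y = genericPoint Y := by rw [← ha, haξ, hgen]
      have h0 : ringKrullDim (Y.presheaf.stalk y) = 0 := by
        rw [hyη]
        exact Groth.Agent.H1.DimFormula.ringKrullDim_stalk_eq_zero _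
          (fun z hz => (hz.antisymm (genericPoint_specializes z)).eq)
      have key := Groth.Agent.H1.DimIneq.stalk_dim_add_resTrdeg_le f b
        (Dual3.resTrdeg f (genericPoint X)) (by
          intro ξ' _ hz'
          rw [← Groth.Agent.H1.DimIneq.eq_of_specializes_of_stalk_dim_eq_zero ξ' (genericPoint X)
            hz' (genericPoint_specializes ξ')])
      rw [hE, hb, h0] at key
      simp only [map_zero, WithBot.coe_zero, add_zero] at key
      have h3 : ringKrullDim (X.presheaf.stalk b) ≤ 0 :=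
        le_trans (le_add_of_nonneg_right (WithBot.coe_nonneg.2 (by simp))) key
      have h4 : (0 : WithBot ℕ∞) ≤ ringKrullDim (X.presheaf.stalk a) := ringKrullDim_nonneg_of_nontrivial
      exact absurd (lt_of_le_of_lt h4 (lt_of_lt_of_le h1 h3)) (lt_irrefl _)
    · have h3 := Groth.Agent.H1.DimFormula.ringKrullDim_stalk_lt_of_specializes
        (genericPoint_specializes a) (Ne.symm haξ)
      have h4 : (0 : WithBot ℕ∞) ≤ ringKrullDim (X.presheaf.stalk (genericPoint X)) :=
        ringKrullDim_nonneg_of_nontrivial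
      have h5 : (1 : WithBot ℕ∞) ≤ ringKrullDim (X.presheaf.stalk a) := by
        have := lt_of_le_of_lt h4 h3
        exact withBot_one_le_of_pos _ this
      have h6 : (1 : WithBot ℕ∞) < ringKrullDim (X.presheaf.stalk b) := lt_of_le_of_lt h5 h1
      exact absurd (lt_of_lt_of_le h6 h2) (lt_irrefl _)
  have hqf : ∀ x, f x = y → f.QuasiFiniteAt x := by
    intro x hx
    apply quasiFiniteAt_of_no_specializes_in_fiber
    intro a b ha hb hab
    exact hcl a b (ha.trans hx) (hb.trans hx) hab
  obtain ⟨W, hyW, hW⟩ := exists_isFinite_morphismRestrict_of_forall_quasiFiniteAt f y hqf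
  obtain ⟨_, ⟨W', hW' : IsAffineOpen W', rfl⟩, hyW', hW'W⟩ :=
    Y.isBasis_affineOpens.exists_subset_of_mem_open hyW W.isOpen
  have hle' : W' ≤ W := hW'W
  have hfin : IsFinite (f ∣_ W') :=
    Groth.Agent.H1.PushO.morphismRestrict_of_le (P := @IsFinite) f hle' hW
  haveI : IsAffine W' := hW'
  rw [HasAffineProperty.iff_of_isAffine (P := @IsFinite)] at hfin
  have hfW' : IsAffineOpen (f ⁻¹ᵁ W') := hfin.1
  have hiso : IsIso (f ∣_ W') :=
    Groth.Agent.H1.PushO.isIso_morphismRestrict_of_isIso_app f hW' hfW' (hO W' hW')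
  exact (le_iSup (fun i : ι => i.1) ⟨W', hiso⟩) hyW'

end Groth.Agent.H5.ArS
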