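import Mathlib

/-!
# Combinatorics of the chain `Σ Γ_i = Z_0 ⊂ ⋯ ⊂ Z_s = Σ (m_i/d) Γ_i` (S3323)
-/

set_option autoImplicit false
universe u

namespace Groth.Agent.H5.ArS

open Finset

section choose

variable {n : ℕ} (M : Fin n → Fin n → ℤ)

/-- on an indecomposable matrix with nonnegative off-diagonal entries and `M m = 0`, `m > 0`,
every nonnegative nonzero vector `b` not proportional to `m` has an index `i` with `b i > 0`
and `(M b) i < 0`. -/
theorem exists_index_neg (m : Fin n → ℤ) (hm : ∀ i, 0 < m i)
    (h1 : ∀ i j, i ≠ j → 0 ≤ M i j) (h2 : ∀ i, ∑ j, m j * M i j = 0)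
    (h3 : ∀ S : Finset (Fin n), S.Nonempty → (∀ i ∈ S, ∀ j ∉ S, M i j = 0) → S = Finset.univ)
    (b : Fin n → ℤ) (hb0 : ∀ i, 0 ≤ b i) (hbne : ∃ i, b i ≠ 0)
    (hnp : ¬ ∀ i j, b i * m j = b j * m i) :
    ∃ i, 0 < b i ∧ ∑ j, b j * M i j < 0 := by
  classical
  obtain ⟨l₀, hl₀⟩ := hbne
  have hl₀pos : 0 < b l₀ := lt_of_le_of_ne (hb0 l₀) (Ne.symm hl₀)
  -- a maximizer of the ratio
  obtain ⟨i₀, -, hi₀⟩ := Finset.exists_max_image Finset.univ (fun i => (b i : ℚ) / (m i : ℚ))
    ⟨l₀, Finset.mem_univ _⟩
  have hmQ : ∀ i, (0 : ℚ) < (m i : ℚ) := fun i => by exact_mod_cast hm i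
  have hcross : ∀ i j, (b j : ℚ) / (m j : ℚ) ≤ (b i : ℚ) / (m i : ℚ) → b j * m i ≤ b i * m j := by
    intro i j h
    rw [div_le_div_iff₀ (hmQ j) (hmQ i)] at h
    exact_mod_cast h
  set S : Finset (Fin n) := Finset.univ.filter (fun i => ∀ j, b j * m i ≤ b i * m j) with hS
  have hSne : S.Nonempty :=
    ⟨i₀, by
      rw [hS, Finset.mem_filter]
      exact ⟨Finset.mem_univ _, fun j => hcross i₀ j (hi₀ j (Finset.mem_univ _))⟩⟩
  have hSuniv : S ≠ Finset.univ := by
    intro h
    apply hnp
    intro i j
    have hi : i ∈ S := h ▸ Finset.mem_univ i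
    have hj : j ∈ S := h ▸ Finset.mem_univ j
    rw [hS, Finset.mem_filter] at hi hj
    exact le_antisymm (hj.2 i) (hi.2 j)
  have hex : ∃ i ∈ S, ∃ j, j ∉ S ∧ M i j ≠ 0 := by
    by_contra hcon
    push Not at hcon
    exact hSuniv (h3 S hSne hcon)
  obtain ⟨i, hiS, j₀, hj₀S, hMne⟩ := hex
  have hij₀ : i ≠ j₀ := fun h => hj₀S (h ▸ hiS)
  have hMpos : 0 < M i j₀ := lt_of_le_of_ne (h1 i j₀ hij₀) (Ne.symm hMne)
  rw [hS, Finset.mem_filter] at hiS
  have hi := hiS.2
  have hbi : 0 < b i := by
    have h := hi l₀
    have h' : 0 < b l₀ * m i := mul_pos hl₀pos (hm i)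
    have h'' : 0 < b i * m l₀ := lt_of_lt_of_le h' h
    by_contra hneg
    push Not at hneg
    have : b i * m l₀ ≤ 0 := mul_nonpos_of_nonpos_of_nonneg hneg (hm l₀).le
    omega
  refine ⟨i, hbi, ?_⟩
  -- the strict inequality at `j₀`
  have hstrict : b j₀ * m i < b i * m j₀ := by
    have hj₀ : ¬ ∀ j, b j * m j₀ ≤ b j₀ * m j := by
      intro h
      apply hj₀S
      rw [hS, Finset.mem_filter]
      exact ⟨Finset.mem_univ _, h⟩
    push Not at hj₀
    obtain ⟨l, hl⟩ := hj₀
    have hil := hi l
    by_contra hcon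
    push Not at hcon
    -- b i * m j₀ ≤ b j₀ * m i, b j₀ * m l < b l * m j₀, b l * m i ≤ b i * m l
    have e1 : b i * m j₀ * m l ≤ b j₀ * m i * m l := mul_le_mul_of_nonneg_right hcon (hm l).le
    have e2 : b j₀ * m l * m i < b l * m j₀ * m i := mul_lt_mul_of_pos_right hl (hm i)
    have e3 : b l * m i * m j₀ ≤ b i * m l * m j₀ := mul_le_mul_of_nonneg_right hil (hm j₀).le
    nlinarith
  have hkey : m i * ∑ j, b j * M i j = ∑ j, (b j * m i - b i * m j) * M i j := by
    have : ∑ j, (b j * m i - b i * m j) * M i j =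
        m i * ∑ j, b j * M i j - b i * ∑ j, m j * M i j := by
      rw [Finset.mul_sum, Finset.mul_sum, ← Finset.sum_sub_distrib]
      exact Finset.sum_congr rfl (fun j _ => by ring)
    rw [this, h2 i, mul_zero, sub_zero]
  have hneg : ∑ j, (b j * m i - b i * m j) * M i j < 0 := by
    apply Finset.sum_neg'
    · intro j _
      by_cases hji : j = i
      · subst hji
        have : b j * m j - b j * m j = 0 := sub_self _
        rw [this, zero_mul]
      · exact mul_nonpos_of_nonpos_of_nonneg (sub_nonpos.mpr (hi j)) (h1 i j (Ne.symm hji))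
    · exact ⟨j₀, Finset.mem_univ _, mul_neg_of_neg_of_pos (sub_neg.mpr hstrict) hMpos⟩
  rw [← hkey] at hneg
  by_contra hcon
  push Not at hcon
  have : 0 ≤ m i * ∑ j, b j * M i j := mul_nonneg (hm i).le hcon
  omega

end choose

/-- a vector `1 ≤ a ≤ m'`, `a ≠ m'`, with `gcd m' = 1`: then `m' - a` is not proportional to
`m'`. -/
theorem not_proportional {n : ℕ} (m' a : Fin n → ℕ) (hg : Finset.univ.gcd m' = 1)
    (ha1 : ∀ i, 1 ≤ a i) (hale : ∀ i, a i ≤ m' i) (hne : a ≠ m') :
    ¬ ∀ i j, (((m' i - a i : ℕ) : ℤ)) * (m' j : ℤ) = ((m' j - a j : ℕ) : ℤ) * (m' i : ℤ) := by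
  intro h
  apply hne
  funext i
  have hdvd : m' i ∣ m' i - a i := by
    have h1 : m' i ∣ Finset.univ.gcd (fun j => (m' i - a i) * m' j) := by
      apply Finset.dvd_gcd
      intro j _
      have := h i j
      have h' : (m' i - a i) * m' j = (m' j - a j) * m' i := by exact_mod_cast this
      rw [h']
      exact Dvd.intro_left _ rfl
    rw [Finset.gcd_mul_left, hg, mul_one, normalize_eq] at h1
    exact h1
  have hlt : m' i - a i < m' i := by have := ha1 i; have := hale i; omega
  have := Nat.eq_zero_of_dvd_of_lt hdvd hlt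
  have := hale i
  omega

section chain

variable {n : ℕ} (F : (Fin n → ℕ) → Prop)

/-- chains of vectors starting at `(1,…,1)`, adding one unit vector at a time, all of whose
members satisfy `F`. -/
def Reach (a : Fin n → ℕ) : Prop :=
  ∃ (s : ℕ) (c : Fin (s + 1) → Fin n → ℕ), (c 0 = fun _ => 1) ∧ c (Fin.last s) = a ∧
    (∀ j : Fin s, ∃ i, c j.succ = c j.castSucc + Pi.single i 1) ∧ ∀ j, F (c j)

theorem reach_ones (h : F fun _ => 1) : Reach F (fun _ => 1) :=
  ⟨0, fun _ _ => 1, rfl, rfl, fun j => j.elim0, fun _ => h⟩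

theorem reach_snoc (a : Fin n → ℕ) (i : Fin n) (h : Reach F a) (hF : F (a + Pi.single i 1)) :
    Reach F (a + Pi.single i 1) := by
  obtain ⟨s, c, h0, hl, hst, hF'⟩ := h
  refine ⟨s + 1, Fin.snoc (α := fun _ => Fin n → ℕ) c (a + Pi.single i 1), ?_, ?_, ?_, ?_⟩
  · have : (0 : Fin (s + 1 + 1)) = Fin.castSucc (0 : Fin (s + 1)) := rfl
    rw [this, Fin.snoc_castSucc]
    exact h0
  · exact Fin.snoc_last (α := fun _ => Fin n → ℕ) _ _
  · intro j
    refine Fin.lastCases ?_ (fun j' => ?_) j
    · refine ⟨i, ?_⟩
      rw [Fin.succ_last, Fin.snoc_last (α := fun _ => Fin n → ℕ), Fin.snoc_castSucc, hl]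
    · obtain ⟨i', hi'⟩ := hst j'
      refine ⟨i', ?_⟩
      rw [Fin.succ_castSucc, Fin.snoc_castSucc, Fin.snoc_castSucc]
      exact hi'
  · intro j
    refine Fin.lastCases ?_ (fun j' => ?_) j
    · rw [Fin.snoc_last (α := fun _ => Fin n → ℕ)]
      exact hF
    · rw [Fin.snoc_castSucc]
      exact hF' j'

variable (M : Fin n → Fin n → ℤ)

/-- **the chain**. -/
theorem exists_chain (m' : Fin n → ℕ) (hm' : ∀ i, 0 < m' i) (hg : Finset.univ.gcd m' = 1)
    (h1 : ∀ i j, i ≠ j → 0 ≤ M i j) (h2 : ∀ i, ∑ j, (m' j : ℤ) * M i j = 0)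
    (h3 : ∀ S : Finset (Fin n), S.Nonempty → (∀ i ∈ S, ∀ j ∉ S, M i j = 0) → S = Finset.univ)
    (hbase : F fun _ => 1)
    (hstep : ∀ (a : Fin n → ℕ) (i : Fin n), (∀ j, 1 ≤ a j) → a i < m' i → F a →
      0 < ∑ j, (a j : ℤ) * M i j → F (a + Pi.single i 1)) :
    Reach F m' := by
  have key : ∀ (N : ℕ) (a : Fin n → ℕ), (∀ i, 1 ≤ a i) → (∀ i, a i ≤ m' i) →
      ∑ i, (m' i - a i) = N → Reach F a → Reach F m' := by
    intro N
    induction N with
    | zero =>
      intro a ha1 hale hsum hR
      have : a = m' := by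
        funext i
        have := (Finset.sum_eq_zero_iff.mp hsum) i (Finset.mem_univ _)
        have := hale i
        omega
      rw [← this]
      exact hR
    | succ N ih =>
      intro a ha1 hale hsum hR
      have hne : a ≠ m' := by
        intro h
        rw [h] at hsum
        simp at hsum
      set b : Fin n → ℤ := fun i => ((m' i - a i : ℕ) : ℤ) with hb
      have hbne : ∃ i, b i ≠ 0 := by
        by_contra hcon
        push Not at hcon
        apply hne
        funext i
        have h := hcon i
        have h'' : ((m' i - a i : ℕ) : ℤ) = 0 := h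
        have h' : m' i - a i = 0 := by exact_mod_cast h''
        have := hale i
        omega
      obtain ⟨i, hbi, hneg⟩ := exists_index_neg M (fun i => (m' i : ℤ))
        (fun i => by exact_mod_cast hm' i) h1 h2 h3 b (fun i => Int.natCast_nonneg _) hbne
        (not_proportional m' a hg ha1 hale hne)
      have hai : a i < m' i := by
        have : (0 : ℤ) < ((m' i - a i : ℕ) : ℤ) := hbi
        have : 0 < m' i - a i := by exact_mod_cast this
        omega
      have hpos : 0 < ∑ j, (a j : ℤ) * M i j := by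
        have hsplit : ∑ j, (a j : ℤ) * M i j =
            ∑ j, (m' j : ℤ) * M i j - ∑ j, b j * M i j := by
          rw [← Finset.sum_sub_distrib]
          refine Finset.sum_congr rfl (fun j _ => ?_)
          have : (b j : ℤ) = (m' j : ℤ) - (a j : ℤ) := by
            rw [hb]
            push_cast [Nat.cast_sub (hale j)]
            ring
          rw [this]
          ring
        rw [hsplit, h2 i]
        omega
      have hF : F a := by
        obtain ⟨s, c, -, hl, -, hF'⟩ := hR
        rw [← hl]
        exact hF' _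
      have hR' := reach_snoc F a i hR (hstep a i ha1 hai hF hpos)
      refine ih (a + Pi.single i 1) (fun j => ?_) (fun j => ?_) ?_ hR'
      · have := ha1 j
        simp only [Pi.add_apply]
        omega
      · simp only [Pi.add_apply, Pi.single_apply]
        split_ifs with h
        · subst h
          omega
        · have := hale j
          omega
      · have hdecomp : ∑ j, (m' j - a j) = ∑ j, (m' j - (a + Pi.single i 1 : Fin n → ℕ) j) + 1 := by
          have h1' : ∀ j, m' j - a j = (m' j - (a + Pi.single i 1 : Fin n → ℕ) j) +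
              (if j = i then 1 else 0) := by
            intro j
            simp only [Pi.add_apply, Pi.single_apply]
            split_ifs with h
            · subst h
              omega
            · omega
          rw [Finset.sum_congr rfl (fun j _ => h1' j), Finset.sum_add_distrib,
            Finset.sum_ite_eq' Finset.univ i (fun _ => 1)]
          simp
        omega
  exact key _ (fun _ => 1) (fun _ => le_rfl) (fun i => hm' i) rfl (reach_ones F hbase)

/-- **the reduced fibre**: on a connected symmetric graph, the all-ones vector is reached from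
single vertices by adding adjacent vertices. -/
theorem ones_of_connected (hn : 0 < n) (h0 : ∀ i j, M i j = M j i)
    (h1 : ∀ i j, i ≠ j → 0 ≤ M i j)
    (h3 : ∀ S : Finset (Fin n), S.Nonempty → (∀ i ∈ S, ∀ j ∉ S, M i j = 0) → S = Finset.univ)
    (hsingle : ∀ i, F (Pi.single i 1))
    (hstep : ∀ (a : Fin n → ℕ) (i : Fin n), a i = 0 → F a →
      0 < ∑ j, (a j : ℤ) * M i j → F (a + Pi.single i 1)) :
    F fun _ => 1 := by
  classical
  have key : ∀ k : ℕ, 1 ≤ k → k ≤ n → ∃ S : Finset (Fin n), S.card = k ∧
      F (fun i => if i ∈ S then 1 else 0) := by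
    intro k
    induction k with
    | zero => intro h; omega
    | succ k ih =>
      intro _ hkn
      by_cases hk : k = 0
      · subst hk
        refine ⟨{⟨0, hn⟩}, Finset.card_singleton _, ?_⟩
        have : (fun i : Fin n => if i ∈ ({⟨0, hn⟩} : Finset (Fin n)) then 1 else 0) =
            Pi.single (⟨0, hn⟩ : Fin n) 1 := by
          funext i
          simp only [Finset.mem_singleton, Pi.single_apply]
        rw [this]
        exact hsingle _
      · obtain ⟨S, hcard, hFS⟩ := ih (by omega) (by omega)
        have hSne : S.Nonempty := by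
          rw [← Finset.card_pos]
          omega
        have hSuniv : S ≠ Finset.univ := by
          intro h
          rw [h, Finset.card_univ, Fintype.card_fin] at hcard
          omega
        have hex : ∃ i ∈ S, ∃ j, j ∉ S ∧ M i j ≠ 0 := by
          by_contra hcon
          push Not at hcon
          exact hSuniv (h3 S hSne hcon)
        obtain ⟨i, hiS, j, hjS, hMne⟩ := hex
        have hij : i ≠ j := fun h => hjS (h ▸ hiS)
        have hMpos : 0 < M j i := by
          rw [← h0 i j]
          exact lt_of_le_of_ne (h1 i j hij) (Ne.symm hMne)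
        refine ⟨insert j S, ?_, ?_⟩
        · rw [Finset.card_insert_of_notMem hjS, hcard]
        · have hsum : 0 < ∑ l, ((if l ∈ S then 1 else 0 : ℕ) : ℤ) * M j l := by
            have hnn : ∀ l ∈ Finset.univ, 0 ≤ ((if l ∈ S then 1 else 0 : ℕ) : ℤ) * M j l := by
              intro l _
              split_ifs with hl
              · have hjl : j ≠ l := fun h => hjS (h ▸ hl)
                simpa using h1 j l hjl
              · simp
            refine lt_of_lt_of_le ?_ (Finset.single_le_sum hnn (Finset.mem_univ i))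
            rw [if_pos hiS]
            simpa using hMpos
          have := hstep (fun l => if l ∈ S then 1 else 0) j (if_neg hjS) hFS hsum
          have heq : ((fun l => if l ∈ S then 1 else 0) + Pi.single j 1 : Fin n → ℕ) =
              fun l => if l ∈ insert j S then 1 else 0 := by
            funext l
            simp only [Pi.add_apply, Pi.single_apply, Finset.mem_insert]
            by_cases hlj : l = j
            · subst hlj
              simp [hjS]
            · simp [hlj]
          rw [heq] at this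
          exact this
  obtain ⟨S, hcard, hFS⟩ := key n hn le_rfl
  have hS : S = Finset.univ := by
    apply Finset.eq_univ_of_card
    rw [hcard, Fintype.card_fin]
  rw [hS] at hFS
  simpa using hFS

end chain

end Groth.Agent.H5.ArS
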