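import Mathlib
import Groth.Agent.Lib.Lead.QC.AnnIdeal

/-!
# Points and primes on an affine open; maximal irreducible subsets of a subset
-/

set_option autoImplicit false
set_option linter.style.haveILetI false
universe u
open CategoryTheory CategoryTheory.Limits AlgebraicGeometry TopologicalSpace Opposite

namespace Groth.Agent.H5.ArS

section top

/-- every irreducible subset of `F` lies in a maximal irreducible subset of `F`. -/
theorem exists_maximal_irreducible_subset {X : Type*} [TopologicalSpace X] (F s : Set X)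
    (hs : IsIrreducible s) (hsF : s ⊆ F) :
    ∃ t, s ⊆ t ∧ Maximal (fun S : Set X => IsIrreducible S ∧ S ⊆ F) t := by
  have H : ∀ c ⊆ {t : Set X | IsIrreducible t ∧ t ⊆ F}, IsChain (· ⊆ ·) c → c.Nonempty →
      ∃ ub ∈ {t : Set X | IsIrreducible t ∧ t ⊆ F}, ∀ s ∈ c, s ⊆ ub := by
    intro c hcS hc hcne
    refine ⟨⋃₀ c, ⟨⟨?_, ?_⟩, Set.sUnion_subset (fun t ht => (hcS ht).2)⟩,
      fun t ht => Set.subset_sUnion_of_mem ht⟩
    · obtain ⟨t, ht⟩ := hcne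
      obtain ⟨x, hx⟩ := (hcS ht).1.1
      exact ⟨x, Set.mem_sUnion_of_mem hx ht⟩
    · intro u v hu hv ⟨y, hy, hyu⟩ ⟨x, hx, hxv⟩
      obtain ⟨p, hpc, hyp⟩ := Set.mem_sUnion.1 hy
      obtain ⟨q, hqc, hxq⟩ := Set.mem_sUnion.1 hx
      rcases hc.total hpc hqc with hpq | hqp
      · obtain ⟨z, hzq, hzuv⟩ := (hcS hqc).1.2 u v hu hv ⟨y, hpq hyp, hyu⟩ ⟨x, hxq, hxv⟩
        exact ⟨z, Set.mem_sUnion_of_mem hzq hqc, hzuv⟩
      · obtain ⟨z, hzp, hzuv⟩ := (hcS hpc).1.2 u v hu hv ⟨y, hyp, hyu⟩ ⟨x, hqp hxq, hxv⟩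
        exact ⟨z, Set.mem_sUnion_of_mem hzp hpc, hzuv⟩
  obtain ⟨m, hsm, hm⟩ :=
    zorn_subset_nonempty {t : Set X | IsIrreducible t ∧ t ⊆ F} H s ⟨hs, hsF⟩
  exact ⟨m, hsm, hm⟩

end top

section dict

variable {X : Scheme.{u}} {V : X.Opens} (hV : IsAffineOpen V)

lemma fromSpec_mem (q : PrimeSpectrum Γ(X, V)) : hV.fromSpec q ∈ V := by
  have : hV.fromSpec q ∈ Set.range hV.fromSpec := ⟨q, rfl⟩
  rw [hV.range_fromSpec] at this
  exact this

lemma primeIdealOf_fromSpec (q : PrimeSpectrum Γ(X, V)) :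
    hV.primeIdealOf ⟨hV.fromSpec q, fromSpec_mem hV q⟩ = q :=
  hV.fromSpec.isOpenEmbedding.injective (hV.fromSpec_primeIdealOf ⟨_, fromSpec_mem hV q⟩)

lemma primeIdealOf_le_iff (x y : X) (hx : x ∈ V) (hy : y ∈ V) :
    (hV.primeIdealOf ⟨y, hy⟩).asIdeal ≤ (hV.primeIdealOf ⟨x, hx⟩).asIdeal ↔ y ⤳ x := by
  constructor
  · intro hle
    have h4 : hV.primeIdealOf ⟨y, hy⟩ ⤳ hV.primeIdealOf ⟨x, hx⟩ :=
      (PrimeSpectrum.le_iff_specializes _ _).mp hle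
    have h5 := h4.map hV.fromSpec.continuous
    rwa [hV.fromSpec_primeIdealOf ⟨y, hy⟩, hV.fromSpec_primeIdealOf ⟨x, hx⟩] at h5
  · intro hsp
    have h1 : hV.fromSpec (hV.primeIdealOf ⟨y, hy⟩) ⤳ hV.fromSpec (hV.primeIdealOf ⟨x, hx⟩) := by
      rw [hV.fromSpec_primeIdealOf, hV.fromSpec_primeIdealOf]
      exact hsp
    have h2 := hV.fromSpec.isOpenEmbedding.isInducing.specializes_iff.1 h1
    exact (PrimeSpectrum.le_iff_specializes (R := Γ(X, V)) _ _).2 h2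

lemma primeIdealOf_injective (x y : X) (hx : x ∈ V) (hy : y ∈ V)
    (h : (hV.primeIdealOf ⟨x, hx⟩).asIdeal = (hV.primeIdealOf ⟨y, hy⟩).asIdeal) : x = y := by
  have h1 : hV.primeIdealOf ⟨x, hx⟩ = hV.primeIdealOf ⟨y, hy⟩ := PrimeSpectrum.ext h
  have h2 := congrArg (fun q => (hV.fromSpec q : X)) h1
  simpa [hV.fromSpec_primeIdealOf] using h2

lemma mem_support_iff (I : X.IdealSheafData) (x : X) (hx : x ∈ V) :
    x ∈ I.support ↔ I.ideal ⟨V, hV⟩ ≤ (hV.primeIdealOf ⟨x, hx⟩).asIdeal := by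
  rw [Scheme.IdealSheafData.mem_support_iff_of_mem (U := ⟨V, hV⟩) hx,
    Groth.Agent.LD.QC.mem_zeroLocus_iff_le_primeIdealOf hV _ x hx]

end dict

end Groth.Agent.H5.ArS
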