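import Mathlib
import Groth.Agent.Lib.Lead.QC.IdealMod
import Groth.Agent.Lib.Lead.QC.TensorSec
import Groth.Agent.Lib.Lead.QC.TensorFormulas
import Groth.Agent.Lib.Lead.QC.InvInverse
import Groth.Agent.Lib.Lead.QC.InvBasis
import Groth.Agent.Lib.Lead.QC.Gen

/-!
# An ideal sheaf with a tensor inverse is an effective Cartier divisor
-/

set_option autoImplicit false
set_option linter.style.haveILetI false
universe u
open CategoryTheory CategoryTheory.Limits AlgebraicGeometry TopologicalSpace Opposite TensorProduct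

namespace Groth.Agent.H5.ArS

open Groth.Agent.LD Groth.Agent.LD.QC

variable {X : Scheme.{u}}

/-- the section of `O` attached to a section of `L ⊗ M` by `e : L ⊗ M ⟶ O`. -/
noncomputable def evalSec {L M : X.Modules} (e : CohB1.tensorMod L M ⟶ Coh.structureModule X)
    (V : X.Opens) : Γ(CohB1.tensorMod L M, V) →ₗ[Γ(X, V)] Γ(X, V) where
  toFun t := e.app V t
  map_add' a b := map_add _ a b
  map_smul' r t := by
    rw [RingHom.id_apply]
    exact Scheme.Modules.Hom.app_smul e r t

lemma evalSec_res {L M : X.Modules} (e : CohB1.tensorMod L M ⟶ Coh.structureModule X)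
    {V W : X.Opens} (h : W ≤ V) (t : Γ(CohB1.tensorMod L M, V)) :
    evalSec e W ((CohB1.tensorMod L M).presheaf.map (homOfLE h).op t) =
      X.presheaf.map (homOfLE h).op (evalSec e V t) :=
  app_res e h t

lemma tmul_smul_right (L M : X.Modules) (V : X.Opens) (l : Γ(L, V)) (a : Γ(X, V)) (m : Γ(M, V)) :
    (SecTwist.tmul L M V l (a • m) : Γ(CohB1.tensorMod L M, V)) =
      a • (SecTwist.tmul L M V l m : Γ(CohB1.tensorMod L M, V)) := by
  have h1 : (l ⊗ₜ[Γ(X, V)] (a • m)) = a • (l ⊗ₜ[Γ(X, V)] m) := TensorProduct.tmul_smul a l m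
  change tensorSec L M V (l ⊗ₜ (a • m)) = a • tensorSec L M V (l ⊗ₜ m)
  rw [h1, map_smul]

lemma evalSec_tmul_smul {L M : X.Modules} (e : CohB1.tensorMod L M ⟶ Coh.structureModule X)
    (V : X.Opens) (l : Γ(L, V)) (a : Γ(X, V)) (m : Γ(M, V)) :
    evalSec e V (SecTwist.tmul L M V l (a • m)) = a * evalSec e V (SecTwist.tmul L M V l m) :=
  (congrArg (evalSec e V) (tmul_smul_right L M V l a m)).trans
    (map_smul (evalSec e V) a (SecTwist.tmul L M V l m : Γ(CohB1.tensorMod L M, V)))

lemma evalSec_tmul_zero {L M : X.Modules} (e : CohB1.tensorMod L M ⟶ Coh.structureModule X)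
    (V : X.Opens) (l : Γ(L, V)) :
    evalSec e V (SecTwist.tmul L M V l (0 : Γ(M, V))) = 0 := by
  have h1 : (l ⊗ₜ[Γ(X, V)] (0 : Γ(M, V))) = 0 := TensorProduct.tmul_zero _ l
  change evalSec e V (tensorSec L M V (l ⊗ₜ (0 : Γ(M, V)))) = 0
  rw [h1, map_zero, map_zero]

lemma mem_basicOpen_add {U : X.Opens} (a b : Γ(X, U)) (x : X)
    (h : x ∈ X.basicOpen (a + b)) : x ∈ X.basicOpen a ∨ x ∈ X.basicOpen b := by
  have hxU : x ∈ U := X.basicOpen_le _ h
  rw [Scheme.mem_basicOpen _ _ _ hxU] at h ⊢
  rw [Scheme.mem_basicOpen _ _ _ hxU]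
  rw [map_add] at h
  exact IsLocalRing.isUnit_or_isUnit_of_isUnit_add h

/-- **an ideal sheaf whose module has a tensor inverse is an effective Cartier divisor.** -/
theorem isEffCartierIdeal_of_tensor_iso (I : X.IdealSheafData) (L : X.Modules)
    (e : CohB1.tensorMod L (ClSub.idealMod I) ≅ Coh.structureModule X) :
    BlowUp.IsEffCartierIdeal I := by
  intro x
  set M := ClSub.idealMod I with hM
  obtain ⟨U₀, hU₀, hxU₀, -⟩ := exists_isAffineOpen_mem_and_subset (x := x) (U := ⊤) trivial
  let one₀ : Γ(Coh.structureModule X, U₀) := (1 : Γ(X, U₀))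
  let t : Γ(CohB1.tensorMod L M, U₀) := e.inv.app U₀ one₀
  have ht : evalSec e.hom U₀ t = 1 := by
    change e.hom.app U₀ (e.inv.app U₀ one₀) = _
    have : (e.inv ≫ e.hom).app U₀ one₀ = one₀ := by rw [Iso.inv_hom_id]; rfl
    exact this
  obtain ⟨V, hVU, hxV, z, hz⟩ := tensorSec_locally_surjective L M U₀ t x hxU₀
  have h1 : evalSec e.hom V (tensorSec L M V z) = 1 := by
    rw [hz, evalSec_res, ht, map_one]
  -- a pure tensor which evaluates to a unit at `x`
  have key : ∀ z : Γ(L, V) ⊗[Γ(X, V)] Γ(M, V),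
      x ∈ X.basicOpen (evalSec e.hom V (tensorSec L M V z)) →
        ∃ (l : Γ(L, V)) (m : Γ(M, V)),
          x ∈ X.basicOpen (evalSec e.hom V (SecTwist.tmul L M V l m)) := by
    intro z
    induction z using TensorProduct.induction_on with
    | zero =>
      intro h
      rw [map_zero, map_zero, Scheme.basicOpen_zero] at h
      exact absurd h (by simp)
    | tmul l m => exact fun h => ⟨l, m, h⟩
    | add a b ha hb =>
      intro h
      rw [map_add, map_add] at h
      rcases mem_basicOpen_add _ _ x h with h | h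
      · exact ha h
      · exact hb h
  obtain ⟨l, m, hlm⟩ := key z (by rw [h1, Scheme.basicOpen_of_isUnit _ isUnit_one]; exact hxV)
  set u := evalSec e.hom V (SecTwist.tmul L M V l m) with hu
  obtain ⟨W, hW, hxW, hWle⟩ := exists_isAffineOpen_mem_and_subset (x := x)
    (U := X.basicOpen u) hlm
  have hWV : W ≤ V := hWle.trans (X.basicOpen_le u)
  set l' : Γ(L, W) := L.presheaf.map (homOfLE hWV).op l with hl'
  set m' : Γ(M, W) := M.presheaf.map (homOfLE hWV).op m with hm'
  set u' : Γ(X, W) := evalSec e.hom W (SecTwist.tmul L M W l' m') with hu'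
  have hu'u : u' = X.presheaf.map (homOfLE hWV).op u := by
    rw [hu', hu, ← evalSec_res]
    congr 1
    exact (SecTwist.map_tmul L M (homOfLE hWV) l m).symm
  have hunit : IsUnit u' := by
    rw [hu'u]
    exact isUnit_res_of_le_basicOpen u hWV hWle
  set f : Γ(X, W) := idealModιₗ I W m' with hf
  have hfI : f ∈ I.ideal ⟨W, hW⟩ :=
    (exists_idealModι_app_eq_iff I ⟨W, hW⟩ f).mp ⟨m', (idealModιₗ_apply I W m').symm⟩
  have hinj : Function.Injective (idealModιₗ I W) := by
    intro a b hab
    apply idealModι_app_injective I W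
    rw [← idealModιₗ_apply, ← idealModιₗ_apply, hab]
  refine ⟨⟨W, hW⟩, hxW, f, ?_, ?_⟩
  · -- nonzerodivisor
    rw [mem_nonZeroDivisors_iff]
    have hzero : ∀ a : Γ(X, W), a * f = 0 → a = 0 := by
      intro a ha
      have h2 : a • m' = 0 := by
        apply hinj
        rw [map_smul, map_zero, smul_eq_mul]
        exact ha
      have h3 : a * u' = 0 := by
        have h4 := evalSec_tmul_smul e.hom W l' a m'
        rw [h2, evalSec_tmul_zero] at h4
        exact h4.symm
      exact (hunit.mul_left_eq_zero).mp h3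
    exact ⟨fun a ha => hzero a (by rw [mul_comm]; exact ha), hzero⟩
  · apply le_antisymm
    · intro g hg
      obtain ⟨n, hn⟩ := (exists_idealModι_app_eq_iff I ⟨W, hW⟩ g).mpr hg
      have hn' : idealModιₗ I W n = g := by rw [idealModιₗ_apply]; exact hn
      have h2 : f • n = g • m' := by
        apply hinj
        rw [map_smul, map_smul, hn', ← hf, smul_eq_mul, smul_eq_mul, mul_comm]
      have h3 : f * evalSec e.hom W (SecTwist.tmul L M W l' n) = g * u' := by
        rw [hu', ← evalSec_tmul_smul e.hom W l' f n, ← evalSec_tmul_smul e.hom W l' g m', h2]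
      obtain ⟨v, hv⟩ := hunit
      rw [Ideal.mem_span_singleton]
      refine ⟨evalSec e.hom W (SecTwist.tmul L M W l' n) * ↑v⁻¹, ?_⟩
      rw [← mul_assoc, h3, ← hv, mul_assoc, Units.mul_inv, mul_one]
    · rw [Ideal.span_le, Set.singleton_subset_iff]
      exact hfI

/-- the data attached to a tensor inverse of an ideal sheaf. -/
theorem inverse_facts (I : X.IdealSheafData) (L : X.Modules)
    (hL : ClSub.IsInverseOf L (ClSub.idealMod I)) :
    BlowUp.IsEffCartierIdeal I ∧ PicF.IsInvertible (ClSub.idealMod I) ∧ PicF.IsInvertible L := by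
  obtain ⟨e⟩ := hL
  have h1 := isEffCartierIdeal_of_tensor_iso I L e
  have h2 : PicF.IsInvertible (ClSub.idealMod I) := (isInvertible_idealMod_iff I).mpr h1
  exact ⟨h1, h2, isInvertible_of_tensor_iso h2 (tensorCommGen _ _ ≪≫ e)⟩

end Groth.Agent.H5.ArS
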