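import Mathlib
import Groth.Agent.Lib.Helper5.ArS.Base
import Groth.Agent.Lib.Helper5.ArS.InvCart
import Groth.Agent.Lib.Helper5.AG.ProjProper
import Groth.Agent.Lib.Helper1.UOVal
import Groth.Agent.Lib.Helper6.ConnDim2
import Groth.Prelude.Def_Omega2

/-!
# Intersection numbers with vertical prime divisors of an arithmetic surface
-/

set_option autoImplicit false
set_option linter.style.haveILetI false
universe u
open CategoryTheory CategoryTheory.Limits AlgebraicGeometry TopologicalSpace Opposite

namespace Groth.Agent.H5.ArS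

open Groth.Agent.LD Groth.Agent.LD.QC

variable (R : Type u) [CommRing R] [IsDomain R] [IsDiscreteValuationRing R]
  (X : Over (Spec (CommRingCat.of R)))

theorem isProper_hom_of_isArithSurface (hX : ArSurf.IsArithSurface R X) : IsProper X.hom := by
  obtain ⟨-, -, -, -, n, i, hi, hw⟩ := hX
  haveI := hi
  haveI := Groth.Agent.H5.AG.isProper_toBase n (Spec (CommRingCat.of R))
  rw [← hw]
  infer_instance

variable {R X}

theorem isProper_curve_hom (hp : IsProper X.hom) (Γ : ArSurf.VertComp R X) :
    IsProper Γ.curve.hom := by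
  haveI : IsProper (Γ.ι ≫ X.hom) := inferInstance
  rw [Γ.w] at this
  haveI : IsClosedImmersion (Spec.map (CommRingCat.ofHom (IsLocalRing.residue R))) :=
    IsClosedImmersion.spec_of_surjective _ IsLocalRing.residue_surjective
  exact IsProper.of_comp _ (Spec.map (CommRingCat.ofHom (IsLocalRing.residue R)))

theorem dim_curve_le (Γ : ArSurf.VertComp R X) : topologicalKrullDim Γ.curve.left ≤ 1 :=
  Γ.dim_eq.le

/-- the image of a vertical prime divisor is its support. -/
theorem support_ker_ι (Γ : ArSurf.VertComp R X) :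
    (Γ.ι.ker.support : Set X.left) = Set.range Γ.ι := by
  rw [Scheme.Hom.support_ker]
  exact Γ.ι.isClosedEmbedding.isClosed_range.closure_eq

/-- **S8728**, first half: the intersection number with an effective divisor not containing the
curve is the length of the intersection. -/
theorem inter_eq_finrank (hp : IsProper X.hom) (Γ : ArSurf.VertComp R X)
    (I : X.left.IdealSheafData) (hI : BlowUp.IsEffCartierIdeal I)
    (hΓ : Γ.ι (genericPoint Γ.curve.left) ∉ (I.support : Set X.left))
    (L : X.left.Modules) (hL : ClSub.IsInverseOf L (ClSub.idealMod I)) :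
    ArSurf.inter R X L Γ = (Module.finrank (IsLocalRing.ResidueField R)
      (Coh.HH Γ.curve.left (ClSub.quotMod (I.comap Γ.ι)) 0) : ℤ) := by
  haveI : IsProper (Γ.curve.left ↘ Spec (CommRingCat.of (IsLocalRing.ResidueField R))) :=
    isProper_curve_hom hp Γ
  have hJ := isEffCartierIdeal_comap_of_generic Γ.ι I hI hΓ
  exact curveDeg_pullback_eq_finrank (IsLocalRing.ResidueField R) Γ.ι (dim_curve_le Γ) I hI hJ L hL

/-- **S8728**. -/
theorem inter_nonneg_and_eq_zero_iff (hp : IsProper X.hom) (Γ : ArSurf.VertComp R X)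
    (I : X.left.IdealSheafData) (hI : BlowUp.IsEffCartierIdeal I)
    (hΓ : Γ.ι (genericPoint Γ.curve.left) ∉ (I.support : Set X.left))
    (L : X.left.Modules) (hL : ClSub.IsInverseOf L (ClSub.idealMod I)) :
    0 ≤ ArSurf.inter R X L Γ ∧
      (ArSurf.inter R X L Γ = 0 ↔ Disjoint (Set.range Γ.ι) (I.support : Set X.left)) := by
  haveI : IsProper (Γ.curve.left ↘ Spec (CommRingCat.of (IsLocalRing.ResidueField R))) :=
    isProper_curve_hom hp Γ
  rw [inter_eq_finrank hp Γ I hI hΓ L hL]
  refine ⟨Int.natCast_nonneg _, ?_⟩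
  rw [Int.natCast_eq_zero, finrank_H0_quotMod_eq_zero_iff, Scheme.IdealSheafData.support_comap]
  rw [Set.disjoint_iff_inter_eq_empty]
  constructor
  · intro h
    ext x
    simp only [Set.mem_inter_iff, Set.mem_range, Set.mem_empty_iff_false, iff_false, not_and]
    rintro ⟨z, rfl⟩ hz
    have : z ∈ (∅ : Set Γ.curve.left) := by rw [← h]; exact hz
    exact this
  · intro h
    ext z
    simp only [Set.mem_empty_iff_false, iff_false]
    intro hz
    have : Γ.ι z ∈ (∅ : Set X.left) := by rw [← h]; exact ⟨⟨z, rfl⟩, hz⟩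
    exact this

/-- **S8729**. -/
theorem inter_self_eq_neg_conormal (hp : IsProper X.hom) (Γ : ArSurf.VertComp R X)
    (L : X.left.Modules) (hL : ClSub.IsInverseOf L (ClSub.idealMod Γ.ι.ker)) :
    ArSurf.inter R X L Γ =
      - ArSurf.curveDeg (IsLocalRing.ResidueField R) Γ.curve.left (Omega.conormal Γ.ι) := by
  haveI : IsProper (Γ.curve.left ↘ Spec (CommRingCat.of (IsLocalRing.ResidueField R))) :=
    isProper_curve_hom hp Γ
  obtain ⟨hI, -, -⟩ := inverse_facts Γ.ι.ker L hL
  obtain ⟨-, hpL, hpI, ⟨e⟩⟩ := pullback_inverse_facts Γ.ι Γ.ι.ker hI L hL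
  exact curveDeg_of_inverse (IsLocalRing.ResidueField R) (dim_curve_le Γ) _ _ hpL hpI e

end Groth.Agent.H5.ArS
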