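import Mathlib
import Groth.Agent.Lib.Helper5.ArS.Vert

/-!
# Symmetry of the intersection number of two distinct vertical prime divisors
-/

set_option autoImplicit false
set_option linter.style.haveILetI false
universe u
open CategoryTheory CategoryTheory.Limits AlgebraicGeometry TopologicalSpace Opposite

namespace Groth.Agent.H5.ArS

open Groth.Agent.LD Groth.Agent.LD.QC

variable {R : Type u} [CommRing R] [IsDomain R] [IsDiscreteValuationRing R]
  {X : Over (Spec (CommRingCat.of R))}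

/-- the range of a vertical prime divisor is closed, irreducible, of dimension one. -/
theorem range_ι_facts (Γ : ArSurf.VertComp R X) :
    IsClosed (Set.range Γ.ι) ∧ IsIrreducible (Set.range Γ.ι) ∧
      topologicalKrullDim ↥(Set.range Γ.ι) = 1 ∧
      Set.range Γ.ι = closure {Γ.ι (genericPoint Γ.curve.left)} := by
  have hce := Γ.ι.isClosedEmbedding
  refine ⟨hce.isClosed_range, ?_, ?_, ?_⟩
  · rw [← Set.image_univ]
    exact (IrreducibleSpace.isIrreducible_univ _).image _ Γ.ι.continuous.continuousOn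
  · rw [Groth.Agent.H1.UOVal.dim_range_eq_of_isEmbedding hce.isEmbedding, Γ.dim_eq]
  · rw [← Set.image_univ, ← (genericPoint_spec Γ.curve.left), ← hce.closure_image_eq,
      Set.image_singleton]

/-- the generic point of a vertical prime divisor does not lie on a different one. -/
theorem genericPoint_notMem_of_ne (Γ₁ Γ₂ : ArSurf.VertComp R X)
    (hne : Set.range Γ₁.ι ≠ Set.range Γ₂.ι) :
    Γ₁.ι (genericPoint Γ₁.curve.left) ∉ (Γ₂.ι.ker.support : Set X.left) := by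
  rw [support_ker_ι]
  intro h
  obtain ⟨hc₁, hi₁, hd₁, hr₁⟩ := range_ι_facts Γ₁
  obtain ⟨hc₂, hi₂, hd₂, -⟩ := range_ι_facts Γ₂
  have hsub : Set.range Γ₁.ι ⊆ Set.range Γ₂.ι := by
    rw [hr₁]
    exact hc₂.closure_subset_iff.mpr (Set.singleton_subset_iff.mpr h)
  have hss : Set.range Γ₁.ι ⊂ Set.range Γ₂.ι := lt_of_le_of_ne hsub hne
  have hlt := Groth.Agent.H6.ConnDim.dim_lt_of_ssubset hc₁ hi₂ hss (by rw [hd₂]; decide)
  rw [hd₁, hd₂] at hlt
  exact lt_irrefl _ hlt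

/-- **S8730**. -/
theorem inter_symm (hp : IsProper X.hom) (Γ₁ Γ₂ : ArSurf.VertComp R X)
    (hne : Set.range Γ₁.ι ≠ Set.range Γ₂.ι)
    (L₁ L₂ : X.left.Modules) (h₁ : ClSub.IsInverseOf L₁ (ClSub.idealMod Γ₁.ι.ker))
    (h₂ : ClSub.IsInverseOf L₂ (ClSub.idealMod Γ₂.ι.ker)) :
    ArSurf.inter R X L₂ Γ₁ = ArSurf.inter R X L₁ Γ₂ := by
  obtain ⟨hI₁, -, -⟩ := inverse_facts Γ₁.ι.ker L₁ h₁
  obtain ⟨hI₂, -, -⟩ := inverse_facts Γ₂.ι.ker L₂ h₂
  rw [inter_eq_finrank hp Γ₁ Γ₂.ι.ker hI₂ (genericPoint_notMem_of_ne Γ₁ Γ₂ hne) L₂ h₂,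
    inter_eq_finrank hp Γ₂ Γ₁.ι.ker hI₁ (genericPoint_notMem_of_ne Γ₂ Γ₁ hne.symm) L₁ h₁]
  congr 1
  set k := IsLocalRing.ResidueField R
  have e1 := Groth.Agent.H5.Curve6.finrank_H0_quotMod_ker_eq k Γ₁.curve.left
    (pullback.fst Γ₁.ι Γ₂.ι)
  rw [Scheme.IdealSheafData.ker_fst_of_isClosedImmersion] at e1
  have e2 := Groth.Agent.H5.Curve6.finrank_H0_quotMod_ker_eq k Γ₂.curve.left
    (pullback.snd Γ₁.ι Γ₂.ι)
  have hker : (pullback.snd Γ₁.ι Γ₂.ι).ker = Γ₁.ι.ker.comap Γ₂.ι := by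
    rw [← Scheme.IdealSheafData.ker_fst_of_isClosedImmersion,
      ← pullbackSymmetry_hom_comp_fst, Scheme.Hom.ker_comp_of_isIso]
  rw [hker] at e2
  rw [e1, e2]
  have heq : pullback.fst Γ₁.ι Γ₂.ι ≫ Γ₁.curve.hom = pullback.snd Γ₁.ι Γ₂.ι ≫ Γ₂.curve.hom := by
    haveI : IsClosedImmersion (Spec.map (CommRingCat.ofHom (IsLocalRing.residue R))) :=
      IsClosedImmersion.spec_of_surjective _ IsLocalRing.residue_surjective
    rw [← cancel_mono (Spec.map (CommRingCat.ofHom (IsLocalRing.residue R))), Category.assoc,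
      Category.assoc, ← Γ₁.w, ← Γ₂.w, ← Category.assoc, ← Category.assoc, pullback.condition]
  have heq' : pullback.fst Γ₁.ι Γ₂.ι ≫ (Γ₁.curve.left ↘ Spec (CommRingCat.of k)) =
      pullback.snd Γ₁.ι Γ₂.ι ≫ (Γ₂.curve.left ↘ Spec (CommRingCat.of k)) := heq
  rw [heq']

end Groth.Agent.H5.ArS
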