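import Mathlib
import Groth.Agent.Lib.Helper5.ArS.Symm
import Groth.Agent.Lib.Helper3.PP8
import Groth.Agent.Lib.Lead.PS.FormalClosed
import Groth.Agent.Lib.Lead.CohLES.PushEquiv
import Groth.Agent.Lib.Lead.RS.StalkBC
import Groth.Prelude.Def_ModelsG

/-!
# The intersection number with a vertical prime divisor as an `R`-length (S7926)
-/

set_option autoImplicit false
set_option linter.style.haveILetI false
universe u
open CategoryTheory CategoryTheory.Limits AlgebraicGeometry TopologicalSpace Opposite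

namespace Groth.Agent.H5.ArS

open Groth.Agent.LD Groth.Agent.LD.QC

/-- the scheme theoretic intersection of a closed subscheme with `V(D)`. -/
theorem ker_subschemeι_comap_comp {X Y : Scheme.{u}} (ι : Y ⟶ X) [IsClosedImmersion ι]
    (D : X.IdealSheafData) : ((D.comap ι).subschemeι ≫ ι).ker = D ⊔ ι.ker := by
  rw [Scheme.Hom.ker_comp, Scheme.IdealSheafData.ker_subschemeι]
  ext U : 2
  rw [Scheme.IdealSheafData.ideal_map_of_isAffineHom, Scheme.IdealSheafData.ideal_sup]
  have h1 := ideal_comap_of_le D ι U ⟨ι ⁻¹ᵁ U.1, U.2.preimage ι⟩ le_rfl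
  rw [h1]
  have h2 : (ι.appLE U.1 (ι ⁻¹ᵁ U.1) le_rfl) = ι.app U.1 := (Scheme.Hom.app_eq_appLE ι).symm
  rw [h2]
  have hsurj : Function.Surjective (ι.app U.1).hom := ι.app_surjective U.1 U.2
  rw [Pi.sup_apply, Ideal.comap_map_of_surjective _ hsurj, Scheme.Hom.ker_apply]
  rfl

/-- `toGlobal` of a composite with `Spec` of a ring map. -/
theorem toGlobal_comp_specMap {A B : Type u} [CommRing A] [CommRing B] (φ : A →+* B)
    {Y : Scheme.{u}} (g : Y ⟶ Spec (CommRingCat.of B)) (a : A) :
    Coh.toGlobal (g ≫ Spec.map (CommRingCat.ofHom φ)) a = Coh.toGlobal g (φ a) := by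
  have h2 := Scheme.ΓSpecIso_inv_naturality (CommRingCat.ofHom φ)
  have h3 : (Spec.map (CommRingCat.ofHom φ)).appTop.hom
      ((Scheme.ΓSpecIso (CommRingCat.of A)).inv.hom a) =
      (Scheme.ΓSpecIso (CommRingCat.of B)).inv.hom (φ a) := by
    have := congr($h2 a)
    exact this.symm
  change g.appTop.hom ((Spec.map (CommRingCat.ofHom φ)).appTop.hom
    ((Scheme.ΓSpecIso (CommRingCat.of A)).inv.hom a)) = _
  rw [h3]
  rfl

variable {R : Type u} [CommRing R] [IsDomain R] [IsDiscreteValuationRing R]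
  {X : Over (Spec (CommRingCat.of R))}

/-- the `R`-length of the global sections of the scheme theoretic intersection of `V(D)` with a
vertical prime divisor `Γ` is the `k`-dimension of the sections of `D|_Γ`. -/
theorem lengthH_quotMod_sup (hp : IsProper X.hom) (Γ : ArSurf.VertComp R X)
    (D : X.left.IdealSheafData) :
    (Models.lengthH R X (ClSub.quotMod (D ⊔ Γ.ι.ker)) 0 : ℤ) =
      (Module.finrank (IsLocalRing.ResidueField R)
        (Coh.HH Γ.curve.left (ClSub.quotMod (D.comap Γ.ι)) 0) : ℤ) := by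
  set k := IsLocalRing.ResidueField R with hk
  set J := D.comap Γ.ι with hJ
  set c : J.subscheme ⟶ X.left := J.subschemeι ≫ Γ.ι with hc
  have hK : c.ker = D ⊔ Γ.ι.ker := ker_subschemeι_comap_comp Γ.ι D
  rw [← hK]
  haveI : IsProper (Γ.curve.left ↘ Spec (CommRingCat.of k)) := isProper_curve_hom hp Γ
  letI oSR : J.subscheme.Over (Spec (CommRingCat.of R)) := ⟨c ≫ X.hom⟩
  letI oSk : J.subscheme.Over (Spec (CommRingCat.of k)) := ⟨J.subschemeι ≫ Γ.curve.hom⟩
  letI oZ : c.ker.subscheme.Over (Spec (CommRingCat.of R)) := ⟨c.ker.subschemeι ≫ X.hom⟩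
  haveI : c.ker.subschemeι.IsOver (Spec (CommRingCat.of R)) := ⟨rfl⟩
  haveI : c.toImage.IsOver (Spec (CommRingCat.of R)) := ⟨by
    change c.toImage ≫ c.ker.subschemeι ≫ X.hom = c ≫ X.hom
    rw [← Category.assoc]
    congr 1
    exact c.toImage_imageι⟩
  haveI : J.subschemeι.IsOver (Spec (CommRingCat.of k)) := ⟨rfl⟩
  haveI : IsProper (J.subscheme ↘ Spec (CommRingCat.of k)) := by
    change IsProper (J.subschemeι ≫ (Γ.curve.left ↘ Spec (CommRingCat.of k)))
    infer_instance
  haveI := Curve.isLocallyNoetherian k J.subscheme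
  let e1 := CL.HHpushEquiv c.ker.subschemeι R (Coh.structureModule c.ker.subscheme) 0
  let e2 := (PS.cohE R c.toImage 0 (Coh.structureModule c.ker.subscheme)) ≪≫ₗ
    RS.HHequiv R (pbUnitIso c.toImage) 0
  let e3 := CL.HHpushEquiv J.subschemeι k (Coh.structureModule J.subscheme) 0
  have hlen1 : Module.length R (Coh.HH X.left (ClSub.quotMod c.ker) 0) =
      Module.length R (Coh.HH J.subscheme (Coh.structureModule J.subscheme) 0) :=
    (e1.symm ≪≫ₗ e2).length_eq
  have hlen2 : Module.finrank k (Coh.HH Γ.curve.left (ClSub.quotMod J) 0) =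
      Module.finrank k (Coh.HH J.subscheme (Coh.structureModule J.subscheme) 0) :=
    e3.symm.finrank_eq
  have hsm : ∀ (r : R) (x : Coh.HH J.subscheme (Coh.structureModule J.subscheme) 0),
      r • x = (algebraMap R k r) • x := by
    intro r x
    change (Coh.toGlobal (c ≫ X.hom) r) • x =
      (Coh.toGlobal (J.subschemeι ≫ Γ.curve.hom) (algebraMap R k r)) • x
    have h1 : c ≫ X.hom = (J.subschemeι ≫ Γ.curve.hom) ≫
        Spec.map (CommRingCat.ofHom (IsLocalRing.residue R)) := by
      rw [hc, Category.assoc, Γ.w, Category.assoc]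
    rw [h1, toGlobal_comp_specMap]
    rfl
  haveI : IsScalarTower R k (Coh.HH J.subscheme (Coh.structureModule J.subscheme) 0) := ⟨by
    intro r a x
    rw [Algebra.smul_def, mul_smul, ← hsm]⟩
  haveI : Module.Finite k (Coh.HH J.subscheme (Coh.structureModule J.subscheme) 0) :=
    Curve.finite_HH k J.subscheme _ (Groth.Agent.LD.PF.isCoh_unitMod _) 0
  have hlen3 : Module.length R (Coh.HH J.subscheme (Coh.structureModule J.subscheme) 0) =
      Module.length k (Coh.HH J.subscheme (Coh.structureModule J.subscheme) 0) :=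
    Module.length_eq_of_surjective IsLocalRing.residue_surjective
  unfold Models.lengthH
  rw [hlen1, hlen3, Module.length_eq_finrank, hlen2]
  simp

end Groth.Agent.H5.ArS
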