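import Mathlib

/-!
# Factorisation of a principal ideal in a locally factorial ring into minimal primes
-/

set_option autoImplicit false
universe u

namespace Groth.Agent.H5.ArS

open Ideal

section ufd

variable {B : Type*} [CommRing B] [IsDomain B] [UniqueFactorizationMonoid B]

/-- in a factorial domain, a prime ideal minimal over a nonzero element is generated by a prime
factor of that element. -/
theorem exists_prime_span_eq_of_minimal (𝔭 : Ideal B) [𝔭.IsPrime] (π : B) (hπ0 : π ≠ 0)
    (hπ : π ∈ 𝔭)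
    (hmin : ∀ 𝔮 : Ideal B, 𝔮.IsPrime → π ∈ 𝔮 → 𝔮 ≤ 𝔭 → 𝔮 = 𝔭) :
    ∃ q : B, Prime q ∧ q ∣ π ∧ 𝔭 = Ideal.span {q} := by
  obtain ⟨f, hf, u, hu⟩ := UniqueFactorizationMonoid.exists_prime_factors π hπ0
  have h1 : f.prod ∈ 𝔭 := by
    have : f.prod = π * ↑u⁻¹ := by rw [← hu, mul_assoc, Units.mul_inv, mul_one]
    rw [this]
    exact 𝔭.mul_mem_right _ hπ
  obtain ⟨q, hqf, hq𝔭⟩ := (Ideal.IsPrime.multiset_prod_mem_iff_exists_mem ‹_› f).mp h1
  have hqprime := hf q hqf
  have hqπ : q ∣ π := (Multiset.dvd_prod hqf).trans ⟨u, hu.symm⟩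
  refine ⟨q, hqprime, hqπ, ?_⟩
  have hsp : (Ideal.span {q}).IsPrime := (Ideal.span_singleton_prime hqprime.ne_zero).mpr hqprime
  exact (hmin _ hsp (Ideal.mem_span_singleton.mpr hqπ)
    ((Ideal.span_singleton_le_iff_mem _).mpr hq𝔭)).symm

/-- the factorisation of an element all of whose prime factors are, up to units, in a given
finite family of pairwise non-associated primes. -/
theorem associated_prod_pow_multiplicity {ι : Type*} (s : Finset ι) (q : ι → B) (π : B)
    (hπ0 : π ≠ 0) (hq : ∀ i ∈ s, Prime (q i))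
    (hna : ∀ i ∈ s, ∀ j ∈ s, i ≠ j → ¬ Associated (q i) (q j))
    (hall : ∀ p : B, Prime p → p ∣ π → ∃ i ∈ s, Associated p (q i)) :
    Associated π (∏ i ∈ s, q i ^ multiplicity (q i) π) := by
  classical
  have hrel : (s : Set ι).Pairwise
      (Function.onFun IsRelPrime fun i => q i ^ multiplicity (q i) π) := by
    intro i hi j hj hij
    apply IsRelPrime.pow
    rw [(hq i hi).irreducible.isRelPrime_iff_not_dvd]
    intro hdvd
    exact hna i hi j hj hij ((hq i hi).associated_of_dvd (hq j hj) hdvd)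
  have hdvd : ∏ i ∈ s, q i ^ multiplicity (q i) π ∣ π :=
    Finset.prod_dvd_of_isRelPrime hrel (fun i _ => pow_multiplicity_dvd (q i) π)
  generalize hP : ∏ i ∈ s, q i ^ multiplicity (q i) π = P at hdvd
  obtain ⟨c, hc⟩ := hdvd
  have hc0 : c ≠ 0 := by
    rintro rfl
    rw [mul_zero] at hc
    exact hπ0 hc
  have hcu : IsUnit c := by
    by_contra hnu
    obtain ⟨p, hp, hpc⟩ := WfDvdMonoid.exists_irreducible_factor hnu hc0
    have hpp : Prime p := UniqueFactorizationMonoid.irreducible_iff_prime.mp hp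
    have hpπ : p ∣ π := hpc.trans ⟨P, hc.trans (mul_comm _ _)⟩
    obtain ⟨i, hi, hass⟩ := hall p hpp hpπ
    have hqc : q i ∣ c := hass.symm.dvd.trans hpc
    have hfin : FiniteMultiplicity (q i) π := FiniteMultiplicity.of_prime_left (hq i hi) hπ0
    apply hfin.not_pow_dvd_of_multiplicity_lt (Nat.lt_succ_self _)
    obtain ⟨c', rfl⟩ := hqc
    have e1 : P = q i ^ multiplicity (q i) π * ∏ x ∈ s.erase i, q x ^ multiplicity (q x) π := by
      rw [← hP]
      exact (Finset.mul_prod_erase s (fun x => q x ^ multiplicity (q x) π) hi).symm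
    refine ⟨(∏ x ∈ s.erase i, q x ^ multiplicity (q x) π) * c', ?_⟩
    rw [pow_succ]
    calc π = P * (q i * c') := hc
      _ = _ := by rw [e1]; ring
  obtain ⟨u, rfl⟩ := hcu
  exact ⟨u⁻¹, by rw [hc, mul_assoc, Units.mul_inv, mul_one]⟩

end ufd

section ord

/-- the order of vanishing of `θ π` in a local ring `O'` with principal maximal ideal `(θ q)` is the
multiplicity of the prime `q` in `π`, when `θ` inverts everything prime to `q`. -/
theorem ord_eq_multiplicity {B O' : Type*} [CommRing B] [IsDomain B] [UniqueFactorizationMonoid B]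
    [CommRing O'] (θ : B →+* O')
    (q π : B) (hq : Prime q) (hπ0 : π ≠ 0)
    (hmax : (Ideal.span {θ q}).IsMaximal) (hnzd : θ q ∈ nonZeroDivisors O')
    (hunit : ∀ c : B, ¬ q ∣ c → IsUnit (θ c)) :
    Ring.ord O' (θ π) = multiplicity q π := by
  have hfin : FiniteMultiplicity q π := FiniteMultiplicity.of_prime_left hq hπ0
  obtain ⟨c, hc, hqc⟩ := hfin.exists_eq_pow_mul_and_not_dvd
  have h1 : Ring.ord O' (θ q) = 1 := by
    rw [Ring.ord, Module.length_eq_one_iff]
    rw [isSimpleModule_iff_isSimpleModule_of_algebraMap_surjective (S := O' ⧸ Ideal.span {θ q})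
      Ideal.Quotient.mk_surjective]
    let := Ideal.Quotient.field (Ideal.span {θ q})
    exact instIsSimpleModule _
  have h2 : θ π = θ q ^ multiplicity q π * θ c := by
    conv_lhs => rw [hc]
    rw [map_mul, map_pow]
  rw [h2, Ring.ord_mul_of_isUnit_right (hunit c hqc), Ring.ord_pow hnzd, h1]
  simp

end ord

section loc

variable {A : Type*} [CommRing A] (Q : Ideal A) [Q.IsPrime] (B : Type*) [CommRing B] [Algebra A B]
  [IsLocalization.AtPrime B Q]

/-- a prime `P ≤ Q` minimal over `π` extends, in the factorial localisation `B = A_Q`, to the ideal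
generated by a prime factor of `π`. -/
theorem exists_prime_map_eq_span [IsDomain B] [UniqueFactorizationMonoid B] (π : A)
    (hπ0 : algebraMap A B π ≠ 0) (P : Ideal A) [hP : P.IsPrime] (hPQ : P ≤ Q) (hπP : π ∈ P)
    (hmin : ∀ P' : Ideal A, P'.IsPrime → π ∈ P' → P' ≤ P → P' = P) :
    ∃ q : B, Prime q ∧ q ∣ algebraMap A B π ∧ P.map (algebraMap A B) = Ideal.span {q} := by
  have hdisj : Disjoint (Q.primeCompl : Set A) (P : Set A) := by
    rw [Set.disjoint_left]
    intro a ha haP
    exact ha (hPQ haP)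
  haveI h𝔭 : (P.map (algebraMap A B)).IsPrime :=
    IsLocalization.isPrime_of_isPrime_disjoint Q.primeCompl B P hP hdisj
  have hcomap : (P.map (algebraMap A B)).comap (algebraMap A B) = P :=
    IsLocalization.under_map_of_isPrime_disjoint Q.primeCompl B hP hdisj
  refine exists_prime_span_eq_of_minimal _ _ hπ0 (Ideal.mem_map_of_mem _ hπP) ?_
  intro 𝔮 h𝔮 hπ𝔮 hle
  have h1 : 𝔮.comap (algebraMap A B) = P := by
    refine hmin _ (Ideal.comap_isPrime _ _) hπ𝔮 ?_
    rw [← hcomap]
    exact Ideal.comap_mono hle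
  rw [← h1, IsLocalization.map_under Q.primeCompl B 𝔮]

end loc

section main

variable {A : Type u} [CommRing A] {ι : Type*} [Fintype ι]

/-- the local form of the factorisation `π A = ∏ P_i ^ m_i` at a prime `Q` with factorial
localisation. -/
theorem map_span_eq_map_prod (π : A) (P : ι → Ideal A) (m : ι → ℕ)
    (Q : Ideal A) [Q.IsPrime] (B : Type*) [CommRing B] [Algebra A B] [IsLocalization.AtPrime B Q]
    [IsDomain B] [UniqueFactorizationMonoid B]
    (hπ : π ∈ nonZeroDivisors A)
    (hP : ∀ i, P i = ⊤ ∨ (P i).IsPrime)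
    (hπP : ∀ i, π ∈ P i)
    (hinj : ∀ i j, (P i).IsPrime → P i = P j → i = j)
    (hcov : ∀ P' : Ideal A, P'.IsPrime → π ∈ P' → ∃ i, (P i).IsPrime ∧ P i ≤ P')
    (hmin : ∀ i, (P i).IsPrime → ∀ P' : Ideal A, P'.IsPrime → π ∈ P' → P' ≤ P i → P' = P i)
    (hlen : ∀ i, (P i).IsPrime → ∃ (O' : Type u) (_ : CommRing O') (_ : Algebra A O')
      (P' : Ideal A) (_ : P'.IsPrime) (_ : IsLocalization.AtPrime O' P'),
      P' = P i ∧ (Ring.ord O' (algebraMap A O' π)).toNat = m i) :
    (Ideal.span {π}).map (algebraMap A B) = (∏ i, P i ^ m i).map (algebraMap A B) := by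
  classical
  have hπB' : algebraMap A B π ∈ nonZeroDivisors B :=
    IsLocalization.map_nonZeroDivisors_le Q.primeCompl B (Submonoid.mem_map_of_mem _ hπ)
  have hπB : algebraMap A B π ≠ 0 := nonZeroDivisors.ne_zero hπB'
  have hgen : ∀ i, ∃ q : B, (P i).map (algebraMap A B) = Ideal.span {q} ∧
      (((P i).IsPrime ∧ P i ≤ Q) → Prime q ∧ q ∣ algebraMap A B π) ∧
      (¬ ((P i).IsPrime ∧ P i ≤ Q) → q = 1) := by
    intro i
    by_cases h : (P i).IsPrime ∧ P i ≤ Q
    · haveI := h.1
      obtain ⟨q, hq, hqπ, hspan⟩ :=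
        exists_prime_map_eq_span Q B π hπB (P i) h.2 (hπP i) (hmin i h.1)
      exact ⟨q, hspan, fun _ => ⟨hq, hqπ⟩, fun h' => absurd h h'⟩
    · refine ⟨1, ?_, fun h' => absurd h' h, fun _ => rfl⟩
      rw [Ideal.span_singleton_one]
      rcases hP i with h1 | h1
      · rw [h1, Ideal.map_top]
      · exact IsLocalization.AtPrime.map_eq_top_of_not_le B (fun hle => h ⟨h1, hle⟩)
  choose q hqspan hqprime hqone using hgen
  set s : Finset ι := Finset.univ.filter (fun i => (P i).IsPrime ∧ P i ≤ Q) with hs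
  have hmem : ∀ i, i ∈ s ↔ ((P i).IsPrime ∧ P i ≤ Q) := by
    intro i
    simp [hs]
  have hdisj : ∀ i ∈ s, Disjoint (Q.primeCompl : Set A) (P i : Set A) := by
    intro i hi
    rw [Set.disjoint_left]
    intro a ha haP
    exact ha (((hmem i).mp hi).2 haP)
  -- multiplicities
  have hmult : ∀ i ∈ s, multiplicity (q i) (algebraMap A B π) = m i := by
    intro i hi
    have h := (hmem i).mp hi
    obtain ⟨O', _, _, P', hP', hloc, hPP, hord⟩ := hlen i h.1
    have hle' : P' ≤ Q := hPP ▸ h.2
    have hqspan' : P'.map (algebraMap A B) = Ideal.span {q i} := hPP ▸ hqspan i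
    haveI : IsLocalRing O' := IsLocalization.AtPrime.isLocalRing O' P'
    have hg : ∀ y : Q.primeCompl, IsUnit (algebraMap A O' y) := fun y =>
      IsLocalization.map_units O' (⟨y, fun hy => y.2 (hle' hy)⟩ : P'.primeCompl)
    let θ : B →+* O' := IsLocalization.lift (M := Q.primeCompl) hg
    have hθ : ∀ a : A, θ (algebraMap A B a) = algebraMap A O' a := IsLocalization.lift_eq hg
    have hθc : θ.comp (algebraMap A B) = algebraMap A O' := IsLocalization.lift_comp hg
    have hπO : algebraMap A O' π ∈ nonZeroDivisors O' :=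
      IsLocalization.map_nonZeroDivisors_le P'.primeCompl O' (Submonoid.mem_map_of_mem _ hπ)
    have key := ord_eq_multiplicity θ (q i) (algebraMap A B π) (hqprime i h).1 hπB ?_ ?_ ?_
    · rw [hθ] at key
      rw [← hord, key, ENat.toNat_coe]
    · have : Ideal.span {θ (q i)} = P'.map (algebraMap A O') := by
        rw [← hθc, ← Ideal.map_map, hqspan', Ideal.map_span, Set.image_singleton]
      rw [this, IsLocalization.AtPrime.map_eq_maximalIdeal]
      exact IsLocalRing.maximalIdeal.isMaximal O'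
    · obtain ⟨c, hc⟩ := (hqprime i h).2
      have : θ (q i) * θ c = algebraMap A O' π := by rw [← map_mul, ← hc, hθ]
      rw [← this] at hπO
      exact (mul_mem_nonZeroDivisors.mp hπO).1
    · intro c hc
      obtain ⟨a, t, rfl⟩ := IsLocalization.exists_mk'_eq Q.primeCompl c
      have haP : a ∉ P' := by
        intro haP
        apply hc
        rw [← Ideal.mem_span_singleton, ← hqspan',
          IsLocalization.mk'_mem_map_algebraMap_iff Q.primeCompl]
        exact ⟨1, Submonoid.one_mem _, by simpa using haP⟩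
      have h1 : θ (IsLocalization.mk' B a t) * algebraMap A O' t = algebraMap A O' a := by
        rw [← hθ, ← map_mul, IsLocalization.mk'_spec, hθ]
      have h2 : IsUnit (algebraMap A O' a) :=
        IsLocalization.map_units O' (⟨a, haP⟩ : P'.primeCompl)
      rw [← h1] at h2
      exact isUnit_of_mul_isUnit_left h2
  have hna : ∀ i ∈ s, ∀ j ∈ s, i ≠ j → ¬ Associated (q i) (q j) := by
    intro i hi j hj hij hass
    apply hij
    have hi' := (hmem i).mp hi
    have hj' := (hmem j).mp hj
    refine hinj i j hi'.1 ?_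
    have h1 : (P i).map (algebraMap A B) = (P j).map (algebraMap A B) := by
      rw [hqspan, hqspan]
      exact Ideal.span_singleton_eq_span_singleton.mpr hass
    rw [← IsLocalization.under_map_of_isPrime_disjoint Q.primeCompl B hi'.1 (hdisj i hi),
      ← IsLocalization.under_map_of_isPrime_disjoint Q.primeCompl B hj'.1 (hdisj j hj), h1]
  have hall : ∀ p : B, Prime p → p ∣ algebraMap A B π → ∃ i ∈ s, Associated p (q i) := by
    intro p hp hpπ
    have hsp : (Ideal.span {p}).IsPrime := (Ideal.span_singleton_prime hp.ne_zero).mpr hp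
    have h1 := (IsLocalization.isPrime_iff_isPrime_disjoint Q.primeCompl B (Ideal.span {p})).mp hsp
    obtain ⟨i, hiP, hile⟩ := hcov ((Ideal.span {p}).comap (algebraMap A B)) h1.1
      (Ideal.mem_comap.mpr (Ideal.mem_span_singleton.mpr hpπ))
    have hiQ : P i ≤ Q := by
      intro a ha
      by_contra haQ
      exact (Set.disjoint_left.mp h1.2) haQ (hile ha)
    have his : i ∈ s := (hmem i).mpr ⟨hiP, hiQ⟩
    refine ⟨i, his, ?_⟩
    have h2 : Ideal.span {q i} ≤ Ideal.span {p} := by
      rw [← hqspan i, ← IsLocalization.map_under Q.primeCompl B (Ideal.span {p})]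
      exact Ideal.map_mono hile
    have h3 : p ∣ q i := by
      rw [← Ideal.mem_span_singleton]
      exact h2 (Ideal.mem_span_singleton_self _)
    exact hp.associated_of_dvd (hqprime i ⟨hiP, hiQ⟩).1 h3
  have hassoc := associated_prod_pow_multiplicity s q _ hπB
    (fun i hi => (hqprime i ((hmem i).mp hi)).1) hna hall
  have e1 : (∏ i, P i ^ m i).map (algebraMap A B) = Ideal.span {∏ i, q i ^ m i} := by
    rw [← Ideal.mapHom_apply, map_prod, ← Ideal.prod_span_singleton]
    refine Finset.prod_congr rfl (fun i _ => ?_)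
    rw [Ideal.mapHom_apply, Ideal.map_pow, hqspan, Ideal.span_singleton_pow]
  have e2 : ∏ i, q i ^ m i = ∏ i ∈ s, q i ^ multiplicity (q i) (algebraMap A B π) := by
    rw [← Finset.prod_subset (Finset.subset_univ s) (fun i _ hi => by
      rw [hqone i (fun h => hi ((hmem i).mpr h)), one_pow])]
    exact Finset.prod_congr rfl (fun i hi => by rw [hmult i hi])
  rw [e1, e2, Ideal.map_span, Set.image_singleton]
  exact Ideal.span_singleton_eq_span_singleton.mpr hassoc

/-- **global factorisation**: in a ring all of whose localisations at maximal ideals are factorial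
domains, a principal ideal generated by a nonzerodivisor is the product of the minimal primes over
it, raised to their multiplicities (lengths at the minimal primes). -/
theorem span_eq_prod_pow (π : A) (P : ι → Ideal A) (m : ι → ℕ)
    (hufd : ∀ (Q : Ideal A) [Q.IsMaximal], ∃ (B : Type u) (_ : CommRing B) (_ : Algebra A B)
      (_ : IsLocalization.AtPrime B Q) (_ : IsDomain B), UniqueFactorizationMonoid B)
    (hπ : π ∈ nonZeroDivisors A)
    (hP : ∀ i, P i = ⊤ ∨ (P i).IsPrime)
    (hπP : ∀ i, π ∈ P i)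
    (hinj : ∀ i j, (P i).IsPrime → P i = P j → i = j)
    (hcov : ∀ P' : Ideal A, P'.IsPrime → π ∈ P' → ∃ i, (P i).IsPrime ∧ P i ≤ P')
    (hmin : ∀ i, (P i).IsPrime → ∀ P' : Ideal A, P'.IsPrime → π ∈ P' → P' ≤ P i → P' = P i)
    (hlen : ∀ i, (P i).IsPrime → ∃ (O' : Type u) (_ : CommRing O') (_ : Algebra A O')
      (P' : Ideal A) (_ : P'.IsPrime) (_ : IsLocalization.AtPrime O' P'),
      P' = P i ∧ (Ring.ord O' (algebraMap A O' π)).toNat = m i) :
    Ideal.span {π} = ∏ i, P i ^ m i := by
  refine Ideal.eq_of_localization_maximal (fun Q hQ => ?_)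
  haveI := hQ
  obtain ⟨B, _, _, _, _, _⟩ := hufd Q
  have key := map_span_eq_map_prod π P m Q B hπ hP hπP hinj hcov hmin hlen
  let e : B ≃ₐ[A] Localization.AtPrime Q :=
    IsLocalization.algEquiv Q.primeCompl B (Localization.AtPrime Q)
  have he : (e : B →+* Localization.AtPrime Q).comp (algebraMap A B) =
      algebraMap A (Localization.AtPrime Q) := by
    ext a
    exact e.commutes a
  rw [← he, ← Ideal.map_map, ← Ideal.map_map, key]

end main

end Groth.Agent.H5.ArS
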