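import Mathlib
import Groth.Agent.Lib.Helper5.ArS.FibPts
import Groth.Agent.Lib.Helper5.ArS.UfdFact
import Groth.Agent.Lib.Helper5.ArS.Symm
import Groth.Agent.Lib.Helper5.ArS.Len
import Groth.Agent.Lib.Lead.QC.IdealComap
import Groth.Agent.Lib.Lead.QC.CartierStalk
import Groth.Agent.Lib.Helper3.CA.ABufd2
import Groth.Prelude.Def_ModelsG

/-!
# The closed fibre of a regular model as a sum of effective Cartier divisors (S3313)
-/

set_option autoImplicit false
set_option linter.style.haveILetI false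
universe u
open CategoryTheory CategoryTheory.Limits AlgebraicGeometry TopologicalSpace Opposite

namespace Groth.Agent.H5.ArS

open Groth.Agent.LD Groth.Agent.LD.QC

variable {R : Type u} [CommRing R] [IsDomain R] [IsDiscreteValuationRing R]
  (X : Over (Spec (CommRingCat.of R)))

/-- the ring map `R → Γ(X, V)`. -/
noncomputable def toSec (V : X.left.Opens) : R →+* Γ(X.left, V) :=
  (X.left.presheaf.map (homOfLE le_top).op).hom.comp (Coh.toGlobal X.hom)

theorem specialFibreIdeal_ideal (V : X.left.affineOpens) :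
    (Models.specialFibreIdeal R X).ideal V = (IsLocalRing.maximalIdeal R).map (toSec X V.1) := by
  unfold Models.specialFibreIdeal
  rw [Groth.Agent.LD.QC.ideal_comap_of_le (Curv2.idealSheaf R (IsLocalRing.maximalIdeal R)) X.hom
    ⟨⊤, isAffineOpen_top _⟩ V le_top]
  unfold Curv2.idealSheaf
  rw [Scheme.IdealSheafData.ofIdealTop_ideal, Ideal.map_map, Ideal.map_map]
  congr 1

variable {X}

theorem mem_specialFibreSet_iff {V : X.left.Opens} (hV : IsAffineOpen V) (x : X.left) (hx : x ∈ V)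
    (ϖ : R) (hϖ : Irreducible ϖ) :
    x ∈ Models.specialFibreSet R X ↔ toSec X V ϖ ∈ (hV.primeIdealOf ⟨x, hx⟩).asIdeal := by
  rw [Groth.Agent.LD.QC.mem_primeIdealOf_iff hV x hx]
  have h1 : X.left.basicOpen (toSec X V ϖ) =
      V ⊓ X.hom ⁻¹ᵁ ((Spec (CommRingCat.of R)).basicOpen
        ((Scheme.ΓSpecIso (CommRingCat.of R)).inv.hom ϖ)) := by
    unfold toSec Coh.toGlobal
    simp only [RingHom.coe_comp, Function.comp_apply]
    erw [Scheme.basicOpen_res]
    congr 1
    exact (Scheme.preimage_basicOpen X.hom _).symm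
  have h2 : (X.hom.base x ∈ (Spec (CommRingCat.of R)).basicOpen
      ((Scheme.ΓSpecIso (CommRingCat.of R)).inv.hom ϖ)) ↔ ϖ ∉ (X.hom.base x).asIdeal := by
    erw [basicOpen_eq_of_affine (R := CommRingCat.of R) ϖ]
    exact PrimeSpectrum.mem_basicOpen _ _
  rw [h1]
  change X.hom.base x = IsLocalRing.closedPoint R ↔
    ¬ (x ∈ V ∧ X.hom.base x ∈ (Spec (CommRingCat.of R)).basicOpen
        ((Scheme.ΓSpecIso (CommRingCat.of R)).inv.hom ϖ))
  rw [h2]
  simp only [hx, true_and, not_not]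
  constructor
  · intro h
    rw [h]
    change ϖ ∈ IsLocalRing.maximalIdeal R
    rw [hϖ.maximalIdeal_eq]
    exact Ideal.mem_span_singleton_self ϖ
  · intro h
    apply PrimeSpectrum.ext
    change _ = IsLocalRing.maximalIdeal R
    have hle : IsLocalRing.maximalIdeal R ≤ (X.hom.base x).asIdeal := by
      rw [hϖ.maximalIdeal_eq, Ideal.span_singleton_le_iff_mem]
      exact h
    exact ((IsLocalRing.maximalIdeal.isMaximal R).eq_of_le (X.hom.base x).isPrime.ne_top hle).symm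

theorem toSec_mem_ker (Γ : ArSurf.VertComp R X) (V : X.left.affineOpens) (a : R)
    (ha : a ∈ IsLocalRing.maximalIdeal R) : toSec X V.1 a ∈ (Γ.ι.ker).ideal V := by
  rw [Scheme.Hom.ker_apply, RingHom.mem_ker]
  have h1 : (Γ.ι.app V.1).hom (toSec X V.1 a) =
      (Γ.curve.left.presheaf.map (homOfLE (le_top : Γ.ι ⁻¹ᵁ V.1 ≤ ⊤)).op).hom
        (Coh.toGlobal (Γ.ι ≫ X.hom) a) := by
    have := Scheme.Hom.naturality Γ.ι (homOfLE (le_top : V.1 ≤ ⊤)).op
    exact congr($this (Coh.toGlobal X.hom a))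
  rw [h1, Γ.w, toGlobal_comp_specMap]
  have : IsLocalRing.residue R a = 0 := (IsLocalRing.residue_eq_zero_iff a).mpr ha
  rw [this, map_zero]
  exact map_zero _

theorem ker_ideal_top_or_prime (Γ : ArSurf.VertComp R X) (V : X.left.affineOpens) :
    (Γ.ι.ker).ideal V = ⊤ ∨ ((Γ.ι.ker).ideal V).IsPrime := by
  rw [Scheme.Hom.ker_apply]
  by_cases hne : Nonempty ↥(Γ.ι ⁻¹ᵁ V.1)
  · right
    haveI : IsDomain Γ(Γ.curve.left, Γ.ι ⁻¹ᵁ V.1) :=
      @IsIntegral.component_integral Γ.curve.left _ (Γ.ι ⁻¹ᵁ V.1) hne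
    exact RingHom.ker_isPrime _
  · left
    have hbot : Γ.ι ⁻¹ᵁ V.1 = ⊥ := by
      ext y
      simp only [Opens.coe_bot, Set.mem_empty_iff_false, iff_false]
      intro hy
      exact hne ⟨⟨y, hy⟩⟩
    haveI : Subsingleton Γ(Γ.curve.left, Γ.ι ⁻¹ᵁ V.1) := by
      rw [hbot]
      infer_instance
    rw [Ideal.eq_top_iff_one, RingHom.mem_ker]
    exact Subsingleton.elim _ _

/-- if the ideal of `Γ` on the affine open `V` is prime, the generic point of `Γ` lies in `V` and
its prime is that ideal. -/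
theorem genPt_mem_and_primeIdealOf_eq (Γ : ArSurf.VertComp R X) (V : X.left.affineOpens)
    (hP : ((Γ.ι.ker).ideal V).IsPrime) :
    ∃ hξ : Models.genPtOf R X Γ ∈ V.1,
      (V.2.primeIdealOf ⟨_, hξ⟩).asIdeal = (Γ.ι.ker).ideal V := by
  set ξ := Models.genPtOf R X Γ with hξdef
  let q : PrimeSpectrum Γ(X.left, V.1) := ⟨(Γ.ι.ker).ideal V, hP⟩
  let z : X.left := V.2.fromSpec q
  have hzV : z ∈ V.1 := fromSpec_mem V.2 q
  have hzq : V.2.primeIdealOf ⟨z, hzV⟩ = q := primeIdealOf_fromSpec V.2 q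
  have hzsupp : z ∈ Γ.ι.ker.support := by
    rw [mem_support_iff V.2 _ z hzV, hzq]
  have hcl : (Γ.ι.ker.support : Set X.left) = closure {ξ} := by
    rw [support_ker_ι]
    exact (range_ι_facts Γ).2.2.2
  have h1 : ξ ⤳ z := by
    rw [specializes_iff_mem_closure, ← hcl]
    exact hzsupp
  have hξV : ξ ∈ V.1 := h1.mem_open V.1.2 hzV
  have hξsupp : ξ ∈ Γ.ι.ker.support := by
    change ξ ∈ (Γ.ι.ker.support : Set _)
    rw [hcl]
    exact subset_closure rfl
  have h2 : z ⤳ ξ := by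
    rw [← primeIdealOf_le_iff V.2 ξ z hξV hzV, hzq]
    exact (mem_support_iff V.2 _ ξ hξV).mp hξsupp
  have hzξ : z = ξ := (h2.antisymm h1).eq
  refine ⟨hξV, ?_⟩
  have h3 : (V.2.primeIdealOf ⟨ξ, hξV⟩).asIdeal = (V.2.primeIdealOf ⟨z, hzV⟩).asIdeal := by
    congr 2
    exact Subtype.ext hzξ.symm
  rw [h3, hzq]

section comp

variable {n : ℕ} (Γ : Fin n → ArSurf.VertComp R X) (hΓ : Models.IsComponentList R X Γ)
include hΓ

theorem exists_ker_le (V : X.left.affineOpens) (ϖ : R) (hϖ : Irreducible ϖ)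
    (P' : Ideal Γ(X.left, V.1)) (hP' : P'.IsPrime) (hπ : toSec X V.1 ϖ ∈ P') :
    ∃ i, ((Γ i).ι.ker.ideal V).IsPrime ∧ (Γ i).ι.ker.ideal V ≤ P' := by
  let q : PrimeSpectrum Γ(X.left, V.1) := ⟨P', hP'⟩
  let y : X.left := V.2.fromSpec q
  have hyV : y ∈ V.1 := fromSpec_mem V.2 q
  have hyq : V.2.primeIdealOf ⟨y, hyV⟩ = q := primeIdealOf_fromSpec V.2 q
  have hyF : y ∈ Models.specialFibreSet R X := by
    rw [mem_specialFibreSet_iff V.2 y hyV ϖ hϖ, hyq]
    exact hπ
  have hclF : closure {y} ⊆ Models.specialFibreSet R X :=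
    (Models.isClosed_specialFibreSet R X).closure_subset_iff.mpr (Set.singleton_subset_iff.mpr hyF)
  obtain ⟨T, hyT, hT⟩ := exists_maximal_irreducible_subset (Models.specialFibreSet R X)
    (closure {y}) isIrreducible_singleton.closure hclF
  have hTmem : T ∈ Models.fibreComponents R X := hT
  rw [← hΓ.2] at hTmem
  obtain ⟨i, rfl⟩ := hTmem
  have hle : (Γ i).ι.ker.ideal V ≤ P' := by
    have h1 : y ∈ (Γ i).ι.ker.support := by
      change y ∈ ((Γ i).ι.ker.support : Set _)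
      rw [support_ker_ι]
      exact hyT (subset_closure rfl)
    have h2 := (mem_support_iff V.2 _ y hyV).mp h1
    rwa [hyq] at h2
  refine ⟨i, ?_, hle⟩
  rcases ker_ideal_top_or_prime (Γ i) V with h | h
  · exfalso
    rw [h] at hle
    exact hP'.ne_top (top_le_iff.mp hle)
  · exact h

theorem ker_minimal (V : X.left.affineOpens) (ϖ : R) (hϖ : Irreducible ϖ) (i : Fin n)
    (hP : ((Γ i).ι.ker.ideal V).IsPrime)
    (P' : Ideal Γ(X.left, V.1)) (hP' : P'.IsPrime) (hπ : toSec X V.1 ϖ ∈ P')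
    (hle : P' ≤ (Γ i).ι.ker.ideal V) : P' = (Γ i).ι.ker.ideal V := by
  obtain ⟨hξV, hξP⟩ := genPt_mem_and_primeIdealOf_eq (Γ i) V hP
  set ξ := Models.genPtOf R X (Γ i) with hξdef
  let q : PrimeSpectrum Γ(X.left, V.1) := ⟨P', hP'⟩
  let y : X.left := V.2.fromSpec q
  have hyV : y ∈ V.1 := fromSpec_mem V.2 q
  have hyq : V.2.primeIdealOf ⟨y, hyV⟩ = q := primeIdealOf_fromSpec V.2 q
  have hyF : y ∈ Models.specialFibreSet R X := by
    rw [mem_specialFibreSet_iff V.2 y hyV ϖ hϖ, hyq]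
    exact hπ
  have hclF : closure {y} ⊆ Models.specialFibreSet R X :=
    (Models.isClosed_specialFibreSet R X).closure_subset_iff.mpr (Set.singleton_subset_iff.mpr hyF)
  have h1 : y ⤳ ξ := by
    rw [← primeIdealOf_le_iff V.2 ξ y hξV hyV, hyq, hξP]
    exact hle
  have hr : Set.range (Γ i).ι = closure {ξ} := (range_ι_facts (Γ i)).2.2.2
  have hsub : Set.range (Γ i).ι ⊆ closure {y} := by
    rw [hr]
    exact closure_minimal (Set.singleton_subset_iff.mpr h1.mem_closure) isClosed_closure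
  have hmax : Set.range (Γ i).ι ∈ Models.fibreComponents R X := by
    rw [← hΓ.2]
    exact ⟨i, rfl⟩
  have hsub' : closure {y} ⊆ Set.range (Γ i).ι :=
    hmax.2 ⟨isIrreducible_singleton.closure, hclF⟩ hsub
  have h2 : ξ ⤳ y := by
    rw [specializes_iff_mem_closure, ← hr]
    exact hsub' (subset_closure rfl)
  have hyξ : y = ξ := (h1.antisymm h2).eq
  have h3 : (V.2.primeIdealOf ⟨ξ, hξV⟩).asIdeal = (V.2.primeIdealOf ⟨y, hyV⟩).asIdeal := by
    congr 2
    exact Subtype.ext hyξ.symm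
  rw [← hξP, h3, hyq]

theorem ker_injective (V : X.left.affineOpens) (i j : Fin n)
    (hP : ((Γ i).ι.ker.ideal V).IsPrime)
    (h : (Γ i).ι.ker.ideal V = (Γ j).ι.ker.ideal V) : i = j := by
  have hPj : ((Γ j).ι.ker.ideal V).IsPrime := h ▸ hP
  obtain ⟨hξi, hi⟩ := genPt_mem_and_primeIdealOf_eq (Γ i) V hP
  obtain ⟨hξj, hj⟩ := genPt_mem_and_primeIdealOf_eq (Γ j) V hPj
  have hpt : Models.genPtOf R X (Γ i) = Models.genPtOf R X (Γ j) :=
    primeIdealOf_injective V.2 _ _ hξi hξj (hi.trans (h.trans hj.symm))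
  apply hΓ.1
  change Set.range (Γ i).ι = Set.range (Γ j).ι
  rw [(range_ι_facts (Γ i)).2.2.2, (range_ι_facts (Γ j)).2.2.2]
  unfold Models.genPtOf at hpt
  rw [hpt]

end comp

theorem toSec_flat [Flat X.hom] {V : X.left.Opens} (hV : IsAffineOpen V) : (toSec X V).Flat := by
  have h1 : (X.hom.appLE ⊤ V le_top).hom.Flat :=
    Flat.flat_appLE X.hom (isAffineOpen_top _) hV le_top
  have h2 : ((Scheme.ΓSpecIso (CommRingCat.of R)).inv.hom).Flat :=
    RingHom.Flat.of_bijective (ConcreteCategory.bijective_of_isIso _)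
  exact h2.comp h1

theorem toSec_mem_nonZeroDivisors [Flat X.hom] {V : X.left.Opens} (hV : IsAffineOpen V) (a : R)
    (ha : a ≠ 0) : toSec X V a ∈ nonZeroDivisors Γ(X.left, V) := by
  have hflat := toSec_flat (X := X) hV
  letI := (toSec X V).toAlgebra
  haveI : Module.Flat R Γ(X.left, V) := hflat
  have hreg : IsSMulRegular Γ(X.left, V) a :=
    Module.Flat.isSMulRegular_of_nonZeroDivisors (mem_nonZeroDivisors_of_ne_zero ha)
  rw [mem_nonZeroDivisors_iff_right]
  intro m hm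
  apply hreg
  change a • m = a • 0
  rw [smul_zero, Algebra.smul_def, mul_comm]
  exact hm

theorem exists_ufd_localization (hreg : Models.IsRegularScheme X.left) (V : X.left.affineOpens)
    (Q : Ideal Γ(X.left, V.1)) [hQ : Q.IsPrime] :
    ∃ (B : Type u) (_ : CommRing B) (_ : Algebra Γ(X.left, V.1) B)
      (_ : IsLocalization.AtPrime B Q) (_ : IsDomain B), UniqueFactorizationMonoid B := by
  let q : PrimeSpectrum Γ(X.left, V.1) := ⟨Q, hQ⟩
  let x : X.left := V.2.fromSpec q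
  have hxV : x ∈ V.1 := fromSpec_mem V.2 q
  have hxq : V.2.primeIdealOf ⟨x, hxV⟩ = q := primeIdealOf_fromSpec V.2 q
  letI : Algebra Γ(X.left, V.1) (X.left.presheaf.stalk x) :=
    TopCat.Presheaf.algebra_section_stalk X.left.presheaf ⟨x, hxV⟩
  have hloc : IsLocalization.AtPrime (X.left.presheaf.stalk x)
      (V.2.primeIdealOf ⟨x, hxV⟩).asIdeal := V.2.isLocalization_stalk ⟨x, hxV⟩
  have hloc' : IsLocalization.AtPrime (X.left.presheaf.stalk x) Q := by
    have : ∀ p : PrimeSpectrum Γ(X.left, V.1), p = q →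
        IsLocalization.AtPrime (X.left.presheaf.stalk x) p.asIdeal →
        IsLocalization.AtPrime (X.left.presheaf.stalk x) Q := by
      rintro _ rfl h
      exact h
    exact this _ hxq hloc
  haveI := hreg x
  obtain ⟨hd, hu⟩ := Groth.Agent.H3.ABufd.main (X.left.presheaf.stalk x)
  exact ⟨_, _, _, hloc', hd, hu⟩

theorem exists_stalk_loc (V : X.left.affineOpens) (ϖ : R) (hϖ : Irreducible ϖ)
    (Γ : ArSurf.VertComp R X) (hP : ((Γ.ι.ker).ideal V).IsPrime) :
    ∃ (O' : Type u) (_ : CommRing O') (_ : Algebra Γ(X.left, V.1) O')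
      (P' : Ideal Γ(X.left, V.1)) (_ : P'.IsPrime) (_ : IsLocalization.AtPrime O' P'),
      P' = (Γ.ι.ker).ideal V ∧
        (Ring.ord O' (algebraMap Γ(X.left, V.1) O' (toSec X V.1 ϖ))).toNat =
          Models.mult R X Γ := by
  obtain ⟨hξV, hξP⟩ := genPt_mem_and_primeIdealOf_eq Γ V hP
  letI : Algebra Γ(X.left, V.1) (X.left.presheaf.stalk (Models.genPtOf R X Γ)) :=
    TopCat.Presheaf.algebra_section_stalk X.left.presheaf ⟨_, hξV⟩
  refine ⟨X.left.presheaf.stalk (Models.genPtOf R X Γ), inferInstance, inferInstance,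
    (V.2.primeIdealOf ⟨_, hξV⟩).asIdeal, (V.2.primeIdealOf ⟨_, hξV⟩).isPrime,
    V.2.isLocalization_stalk ⟨_, hξV⟩, hξP, ?_⟩
  unfold Models.mult Ring.ord
  have hI : Ideal.map (Models.stalkHom R X (Models.genPtOf R X Γ)) (IsLocalRing.maximalIdeal R) =
      Ideal.span {algebraMap Γ(X.left, V.1) (X.left.presheaf.stalk (Models.genPtOf R X Γ))
        (toSec X V.1 ϖ)} := by
    rw [hϖ.maximalIdeal_eq, Ideal.map_span, Set.image_singleton]
    congr 2
    change (X.left.presheaf.germ ⊤ _ trivial).hom (Coh.toGlobal X.hom ϖ) =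
      (X.left.presheaf.germ V.1 _ hξV).hom
        ((X.left.presheaf.map (homOfLE le_top).op).hom (Coh.toGlobal X.hom ϖ))
    exact (TopCat.Presheaf.germ_res_apply X.left.presheaf (homOfLE le_top) _ hξV _).symm
  rw [hI]

theorem ideal_prod_pow {Y : Scheme.{u}} {ι : Type*} (s : Finset ι) (I : ι → Y.IdealSheafData)
    (m : ι → ℕ) (V : Y.affineOpens) :
    (∏ i ∈ s, I i ^ m i).ideal V = ∏ i ∈ s, (I i).ideal V ^ m i := by
  classical
  induction s using Finset.induction_on with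
  | empty =>
    rw [Finset.prod_empty, Finset.prod_empty, Scheme.IdealSheafData.one_eq_top,
      Scheme.IdealSheafData.ideal_top, Ideal.one_eq_top]
    rfl
  | insert a s ha ih =>
    rw [Finset.prod_insert ha, Finset.prod_insert ha, ← ih]
    rfl

section main

variable [Flat X.hom] (hreg : Models.IsRegularScheme X.left)
  {n : ℕ} (Γ : Fin n → ArSurf.VertComp R X) (hΓ : Models.IsComponentList R X Γ)
include hreg hΓ

/-- **S3313**, second half: the closed fibre is `Σ m_i Γ_i`. -/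
theorem specialFibreIdeal_eq_prod :
    Models.specialFibreIdeal R X = ∏ i, (Γ i).ι.ker ^ Models.mult R X (Γ i) := by
  obtain ⟨ϖ, hϖ⟩ := IsDiscreteValuationRing.exists_irreducible R
  refine Scheme.IdealSheafData.ext ?_
  funext V
  rw [specialFibreIdeal_ideal, hϖ.maximalIdeal_eq, Ideal.map_span, Set.image_singleton,
    ideal_prod_pow]
  exact span_eq_prod_pow (toSec X V.1 ϖ) (fun i => (Γ i).ι.ker.ideal V)
    (fun i => Models.mult R X (Γ i)) (fun Q _ => exists_ufd_localization hreg V Q)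
    (toSec_mem_nonZeroDivisors V.2 ϖ hϖ.ne_zero) (fun i => ker_ideal_top_or_prime (Γ i) V)
    (fun i => toSec_mem_ker (Γ i) V ϖ (by
      rw [hϖ.maximalIdeal_eq]
      exact Ideal.mem_span_singleton_self ϖ))
    (fun i j hP h => ker_injective Γ hΓ V i j hP h)
    (fun P' hP' hπ => exists_ker_le Γ hΓ V ϖ hϖ P' hP' hπ)
    (fun i hP P' hP' hπ hle => ker_minimal Γ hΓ V ϖ hϖ i hP P' hP' hπ hle)
    (fun i hP => exists_stalk_loc V ϖ hϖ (Γ i) hP)

/-- **S3313**, first half: the components of the closed fibre of a regular model are effective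
Cartier divisors. -/
theorem isEffCartierIdeal_ker [IsLocallyNoetherian X.left] (i : Fin n) :
    BlowUp.IsEffCartierIdeal (Γ i).ι.ker := by
  obtain ⟨ϖ, hϖ⟩ := IsDiscreteValuationRing.exists_irreducible R
  refine isEffCartierIdeal_of_stalkwise _ ?_
  intro x hx U hxU
  letI : Algebra Γ(X.left, U.1) (X.left.presheaf.stalk x) :=
    TopCat.Presheaf.algebra_section_stalk X.left.presheaf ⟨x, hxU⟩
  haveI := U.2.isLocalization_stalk ⟨x, hxU⟩
  haveI := hreg x
  obtain ⟨hd, hu⟩ := Groth.Agent.H3.ABufd.main (X.left.presheaf.stalk x)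
  have hle : (Γ i).ι.ker.ideal U ≤ (U.2.primeIdealOf ⟨x, hxU⟩).asIdeal :=
    (mem_support_iff U.2 _ x hxU).mp hx
  have hP : ((Γ i).ι.ker.ideal U).IsPrime := by
    rcases ker_ideal_top_or_prime (Γ i) U with h | h
    · exfalso
      rw [h] at hle
      exact (U.2.primeIdealOf ⟨x, hxU⟩).isPrime.ne_top (top_le_iff.mp hle)
    · exact h
  have hπB : algebraMap Γ(X.left, U.1) (X.left.presheaf.stalk x) (toSec X U.1 ϖ) ≠ 0 := by
    have := IsLocalization.map_nonZeroDivisors_le (U.2.primeIdealOf ⟨x, hxU⟩).asIdeal.primeCompl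
      (X.left.presheaf.stalk x)
      (Submonoid.mem_map_of_mem _ (toSec_mem_nonZeroDivisors U.2 ϖ hϖ.ne_zero))
    exact nonZeroDivisors.ne_zero this
  obtain ⟨q, hq, -, hspan⟩ := exists_prime_map_eq_span (U.2.primeIdealOf ⟨x, hxU⟩).asIdeal
    (X.left.presheaf.stalk x) (toSec X U.1 ϖ) hπB ((Γ i).ι.ker.ideal U) hle
    (toSec_mem_ker (Γ i) U ϖ (by
      rw [hϖ.maximalIdeal_eq]
      exact Ideal.mem_span_singleton_self ϖ))
    (fun P' hP' hπ hle' => ker_minimal Γ hΓ U ϖ hϖ i hP P' hP' hπ hle')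
  exact ⟨q, mem_nonZeroDivisors_of_ne_zero hq.ne_zero, hspan⟩

end main

end Groth.Agent.H5.ArS
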