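import Mathlib
import Groth.Agent.Lib.Lead.QC.IdealMod
import Groth.Agent.Lib.Lead.QC.QuotSupp
import Groth.Agent.Lib.Lead.QC.HomAffine
import Groth.Agent.Lib.Lead.Ann.SmulEnd

/-!
# The ideal module of a globally principal ideal sheaf generated by a nonzerodivisor is trivial
-/

set_option autoImplicit false
set_option linter.style.haveILetI false
universe u
open CategoryTheory CategoryTheory.Limits AlgebraicGeometry TopologicalSpace Opposite

namespace Groth.Agent.H5.ArS

open Groth.Agent.LD Groth.Agent.LD.QC

variable {X : Scheme.{u}}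

/-- an ideal sheaf generated on every affine open by the restriction of a global function which is
a nonzerodivisor there has trivial ideal module. -/
theorem nonempty_unit_iso_idealMod_of_principal (I : X.IdealSheafData) (π : Γ(X, ⊤))
    (hI : ∀ U : X.affineOpens,
      I.ideal U = Ideal.span {(X.presheaf.map (homOfLE (le_top : U.1 ≤ ⊤)).op).hom π})
    (hπ : ∀ U : X.affineOpens,
      (X.presheaf.map (homOfLE (le_top : U.1 ≤ ⊤)).op).hom π ∈ nonZeroDivisors Γ(X, U.1)) :
    Nonempty (unitMod X ≅ ClSub.idealMod I) := by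
  let u : unitMod X ⟶ unitMod X := Ann.smulEnd (unitMod X) π
  have huapp : ∀ (U : X.Opens) (s : Γ(X, U)),
      (show Γ(X, U) from u.app U s) = (X.presheaf.map (homOfLE (le_top : U ≤ ⊤)).op).hom π * s :=
    fun U s => rfl
  have h0 : u ≫ ClSub.toSubscheme I = 0 := by
    apply hom_ext_affine
    intro U s
    change (ClSub.toSubscheme I).app U.1 (u.app U.1 s) = 0
    rw [toSubscheme_app_eq_zero_iff, hI U]
    exact Ideal.mem_span_singleton.mpr ⟨s, huapp U.1 s⟩
  let θ : unitMod X ⟶ ClSub.idealMod I := kernel.lift _ u h0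
  have hθ : θ ≫ ClSub.idealModι I = u := kernel.lift_ι _ _ _
  have hθapp : ∀ (U : X.Opens) (a : Γ(unitMod X, U)),
      (ClSub.idealModι I).app U (θ.app U a) = u.app U a := by
    intro U a
    exact congrArg (fun φ : unitMod X ⟶ unitMod X => φ.app U a) hθ
  haveI : IsIso θ := by
    apply isIso_of_bijective_affine
    intro U
    constructor
    · intro a b hab
      have h1 : u.app U.1 a = u.app U.1 b := by rw [← hθapp, ← hθapp, hab]
      have h2 : (X.presheaf.map (homOfLE (le_top : U.1 ≤ ⊤)).op).hom π * (show Γ(X, U.1) from a) =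
          (X.presheaf.map (homOfLE (le_top : U.1 ≤ ⊤)).op).hom π * (show Γ(X, U.1) from b) := h1
      exact mul_cancel_left_mem_nonZeroDivisors (hπ U) |>.mp h2
    · intro c
      have hc : (show Γ(X, U.1) from (ClSub.idealModι I).app U.1 c) ∈ I.ideal U :=
        (exists_idealModι_app_eq_iff I U _).mp ⟨c, rfl⟩
      rw [hI U] at hc
      obtain ⟨t, ht⟩ := Ideal.mem_span_singleton.mp hc
      refine ⟨(show Γ(unitMod X, U.1) from t), ?_⟩
      apply idealModι_app_injective I U.1
      rw [hθapp]
      exact ht.symm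
  exact ⟨asIso θ⟩

end Groth.Agent.H5.ArS
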