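import Mathlib
import Groth.Agent.Lib.Helper5.ArS.PrincIdeal
import Groth.Agent.Lib.Helper5.ArS.Base
import Groth.Agent.Lib.Helper5.DegC.TensorDeg
import Groth.Agent.Lib.Lead.QC.IdealMul
import Groth.Agent.Lib.Lead.QC.TensorPow
import Groth.Agent.Lib.Lead.QC.PullInv
import Groth.Agent.Lib.Lead.QC.FiniteFree
import Groth.Agent.Lib.Lead.Curve.Euler

/-!
# Degrees of pullbacks of ideal modules of products of effective Cartier divisors
-/

set_option autoImplicit false
set_option linter.style.haveILetI false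
universe u
open CategoryTheory CategoryTheory.Limits AlgebraicGeometry TopologicalSpace Opposite

namespace Groth.Agent.H5.ArS

open Groth.Agent.LD Groth.Agent.LD.QC Groth.Agent.H5.DegC

variable (k : Type u) [Field k] {Y : Scheme.{u}} [Y.Over (Spec (CommRingCat.of k))]
  [IsProper (Y ↘ Spec (CommRingCat.of k))] {X : Scheme.{u}} (g : Y ⟶ X)

/-- the degree of the pullback to `Y`. -/
noncomputable def pdeg (N : X.Modules) : ℤ :=
  Curv2.deg k Y ((Scheme.Modules.pullback g).obj N) 1

lemma pdeg_iso {N N' : X.Modules} (e : N ≅ N') : pdeg k g N = pdeg k g N' :=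
  Curve.deg_iso k Y ((Scheme.Modules.pullback g).mapIso e) 1

lemma pdeg_unit : pdeg k g (unitMod X) = 0 := by
  unfold pdeg
  rw [Curve.deg_iso k Y (pbUnitIso g) 1]
  unfold Curv2.deg
  change Curv2.euler k Y (Coh.structureModule Y) - _ = 0
  push_cast
  ring

lemma pdeg_tensor (hdim : topologicalKrullDim Y ≤ 1) (N N' : X.Modules)
    (hN : PicF.IsInvertible N) (hN' : PicF.IsInvertible N') :
    pdeg k g (CohB1.tensorMod N N') = pdeg k g N + pdeg k g N' := by
  unfold pdeg
  rw [Curve.deg_iso k Y (pbTensorIso g N N' hN hN') 1]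
  have h := deg_tensorMod k hdim 1 1 _ _
    ((isInvertible_iff _).mp (isInvertible_pullback g hN))
    ((isInvertible_iff _).mp (isInvertible_pullback g hN'))
  rw [mul_one] at h
  rw [h]
  push_cast
  ring

section ideals

variable (hdim : topologicalKrullDim Y ≤ 1)
include hdim

lemma pdeg_idealMod_mul (I J : X.IdealSheafData) (hI : BlowUp.IsEffCartierIdeal I)
    (hJ : BlowUp.IsEffCartierIdeal J) :
    BlowUp.IsEffCartierIdeal (I * J) ∧
      pdeg k g (ClSub.idealMod (I * J)) =
        pdeg k g (ClSub.idealMod I) + pdeg k g (ClSub.idealMod J) := by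
  have hI' : PicF.IsInvertible (ClSub.idealMod I) := (isInvertible_idealMod_iff I).mpr hI
  have hJ' : PicF.IsInvertible (ClSub.idealMod J) := (isInvertible_idealMod_iff J).mpr hJ
  haveI := isIso_idealMulLift I J hJ'
  let e : CohB1.tensorMod (ClSub.idealMod I) (ClSub.idealMod J) ≅ ClSub.idealMod (I * J) :=
    asIso (idealMulLift I J)
  have hIJ : PicF.IsInvertible (ClSub.idealMod (I * J)) :=
    Groth.Agent.LD.QC.isInvertible_of_iso e (isInvertible_tensorMod hI' hJ')
  refine ⟨(isInvertible_idealMod_iff (I * J)).mp hIJ, ?_⟩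
  rw [← pdeg_iso k g e, pdeg_tensor k g hdim _ _ hI' hJ']

lemma pdeg_idealMod_one :
    BlowUp.IsEffCartierIdeal (1 : X.IdealSheafData) ∧
      pdeg k g (ClSub.idealMod (1 : X.IdealSheafData)) = 0 := by
  obtain ⟨e⟩ := nonempty_unit_iso_idealMod_of_principal (1 : X.IdealSheafData) 1
    (fun U => by
      rw [map_one, Ideal.span_singleton_one]
      rfl)
    (fun U => by
      rw [map_one]
      exact Submonoid.one_mem _)
  refine ⟨(isInvertible_idealMod_iff _).mp
    (Groth.Agent.LD.QC.isInvertible_of_iso e (isInvertible_unit X)), ?_⟩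
  rw [← pdeg_iso k g e, pdeg_unit]

lemma pdeg_idealMod_pow (I : X.IdealSheafData) (hI : BlowUp.IsEffCartierIdeal I) (n : ℕ) :
    BlowUp.IsEffCartierIdeal (I ^ n) ∧
      pdeg k g (ClSub.idealMod (I ^ n)) = n * pdeg k g (ClSub.idealMod I) := by
  induction n with
  | zero =>
    rw [pow_zero]
    obtain ⟨h1, h2⟩ := pdeg_idealMod_one k g hdim
    exact ⟨h1, by rw [h2]; simp⟩
  | succ n ih =>
    rw [pow_succ]
    obtain ⟨h1, h2⟩ := pdeg_idealMod_mul k g hdim (I ^ n) I ih.1 hI
    refine ⟨h1, ?_⟩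
    rw [h2, ih.2]
    push_cast
    ring

lemma pdeg_idealMod_prod {ι : Type*} (s : Finset ι) (I : ι → X.IdealSheafData)
    (hI : ∀ j, BlowUp.IsEffCartierIdeal (I j)) (m : ι → ℕ) :
    BlowUp.IsEffCartierIdeal (∏ j ∈ s, I j ^ m j) ∧
      pdeg k g (ClSub.idealMod (∏ j ∈ s, I j ^ m j)) =
        ∑ j ∈ s, (m j : ℤ) * pdeg k g (ClSub.idealMod (I j)) := by
  classical
  induction s using Finset.induction_on with
  | empty =>
    rw [Finset.prod_empty, Finset.sum_empty]
    exact pdeg_idealMod_one k g hdim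
  | insert a s ha ih =>
    rw [Finset.prod_insert ha, Finset.sum_insert ha]
    obtain ⟨h1, h2⟩ := pdeg_idealMod_pow k g hdim (I a) (hI a) (m a)
    obtain ⟨h3, h4⟩ := pdeg_idealMod_mul k g hdim _ _ h1 ih.1
    exact ⟨h3, by rw [h4, h2, ih.2]⟩

end ideals

end Groth.Agent.H5.ArS
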