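import Mathlib
import Groth.Agent.Lib.Helper5.ArS.FibDec
import Groth.Agent.Lib.Helper5.ArS.FibNum

/-!
# The closed fibre is numerically trivial on vertical divisors (S7921, S3318)
-/

set_option autoImplicit false
set_option linter.style.haveILetI false
universe u
open CategoryTheory CategoryTheory.Limits AlgebraicGeometry TopologicalSpace Opposite

namespace Groth.Agent.H5.ArS

open Groth.Agent.LD Groth.Agent.LD.QC

variable {R : Type u} [CommRing R] [IsDomain R] [IsDiscreteValuationRing R]
  {X : Over (Spec (CommRingCat.of R))}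

/-- the ideal module of the closed fibre is trivial. -/
theorem nonempty_unit_iso_idealMod_specialFibreIdeal [Flat X.hom] :
    Nonempty (unitMod X.left ≅ ClSub.idealMod (Models.specialFibreIdeal R X)) := by
  obtain ⟨ϖ, hϖ⟩ := IsDiscreteValuationRing.exists_irreducible R
  refine nonempty_unit_iso_idealMod_of_principal _ (Coh.toGlobal X.hom ϖ) (fun V => ?_)
    (fun V => toSec_mem_nonZeroDivisors V.2 ϖ hϖ.ne_zero)
  rw [specialFibreIdeal_ideal, hϖ.maximalIdeal_eq, Ideal.map_span, Set.image_singleton]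
  rfl

/-- the intersection number with `O(Γ)` is minus the degree of the pullback of the ideal. -/
theorem inter_eq_neg_pdeg (hp : IsProper X.hom) (Γ' : ArSurf.VertComp R X)
    (I : X.left.IdealSheafData) (hI : BlowUp.IsEffCartierIdeal I) (L : X.left.Modules)
    (hL : ClSub.IsInverseOf L (ClSub.idealMod I)) :
    haveI : IsProper (Γ'.curve.left ↘ Spec (CommRingCat.of (IsLocalRing.ResidueField R))) :=
      isProper_curve_hom hp Γ'
    ArSurf.inter R X L Γ' = - pdeg (IsLocalRing.ResidueField R) Γ'.ι (ClSub.idealMod I) := by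
  haveI : IsProper (Γ'.curve.left ↘ Spec (CommRingCat.of (IsLocalRing.ResidueField R))) :=
    isProper_curve_hom hp Γ'
  obtain ⟨hLinv, hpL, hpI, ⟨e⟩⟩ := pullback_inverse_facts Γ'.ι I hI L hL
  unfold ArSurf.inter pdeg
  rw [curveDeg_of_inverse (IsLocalRing.ResidueField R) (dim_curve_le Γ') _ _ hpL hpI e,
    curveDeg_eq_deg (IsLocalRing.ResidueField R) (dim_curve_le Γ') _ hpI]

/-- **S7921 / S3318**: the closed fibre `Σ m_j Γ_j` of a regular flat proper `R`-scheme is
numerically trivial on every vertical prime divisor. -/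
theorem sum_mult_inter_eq_zero [Flat X.hom] [IsLocallyNoetherian X.left] (hp : IsProper X.hom)
    (hreg : Models.IsRegularScheme X.left) {n : ℕ} (Γ : Fin n → ArSurf.VertComp R X)
    (hΓ : Models.IsComponentList R X Γ) (L : Fin n → X.left.Modules)
    (hL : ∀ j, ClSub.IsInverseOf (L j) (ClSub.idealMod (Γ j).ι.ker))
    (Γ' : ArSurf.VertComp R X) :
    ∑ j, (Models.mult R X (Γ j) : ℤ) * ArSurf.inter R X (L j) Γ' = 0 := by
  haveI : IsProper (Γ'.curve.left ↘ Spec (CommRingCat.of (IsLocalRing.ResidueField R))) :=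
    isProper_curve_hom hp Γ'
  have hI : ∀ j, BlowUp.IsEffCartierIdeal (Γ j).ι.ker :=
    fun j => isEffCartierIdeal_ker hreg Γ hΓ j
  have h1 := (pdeg_idealMod_prod (IsLocalRing.ResidueField R) Γ'.ι (dim_curve_le Γ')
    Finset.univ (fun j => (Γ j).ι.ker) hI (fun j => Models.mult R X (Γ j))).2
  rw [← specialFibreIdeal_eq_prod hreg Γ hΓ] at h1
  obtain ⟨e⟩ := nonempty_unit_iso_idealMod_specialFibreIdeal (X := X)
  rw [← pdeg_iso _ Γ'.ι e, pdeg_unit] at h1
  have h2 : ∀ j, ArSurf.inter R X (L j) Γ' =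
      - pdeg (IsLocalRing.ResidueField R) Γ'.ι (ClSub.idealMod (Γ j).ι.ker) :=
    fun j => inter_eq_neg_pdeg hp Γ' _ (hI j) (L j) (hL j)
  simp only [h2, mul_neg, Finset.sum_neg_distrib]
  rw [← h1]
  simp

end Groth.Agent.H5.ArS
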