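import Mathlib

/-!
# Linear algebra of intersection matrices of fibres (Zariski's lemma)
-/

set_option autoImplicit false

namespace Groth.Agent.H5.ArS

section LA

variable {ι : Type*} [Fintype ι]

/-- the quadratic form of a symmetric matrix with zero row sums is `-½ Σ w_ij (b_i - b_j)²`. -/
theorem sum_mul_eq_neg_half_sum_sq (w : ι → ι → ℚ) (hsymm : ∀ i j, w i j = w j i)
    (hrow : ∀ i, ∑ j, w i j = 0) (b : ι → ℚ) :
    ∑ i, ∑ j, w i j * b i * b j = -(1 / 2) * ∑ i, ∑ j, w i j * (b i - b j) ^ 2 := by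
  have e1 : ∑ i, ∑ j, w i j * b i ^ 2 = 0 := by
    apply Finset.sum_eq_zero
    intro i _
    rw [← Finset.sum_mul, hrow, zero_mul]
  have e2 : ∑ i, ∑ j, w i j * b j ^ 2 = 0 := by
    rw [Finset.sum_comm]
    apply Finset.sum_eq_zero
    intro j _
    have : ∑ i, w i j * b j ^ 2 = (∑ i, w j i) * b j ^ 2 := by
      rw [Finset.sum_mul]
      exact Finset.sum_congr rfl (fun i _ => by rw [hsymm i j])
    rw [this, hrow, zero_mul]
  have e3 : ∑ i, ∑ j, w i j * (b i - b j) ^ 2 =
      ∑ i, ∑ j, w i j * b i ^ 2 - 2 * ∑ i, ∑ j, w i j * b i * b j + ∑ i, ∑ j, w i j * b j ^ 2 := by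
    rw [Finset.mul_sum, ← Finset.sum_sub_distrib, ← Finset.sum_add_distrib]
    refine Finset.sum_congr rfl (fun i _ => ?_)
    rw [Finset.mul_sum, ← Finset.sum_sub_distrib, ← Finset.sum_add_distrib]
    refine Finset.sum_congr rfl (fun j _ => ?_)
    ring
  rw [e3, e1, e2]
  ring

variable (x : ι → ι → ℤ) (n : ι → ℤ)

/-- **Zariski's lemma, part one**: negative semi-definiteness, and the case of equality. -/
theorem quad_nonpos_and_eq (hsymm : ∀ i j, x i j = x j i) (hoff : ∀ i j, i ≠ j → 0 ≤ x i j)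
    (hn : ∀ i, 0 < n i) (hrow : ∀ i, ∑ j, n j * x i j = 0) (a : ι → ℤ) :
    (∑ i, ∑ j, a i * a j * x i j ≤ 0) ∧
      ((∑ i, ∑ j, a i * a j * x i j = 0) →
        ∀ i j, i ≠ j → x i j ≠ 0 → a i * n j = a j * n i) := by
  classical
  let w : ι → ι → ℚ := fun i j => (n i : ℚ) * n j * x i j
  let b : ι → ℚ := fun i => (a i : ℚ) / n i
  have hn' : ∀ i, (n i : ℚ) ≠ 0 := fun i => by
    have := hn i
    exact_mod_cast this.ne'
  have hwsymm : ∀ i j, w i j = w j i := by
    intro i j
    simp only [w]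
    rw [hsymm i j]
    ring
  have hwrow : ∀ i, ∑ j, w i j = 0 := by
    intro i
    have h1 : ∑ j, w i j = (n i : ℚ) * ∑ j, ((n j * x i j : ℤ) : ℚ) := by
      rw [Finset.mul_sum]
      refine Finset.sum_congr rfl (fun j _ => ?_)
      simp only [w]
      push_cast
      ring
    rw [h1, ← Int.cast_sum, hrow i]
    simp
  have hkey := sum_mul_eq_neg_half_sum_sq w hwsymm hwrow b
  have hQ : ((∑ i, ∑ j, a i * a j * x i j : ℤ) : ℚ) = ∑ i, ∑ j, w i j * b i * b j := by
    push_cast
    refine Finset.sum_congr rfl (fun i _ => ?_)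
    refine Finset.sum_congr rfl (fun j _ => ?_)
    simp only [w, b]
    have hi := hn' i
    have hj := hn' j
    field_simp
  have hterm : ∀ i j, 0 ≤ w i j * (b i - b j) ^ 2 := by
    intro i j
    by_cases hij : i = j
    · subst hij
      simp
    · apply mul_nonneg _ (sq_nonneg _)
      simp only [w]
      have h1 : (0 : ℚ) ≤ x i j := by exact_mod_cast hoff i j hij
      have h2 : (0 : ℚ) < n i := by exact_mod_cast hn i
      have h3 : (0 : ℚ) < n j := by exact_mod_cast hn j
      positivity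
  have hsum : 0 ≤ ∑ i, ∑ j, w i j * (b i - b j) ^ 2 :=
    Finset.sum_nonneg (fun i _ => Finset.sum_nonneg (fun j _ => hterm i j))
  constructor
  · have : ((∑ i, ∑ j, a i * a j * x i j : ℤ) : ℚ) ≤ 0 := by
      rw [hQ, hkey]
      linarith
    exact_mod_cast this
  · intro h0 i j hij hx
    have h1 : ∑ i, ∑ j, w i j * (b i - b j) ^ 2 = 0 := by
      have : ((∑ i, ∑ j, a i * a j * x i j : ℤ) : ℚ) = 0 := by rw [h0]; simp
      rw [hQ, hkey] at this
      linarith
    have h2 := (Finset.sum_eq_zero_iff_of_nonneg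
      (fun i _ => Finset.sum_nonneg (fun j _ => hterm i j))).mp h1 i (Finset.mem_univ i)
    have h3 := (Finset.sum_eq_zero_iff_of_nonneg (fun j _ => hterm i j)).mp h2 j (Finset.mem_univ j)
    have hw : w i j ≠ 0 := by
      simp only [w]
      have : (x i j : ℚ) ≠ 0 := by exact_mod_cast hx
      exact mul_ne_zero (mul_ne_zero (hn' i) (hn' j)) this
    have h4 : b i - b j = 0 := by
      rcases mul_eq_zero.mp h3 with h | h
      · exact absurd h hw
      · exact pow_eq_zero_iff (two_ne_zero) |>.mp h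
    have h5 : (a i : ℚ) / n i = a j / n j := sub_eq_zero.mp h4
    rw [div_eq_div_iff (hn' i) (hn' j)] at h5
    exact_mod_cast h5

/-- **Zariski's lemma, part two**: on a connected configuration, proportionality along edges is
global proportionality to `n`. -/
theorem exists_ratio_of_connected (hn : ∀ i, 0 < n i)
    (hconn : ∀ S : Finset ι, S.Nonempty → (∀ i ∈ S, ∀ j ∉ S, x i j = 0) → S = Finset.univ)
    (a : ι → ℤ) (hab : ∀ i j, i ≠ j → x i j ≠ 0 → a i * n j = a j * n i) :
    ∃ c : ℚ, ∀ i, (a i : ℚ) = c * n i := by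
  classical
  by_cases hemp : IsEmpty ι
  · exact ⟨0, fun i => (hemp.false i).elim⟩
  · rw [not_isEmpty_iff] at hemp
    obtain ⟨i0⟩ := hemp
    let S : Finset ι := Finset.univ.filter (fun i => a i * n i0 = a i0 * n i)
    have hS : S = Finset.univ := by
      apply hconn S ⟨i0, by simp [S]⟩
      intro i hi j hj
      by_contra hx
      apply hj
      have hi' : a i * n i0 = a i0 * n i := by simpa [S] using hi
      have hij : i ≠ j := fun h => hj (h ▸ hi)
      have h1 := hab i j hij hx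
      have h2 : n i * (a j * n i0 - a i0 * n j) = 0 := by
        have : n i * (a j * n i0 - a i0 * n j) = (a j * n i) * n i0 - (a i0 * n i) * n j := by ring
        rw [this, ← h1, ← hi']
        ring
      have h3 : a j * n i0 - a i0 * n j = 0 := by
        rcases mul_eq_zero.mp h2 with h | h
        · exact absurd h (hn i).ne'
        · exact h
      simp only [S, Finset.mem_filter, Finset.mem_univ, true_and]
      linarith
    refine ⟨(a i0 : ℚ) / n i0, fun i => ?_⟩
    have hi : i ∈ S := hS ▸ Finset.mem_univ i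
    have hi' : a i * n i0 = a i0 * n i := by simpa [S] using hi
    have hn0 : (n i0 : ℚ) ≠ 0 := by
      have := hn i0
      exact_mod_cast this.ne'
    rw [div_mul_eq_mul_div, eq_div_iff hn0]
    exact_mod_cast hi'

/-- **Zariski's lemma**. -/
theorem zariski_lemma (hsymm : ∀ i j, x i j = x j i) (hoff : ∀ i j, i ≠ j → 0 ≤ x i j)
    (hn : ∀ i, 0 < n i) (hrow : ∀ i, ∑ j, n j * x i j = 0)
    (hconn : ∀ S : Finset ι, S.Nonempty → (∀ i ∈ S, ∀ j ∉ S, x i j = 0) → S = Finset.univ)
    (a : ι → ℤ) :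
    (∑ i, ∑ j, a i * a j * x i j ≤ 0) ∧
      ((∑ i, ∑ j, a i * a j * x i j = 0) ↔ ∃ c : ℚ, ∀ i, (a i : ℚ) = c * n i) ∧
      ((∀ i, ∑ j, a j * x i j = 0) ↔ ∃ c : ℚ, ∀ i, (a i : ℚ) = c * n i) := by
  obtain ⟨h1, h2⟩ := quad_nonpos_and_eq x n hsymm hoff hn hrow a
  have hker : (∃ c : ℚ, ∀ i, (a i : ℚ) = c * n i) → ∀ i, ∑ j, a j * x i j = 0 := by
    rintro ⟨c, hc⟩ i
    have : ((∑ j, a j * x i j : ℤ) : ℚ) = 0 := by
      push_cast
      have e : ∑ j, (a j : ℚ) * x i j = c * ((∑ j, n j * x i j : ℤ) : ℚ) := by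
        push_cast
        rw [Finset.mul_sum]
        refine Finset.sum_congr rfl (fun j _ => ?_)
        rw [hc j]
        ring
      rw [e, hrow i]
      simp
    exact_mod_cast this
  have hQ : (∀ i, ∑ j, a j * x i j = 0) → ∑ i, ∑ j, a i * a j * x i j = 0 := by
    intro h
    apply Finset.sum_eq_zero
    intro i _
    have : ∑ j, a i * a j * x i j = a i * ∑ j, a j * x i j := by
      rw [Finset.mul_sum]
      exact Finset.sum_congr rfl (fun j _ => by ring)
    rw [this, h i, mul_zero]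
  refine ⟨h1, ⟨fun h0 => exists_ratio_of_connected x n hn hconn a (h2 h0), fun hc => hQ (hker hc)⟩,
    ⟨fun h => exists_ratio_of_connected x n hn hconn a (h2 (hQ h)), hker⟩⟩

end LA

end Groth.Agent.H5.ArS
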