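import Mathlib
import Groth.Agent.Lib.Helper5.ArS.FibSum
import Groth.Agent.Lib.Helper5.ArS.GraphLA

/-!
# The kernel of the intersection form on the closed fibre (S8727, S3320)
-/

set_option autoImplicit false
set_option linter.style.haveILetI false
universe u
open CategoryTheory CategoryTheory.Limits AlgebraicGeometry TopologicalSpace Opposite

namespace Groth.Agent.H5.ArS

open Groth.Agent.LD Groth.Agent.LD.QC

variable {R : Type u} [CommRing R] [IsDomain R] [IsDiscreteValuationRing R]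
  {X : Over (Spec (CommRingCat.of R))}

/-- a vertical prime divisor lies in the closed fibre. -/
theorem range_ι_subset_specialFibreSet (Γ : ArSurf.VertComp R X) :
    Set.range Γ.ι ⊆ Models.specialFibreSet R X := by
  rintro _ ⟨z, rfl⟩
  change X.hom.base (Γ.ι.base z) = IsLocalRing.closedPoint R
  have h1 : X.hom.base (Γ.ι.base z) = (Γ.ι ≫ X.hom).base z := rfl
  rw [h1, Γ.w]
  exact IsLocalRing.PrimeSpectrum.comap_residue R _

/-- the multiplicity as an order of vanishing at the generic point. -/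
theorem mult_eq_ord (V : X.left.affineOpens) (ϖ : R) (hϖ : Irreducible ϖ)
    (Γ : ArSurf.VertComp R X) (hξV : Models.genPtOf R X Γ ∈ V.1) :
    Models.mult R X Γ = (Ring.ord (X.left.presheaf.stalk (Models.genPtOf R X Γ))
      ((X.left.presheaf.germ V.1 _ hξV).hom (toSec X V.1 ϖ))).toNat := by
  unfold Models.mult Ring.ord
  have hI : Ideal.map (Models.stalkHom R X (Models.genPtOf R X Γ)) (IsLocalRing.maximalIdeal R) =
      Ideal.span {(X.left.presheaf.germ V.1 _ hξV).hom (toSec X V.1 ϖ)} := by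
    rw [hϖ.maximalIdeal_eq, Ideal.map_span, Set.image_singleton]
    congr 2
    change (X.left.presheaf.germ ⊤ _ trivial).hom (Coh.toGlobal X.hom ϖ) =
      (X.left.presheaf.germ V.1 _ hξV).hom
        ((X.left.presheaf.map (homOfLE le_top).op).hom (Coh.toGlobal X.hom ϖ))
    exact (TopCat.Presheaf.germ_res_apply X.left.presheaf (homOfLE le_top) _ hξV _).symm
  rw [hI]

section comp

variable [Flat X.hom] (hreg : Models.IsRegularScheme X.left)
  {n : ℕ} (Γ : Fin n → ArSurf.VertComp R X) (hΓ : Models.IsComponentList R X Γ)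
include hreg hΓ

/-- the multiplicities of the components of the closed fibre are positive. -/
theorem mult_pos (i : Fin n) : 0 < Models.mult R X (Γ i) := by
  obtain ⟨ϖ, hϖ⟩ := IsDiscreteValuationRing.exists_irreducible R
  set ξ := Models.genPtOf R X (Γ i) with hξdef
  obtain ⟨V, hV, hξV, -⟩ := exists_isAffineOpen_mem_and_subset (x := ξ) (U := (⊤ : X.left.Opens))
    trivial
  have hξsupp : ξ ∈ (Γ i).ι.ker.support := by
    change ξ ∈ ((Γ i).ι.ker.support : Set _)
    rw [support_ker_ι]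
    exact ⟨_, rfl⟩
  have hle : (Γ i).ι.ker.ideal ⟨V, hV⟩ ≤ (hV.primeIdealOf ⟨ξ, hξV⟩).asIdeal :=
    (mem_support_iff hV _ ξ hξV).mp hξsupp
  have hP : ((Γ i).ι.ker.ideal ⟨V, hV⟩).IsPrime := by
    rcases ker_ideal_top_or_prime (Γ i) ⟨V, hV⟩ with h | h
    · exfalso
      rw [h] at hle
      exact (hV.primeIdealOf ⟨ξ, hξV⟩).isPrime.ne_top (top_le_iff.mp hle)
    · exact h
  obtain ⟨hξV', hξP⟩ := genPt_mem_and_primeIdealOf_eq (Γ i) ⟨V, hV⟩ hP
  letI : Algebra Γ(X.left, V) (X.left.presheaf.stalk ξ) :=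
    TopCat.Presheaf.algebra_section_stalk X.left.presheaf ⟨ξ, hξV⟩
  haveI := hV.isLocalization_stalk ⟨ξ, hξV⟩
  haveI := hreg ξ
  obtain ⟨hd, hu⟩ := Groth.Agent.H3.ABufd.main (X.left.presheaf.stalk ξ)
  have hπB : algebraMap Γ(X.left, V) (X.left.presheaf.stalk ξ) (toSec X V ϖ) ≠ 0 := by
    have := IsLocalization.map_nonZeroDivisors_le (hV.primeIdealOf ⟨ξ, hξV⟩).asIdeal.primeCompl
      (X.left.presheaf.stalk ξ)
      (Submonoid.mem_map_of_mem _ (toSec_mem_nonZeroDivisors hV ϖ hϖ.ne_zero))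
    exact nonZeroDivisors.ne_zero this
  obtain ⟨q, hq, hqπ, hspan⟩ := exists_prime_map_eq_span (hV.primeIdealOf ⟨ξ, hξV⟩).asIdeal
    (X.left.presheaf.stalk ξ) (toSec X V ϖ) hπB ((Γ i).ι.ker.ideal ⟨V, hV⟩) hle
    (toSec_mem_ker (Γ i) ⟨V, hV⟩ ϖ (by
      rw [hϖ.maximalIdeal_eq]
      exact Ideal.mem_span_singleton_self ϖ))
    (fun P' hP' hπ hle' => ker_minimal Γ hΓ ⟨V, hV⟩ ϖ hϖ i hP P' hP' hπ hle')
  have hmaxeq : Ideal.span {q} = IsLocalRing.maximalIdeal (X.left.presheaf.stalk ξ) := by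
    rw [← hspan, ← hξP]
    exact IsLocalization.AtPrime.map_eq_maximalIdeal _ _
  have key := ord_eq_multiplicity (RingHom.id (X.left.presheaf.stalk ξ)) q
    (algebraMap Γ(X.left, V) (X.left.presheaf.stalk ξ) (toSec X V ϖ)) hq hπB
    (by
      rw [RingHom.id_apply, hmaxeq]
      exact IsLocalRing.maximalIdeal.isMaximal _)
    (mem_nonZeroDivisors_of_ne_zero hq.ne_zero)
    (fun c hc => by
      rw [RingHom.id_apply]
      by_contra hnu
      apply hc
      rw [← Ideal.mem_span_singleton, hmaxeq]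
      exact (IsLocalRing.mem_maximalIdeal c).mpr hnu)
  rw [mult_eq_ord ⟨V, hV⟩ ϖ hϖ (Γ i) hξV]
  rw [RingHom.id_apply] at key
  change 0 < (Ring.ord _ (algebraMap Γ(X.left, V) (X.left.presheaf.stalk ξ) (toSec X V ϖ))).toNat
  rw [key, ENat.toNat_natCast]
  exact multiplicity_pos_of_dvd hqπ

end comp

/-- a family of vertical prime divisors with pairwise distinct supports covering the closed fibre
is the list of components of the closed fibre. -/
theorem isComponentList_of_cover {n : ℕ} (Γ : Fin n → ArSurf.VertComp R X)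
    (hdist : Function.Injective fun i => Set.range (Γ i).ι.base)
    (hcov : ∀ x : X.left, X.hom.base x = IsLocalRing.closedPoint R →
      ∃ i, x ∈ Set.range (Γ i).ι.base) :
    Models.IsComponentList R X Γ := by
  classical
  have hsub : ∀ T : Set X.left, IsIrreducible T → T ⊆ Models.specialFibreSet R X →
      ∃ j, T ⊆ Set.range (Γ j).ι := by
    intro T hT hTF
    have h := (isIrreducible_iff_sUnion_isClosed.mp hT)
      (Finset.univ.image (fun j => Set.range (Γ j).ι))
      (fun z hz => by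
        obtain ⟨j, -, rfl⟩ := Finset.mem_image.mp hz
        exact (range_ι_facts (Γ j)).1)
      (fun x hx => by
        obtain ⟨j, hj⟩ := hcov x (hTF hx)
        exact Set.mem_sUnion.mpr ⟨_, Finset.mem_coe.mpr (Finset.mem_image.mpr
          ⟨j, Finset.mem_univ j, rfl⟩), hj⟩)
    obtain ⟨z, hz, hTz⟩ := h
    obtain ⟨j, -, rfl⟩ := Finset.mem_image.mp hz
    exact ⟨j, hTz⟩
  have heq : ∀ i j, Set.range (Γ i).ι ⊆ Set.range (Γ j).ι →
      Set.range (Γ i).ι = Set.range (Γ j).ι := by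
    intro i j hij
    by_contra hne
    obtain ⟨hc₁, hi₁, hd₁, -⟩ := range_ι_facts (Γ i)
    obtain ⟨hc₂, hi₂, hd₂, -⟩ := range_ι_facts (Γ j)
    have hss : Set.range (Γ i).ι ⊂ Set.range (Γ j).ι := lt_of_le_of_ne hij hne
    have hlt := Groth.Agent.H6.ConnDim.dim_lt_of_ssubset hc₁ hi₂ hss (by rw [hd₂]; decide)
    rw [hd₁, hd₂] at hlt
    exact lt_irrefl _ hlt
  refine ⟨hdist, Set.ext fun T => ⟨?_, ?_⟩⟩
  · rintro ⟨i, rfl⟩
    refine ⟨⟨(range_ι_facts (Γ i)).2.1, range_ι_subset_specialFibreSet (Γ i)⟩, ?_⟩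
    intro T' hT' hle
    obtain ⟨j, hj⟩ := hsub T' hT'.1 hT'.2
    have h1 : Set.range (Γ i).ι = Set.range (Γ j).ι := heq i j (hle.trans hj)
    change T' ⊆ Set.range (Γ i).ι
    rw [h1]
    exact hj
  · intro hT
    obtain ⟨j, hj⟩ := hsub T hT.1.1 hT.1.2
    have h1 : Set.range (Γ j).ι ⊆ T :=
      hT.2 ⟨(range_ι_facts (Γ j)).2.1, range_ι_subset_specialFibreSet (Γ j)⟩ hj
    exact ⟨j, (Set.Subset.antisymm hj h1).symm⟩

section matrix

variable [Flat X.hom] [IsLocallyNoetherian X.left] (hp : IsProper X.hom)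
  (hreg : Models.IsRegularScheme X.left)
  {n : ℕ} (Γ : Fin n → ArSurf.VertComp R X) (hΓ : Models.IsComponentList R X Γ)
  (L : Fin n → X.left.Modules)
  (hL : ∀ j, ClSub.IsInverseOf (L j) (ClSub.idealMod (Γ j).ι.ker))
include hp hΓ hL

/-- off-diagonal entries of the intersection matrix. -/
theorem inter_offdiag (i j : Fin n) (hij : i ≠ j) :
    ArSurf.inter R X (L j) (Γ i) = ArSurf.inter R X (L i) (Γ j) ∧
      0 ≤ ArSurf.inter R X (L j) (Γ i) ∧
      (ArSurf.inter R X (L j) (Γ i) = 0 ↔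
        Disjoint (Set.range (Γ i).ι) (Set.range (Γ j).ι)) := by
  have hne : Set.range (Γ i).ι ≠ Set.range (Γ j).ι := fun h => hij (hΓ.1 h)
  obtain ⟨hI, -, -⟩ := inverse_facts (Γ j).ι.ker (L j) (hL j)
  have h := inter_nonneg_and_eq_zero_iff hp (Γ i) (Γ j).ι.ker hI
    (genericPoint_notMem_of_ne (Γ i) (Γ j) hne) (L j) (hL j)
  rw [support_ker_ι] at h
  exact ⟨inter_symm hp (Γ i) (Γ j) hne (L i) (L j) (hL i) (hL j), h.1, h.2⟩

/-- connectedness of the closed fibre makes the intersection matrix indecomposable. -/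
theorem indecomposable_of_isPreconnected
    (hconn : _root_.IsPreconnected (Models.specialFibreSet R X)) (S : Finset (Fin n))
    (hS : S.Nonempty) (h0 : ∀ i ∈ S, ∀ j ∉ S, ArSurf.inter R X (L j) (Γ i) = 0) :
    S = Finset.univ := by
  classical
  by_contra hne
  obtain ⟨j0, hj0⟩ : ∃ j, j ∉ S := by
    by_contra h
    push Not at h
    exact hne (Finset.eq_univ_iff_forall.mpr h)
  obtain ⟨i0, hi0⟩ := hS
  let t : Set X.left := ⋃ i ∈ S, Set.range (Γ i).ι
  let t' : Set X.left := ⋃ j ∈ Sᶜ, Set.range (Γ j).ι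
  have ht : IsClosed t :=
    Set.Finite.isClosed_biUnion S.finite_toSet (fun i _ => (range_ι_facts (Γ i)).1)
  have ht' : IsClosed t' :=
    Set.Finite.isClosed_biUnion (Sᶜ).finite_toSet (fun i _ => (range_ι_facts (Γ i)).1)
  have hmemF : ∀ i, Set.range (Γ i).ι ⊆ Models.specialFibreSet R X :=
    fun i => range_ι_subset_specialFibreSet (Γ i)
  have hcover : Models.specialFibreSet R X ⊆ t ∪ t' := by
    intro x hx
    have hclF : closure {x} ⊆ Models.specialFibreSet R X :=
      (Models.isClosed_specialFibreSet R X).closure_subset_iff.mpr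
        (Set.singleton_subset_iff.mpr hx)
    obtain ⟨T, hxT, hT⟩ := exists_maximal_irreducible_subset (Models.specialFibreSet R X)
      (closure {x}) isIrreducible_singleton.closure hclF
    have hTmem : T ∈ Models.fibreComponents R X := hT
    rw [← hΓ.2] at hTmem
    obtain ⟨i, rfl⟩ := hTmem
    have hxi : x ∈ Set.range (Γ i).ι := hxT (subset_closure rfl)
    by_cases hiS : i ∈ S
    · exact Or.inl (Set.mem_biUnion hiS hxi)
    · exact Or.inr (Set.mem_biUnion (Finset.mem_compl.mpr hiS) hxi)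
  have hne1 : (Models.specialFibreSet R X ∩ t).Nonempty :=
    ⟨(Γ i0).ι (genericPoint _), hmemF i0 ⟨_, rfl⟩, Set.mem_biUnion hi0 ⟨_, rfl⟩⟩
  have hne2 : (Models.specialFibreSet R X ∩ t').Nonempty :=
    ⟨(Γ j0).ι (genericPoint _), hmemF j0 ⟨_, rfl⟩,
      Set.mem_biUnion (Finset.mem_compl.mpr hj0) ⟨_, rfl⟩⟩
  obtain ⟨z, -, hzt, hzt'⟩ := (isPreconnected_closed_iff.mp hconn) t t' ht ht' hcover hne1 hne2
  obtain ⟨i, hiS, hzi⟩ := Set.mem_iUnion₂.mp hzt
  obtain ⟨j, hjS, hzj⟩ := Set.mem_iUnion₂.mp hzt'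
  have hjS' : j ∉ S := Finset.mem_compl.mp hjS
  have hij : i ≠ j := fun h => hjS' (h ▸ hiS)
  have hdisj := ((inter_offdiag hp Γ hΓ L hL i j hij).2.2).mp (h0 i hiS j hjS')
  exact (Set.disjoint_left.mp hdisj) hzi hzj

include hreg in
/-- **Zariski's lemma for the closed fibre**. -/
theorem zariski_fibre (hconn : _root_.IsPreconnected (Models.specialFibreSet R X))
    (a : Fin n → ℤ) :
    (∑ i, ∑ j, a i * a j * ArSurf.inter R X (L j) (Γ i) ≤ 0) ∧
      ((∑ i, ∑ j, a i * a j * ArSurf.inter R X (L j) (Γ i) = 0) ↔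
        ∃ c : ℚ, ∀ i, (a i : ℚ) = c * (Models.mult R X (Γ i) : ℚ)) ∧
      ((∀ i, ∑ j, a j * ArSurf.inter R X (L j) (Γ i) = 0) ↔
        ∃ c : ℚ, ∀ i, (a i : ℚ) = c * (Models.mult R X (Γ i) : ℚ)) := by
  have h := zariski_lemma (fun i j => ArSurf.inter R X (L j) (Γ i))
    (fun i => (Models.mult R X (Γ i) : ℤ))
    (fun i j => by
      by_cases hij : i = j
      · subst hij
        rfl
      · exact (inter_offdiag hp Γ hΓ L hL i j hij).1)
    (fun i j hij => (inter_offdiag hp Γ hΓ L hL i j hij).2.1)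
    (fun i => by exact_mod_cast mult_pos hreg Γ hΓ i)
    (fun i => sum_mult_inter_eq_zero hp hreg Γ hΓ L hL (Γ i))
    (fun S hS h0 => indecomposable_of_isPreconnected hp Γ hΓ L hL hconn S hS h0) a
  simpa using h

end matrix

end Groth.Agent.H5.ArS
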