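import Mathlib
import Groth.Agent.Lib.Helper5.ArS.GraphLA

/-!
# Negative semi-definiteness with non-positive weighted row sums
-/

set_option autoImplicit false

namespace Groth.Agent.H5.ArS

section LA

variable {ι : Type*} [Fintype ι]

/-- a symmetric integer matrix with non-negative off-diagonal entries and non-positive weighted
row sums (for positive weights) is negative semi-definite. -/
theorem quad_nonpos_of_rowsum_nonpos (x : ι → ι → ℤ) (n : ι → ℤ)
    (hsymm : ∀ i j, x i j = x j i) (hoff : ∀ i j, i ≠ j → 0 ≤ x i j)
    (hn : ∀ i, 0 < n i) (hrow : ∀ i, ∑ j, n j * x i j ≤ 0) (a : ι → ℤ) :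
    ∑ i, ∑ j, a i * a j * x i j ≤ 0 := by
  classical
  set r : ι → ℤ := fun i => ∑ j, n j * x i j with hr
  let x' : Option ι → Option ι → ℤ := fun o o' =>
    match o, o' with
    | some i, some j => x i j
    | some i, none => - r i
    | none, some j => - r j
    | none, none => ∑ i, n i * r i
  let n' : Option ι → ℤ := fun o => match o with
    | some i => n i
    | none => 1
  let a' : Option ι → ℤ := fun o => match o with
    | some i => a i
    | none => 0
  have h := (quad_nonpos_and_eq x' n' ?_ ?_ ?_ ?_ a').1
  · rw [Fintype.sum_option] at h
    simp only [Fintype.sum_option] at h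
    have e1 : a' none = 0 := rfl
    have e2 : ∀ i, a' (some i) = a i := fun i => rfl
    have e3 : ∀ i j, x' (some i) (some j) = x i j := fun i j => rfl
    simp only [e1, e2, e3, zero_mul, mul_zero, Finset.sum_const_zero, zero_add, add_zero] at h
    exact h
  · intro o o'
    cases o <;> cases o' <;> simp [x', hsymm]
  · intro o o' hne
    cases o with
    | none =>
      cases o' with
      | none => exact absurd rfl hne
      | some j =>
        change 0 ≤ - r j
        have := hrow j
        simp only [hr]
        linarith
    | some i =>
      cases o' with
      | none =>
        change 0 ≤ - r i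
        have := hrow i
        simp only [hr]
        linarith
      | some j =>
        exact hoff i j (fun h => hne (congrArg some h))
  · intro o
    cases o with
    | none => exact one_pos
    | some i => exact hn i
  · intro o
    rw [Fintype.sum_option]
    cases o with
    | none =>
      change 1 * (∑ i, n i * r i) + ∑ j, n j * (- r j) = 0
      simp only [mul_neg, Finset.sum_neg_distrib]
      ring
    | some i =>
      change 1 * (- r i) + ∑ j, n j * x i j = 0
      simp only [hr]
      ring

end LA

end Groth.Agent.H5.ArS
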