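import Mathlib
import Groth.Agent.Lib.Helper5.ArS.UfdFact

/-!
# A principal ideal in a locally factorial ring is contained in the product of any family of
minimal primes over it, raised to their multiplicities
-/

set_option autoImplicit false
universe u

namespace Groth.Agent.H5.ArS

open Ideal

section main

variable {A : Type u} [CommRing A] {ι : Type*} [Fintype ι]

/-- local form of `span_le_prod_pow`. -/
theorem map_span_le_map_prod (π : A) (P : ι → Ideal A) (m : ι → ℕ)
    (Q : Ideal A) [Q.IsPrime] (B : Type*) [CommRing B] [Algebra A B] [IsLocalization.AtPrime B Q]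
    [IsDomain B] [UniqueFactorizationMonoid B]
    (hπ : π ∈ nonZeroDivisors A)
    (hP : ∀ i, P i = ⊤ ∨ (P i).IsPrime)
    (hπP : ∀ i, π ∈ P i)
    (hinj : ∀ i j, (P i).IsPrime → P i = P j → i = j)
    (hmin : ∀ i, (P i).IsPrime → ∀ P' : Ideal A, P'.IsPrime → π ∈ P' → P' ≤ P i → P' = P i)
    (hlen : ∀ i, (P i).IsPrime → ∃ (O' : Type u) (_ : CommRing O') (_ : Algebra A O')
      (P' : Ideal A) (_ : P'.IsPrime) (_ : IsLocalization.AtPrime O' P'),
      P' = P i ∧ (Ring.ord O' (algebraMap A O' π)).toNat = m i) :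
    (Ideal.span {π}).map (algebraMap A B) ≤ (∏ i, P i ^ m i).map (algebraMap A B) := by
  classical
  have hπB' : algebraMap A B π ∈ nonZeroDivisors B :=
    IsLocalization.map_nonZeroDivisors_le Q.primeCompl B (Submonoid.mem_map_of_mem _ hπ)
  have hπB : algebraMap A B π ≠ 0 := nonZeroDivisors.ne_zero hπB'
  have hgen : ∀ i, ∃ q : B, (P i).map (algebraMap A B) = Ideal.span {q} ∧
      (((P i).IsPrime ∧ P i ≤ Q) → Prime q ∧ q ∣ algebraMap A B π) ∧
      (¬ ((P i).IsPrime ∧ P i ≤ Q) → q = 1) := by
    intro i
    by_cases h : (P i).IsPrime ∧ P i ≤ Q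
    · haveI := h.1
      obtain ⟨q, hq, hqπ, hspan⟩ :=
        exists_prime_map_eq_span Q B π hπB (P i) h.2 (hπP i) (hmin i h.1)
      exact ⟨q, hspan, fun _ => ⟨hq, hqπ⟩, fun h' => absurd h h'⟩
    · refine ⟨1, ?_, fun h' => absurd h' h, fun _ => rfl⟩
      rw [Ideal.span_singleton_one]
      rcases hP i with h1 | h1
      · rw [h1, Ideal.map_top]
      · exact IsLocalization.AtPrime.map_eq_top_of_not_le B (fun hle => h ⟨h1, hle⟩)
  choose q hqspan hqprime hqone using hgen
  set s : Finset ι := Finset.univ.filter (fun i => (P i).IsPrime ∧ P i ≤ Q) with hs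
  have hmem : ∀ i, i ∈ s ↔ ((P i).IsPrime ∧ P i ≤ Q) := by
    intro i
    simp [hs]
  have hdisj : ∀ i ∈ s, Disjoint (Q.primeCompl : Set A) (P i : Set A) := by
    intro i hi
    rw [Set.disjoint_left]
    intro a ha haP
    exact ha (((hmem i).mp hi).2 haP)
  -- multiplicities
  have hmult : ∀ i ∈ s, multiplicity (q i) (algebraMap A B π) = m i := by
    intro i hi
    have h := (hmem i).mp hi
    obtain ⟨O', _, _, P', hP', hloc, hPP, hord⟩ := hlen i h.1
    have hle' : P' ≤ Q := hPP ▸ h.2
    have hqspan' : P'.map (algebraMap A B) = Ideal.span {q i} := hPP ▸ hqspan i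
    haveI : IsLocalRing O' := IsLocalization.AtPrime.isLocalRing O' P'
    have hg : ∀ y : Q.primeCompl, IsUnit (algebraMap A O' y) := fun y =>
      IsLocalization.map_units O' (⟨y, fun hy => y.2 (hle' hy)⟩ : P'.primeCompl)
    let θ : B →+* O' := IsLocalization.lift (M := Q.primeCompl) hg
    have hθ : ∀ a : A, θ (algebraMap A B a) = algebraMap A O' a := IsLocalization.lift_eq hg
    have hθc : θ.comp (algebraMap A B) = algebraMap A O' := IsLocalization.lift_comp hg
    have hπO : algebraMap A O' π ∈ nonZeroDivisors O' :=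
      IsLocalization.map_nonZeroDivisors_le P'.primeCompl O' (Submonoid.mem_map_of_mem _ hπ)
    have key := ord_eq_multiplicity θ (q i) (algebraMap A B π) (hqprime i h).1 hπB ?_ ?_ ?_
    · rw [hθ] at key
      rw [← hord, key, ENat.toNat_coe]
    · have : Ideal.span {θ (q i)} = P'.map (algebraMap A O') := by
        rw [← hθc, ← Ideal.map_map, hqspan', Ideal.map_span, Set.image_singleton]
      rw [this, IsLocalization.AtPrime.map_eq_maximalIdeal]
      exact IsLocalRing.maximalIdeal.isMaximal O'
    · obtain ⟨c, hc⟩ := (hqprime i h).2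
      have : θ (q i) * θ c = algebraMap A O' π := by rw [← map_mul, ← hc, hθ]
      rw [← this] at hπO
      exact (mul_mem_nonZeroDivisors.mp hπO).1
    · intro c hc
      obtain ⟨a, t, rfl⟩ := IsLocalization.exists_mk'_eq Q.primeCompl c
      have haP : a ∉ P' := by
        intro haP
        apply hc
        rw [← Ideal.mem_span_singleton, ← hqspan',
          IsLocalization.mk'_mem_map_algebraMap_iff Q.primeCompl]
        exact ⟨1, Submonoid.one_mem _, by simpa using haP⟩
      have h1 : θ (IsLocalization.mk' B a t) * algebraMap A O' t = algebraMap A O' a := by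
        rw [← hθ, ← map_mul, IsLocalization.mk'_spec, hθ]
      have h2 : IsUnit (algebraMap A O' a) :=
        IsLocalization.map_units O' (⟨a, haP⟩ : P'.primeCompl)
      rw [← h1] at h2
      exact isUnit_of_mul_isUnit_left h2
  have hna : ∀ i ∈ s, ∀ j ∈ s, i ≠ j → ¬ Associated (q i) (q j) := by
    intro i hi j hj hij hass
    apply hij
    have hi' := (hmem i).mp hi
    have hj' := (hmem j).mp hj
    refine hinj i j hi'.1 ?_
    have h1 : (P i).map (algebraMap A B) = (P j).map (algebraMap A B) := by
      rw [hqspan, hqspan]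
      exact Ideal.span_singleton_eq_span_singleton.mpr hass
    rw [← IsLocalization.under_map_of_isPrime_disjoint Q.primeCompl B hi'.1 (hdisj i hi),
      ← IsLocalization.under_map_of_isPrime_disjoint Q.primeCompl B hj'.1 (hdisj j hj), h1]
  have hrel : (s : Set ι).Pairwise
      (Function.onFun IsRelPrime fun i => q i ^ multiplicity (q i) (algebraMap A B π)) := by
    intro i hi j hj hij
    apply IsRelPrime.pow
    rw [(hqprime i ((hmem i).mp hi)).1.irreducible.isRelPrime_iff_not_dvd]
    intro hdvd
    exact hna i hi j hj hij ((hqprime i ((hmem i).mp hi)).1.associated_of_dvd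
      (hqprime j ((hmem j).mp hj)).1 hdvd)
  have hdvd : ∏ i ∈ s, q i ^ multiplicity (q i) (algebraMap A B π) ∣ algebraMap A B π :=
    Finset.prod_dvd_of_isRelPrime hrel (fun i _ => pow_multiplicity_dvd (q i) _)
  have e1 : (∏ i, P i ^ m i).map (algebraMap A B) = Ideal.span {∏ i, q i ^ m i} := by
    rw [← Ideal.mapHom_apply, map_prod, ← Ideal.prod_span_singleton]
    refine Finset.prod_congr rfl (fun i _ => ?_)
    rw [Ideal.mapHom_apply, Ideal.map_pow, hqspan, Ideal.span_singleton_pow]
  have e2 : ∏ i, q i ^ m i = ∏ i ∈ s, q i ^ multiplicity (q i) (algebraMap A B π) := by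
    rw [← Finset.prod_subset (Finset.subset_univ s) (fun i _ hi => by
      rw [hqone i (fun h => hi ((hmem i).mpr h)), one_pow])]
    exact Finset.prod_congr rfl (fun i hi => by rw [hmult i hi])
  rw [e1, e2, Ideal.map_span, Set.image_singleton]
  exact Ideal.span_singleton_le_span_singleton.mpr hdvd

/-- **partial factorisation**: in a ring all of whose localisations at maximal ideals are
factorial domains, a principal ideal generated by a nonzerodivisor is contained in the product of
any family of pairwise distinct minimal primes over it, raised to their multiplicities. -/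
theorem span_le_prod_pow (π : A) (P : ι → Ideal A) (m : ι → ℕ)
    (hufd : ∀ (Q : Ideal A) [Q.IsMaximal], ∃ (B : Type u) (_ : CommRing B) (_ : Algebra A B)
      (_ : IsLocalization.AtPrime B Q) (_ : IsDomain B), UniqueFactorizationMonoid B)
    (hπ : π ∈ nonZeroDivisors A)
    (hP : ∀ i, P i = ⊤ ∨ (P i).IsPrime)
    (hπP : ∀ i, π ∈ P i)
    (hinj : ∀ i j, (P i).IsPrime → P i = P j → i = j)
    (hmin : ∀ i, (P i).IsPrime → ∀ P' : Ideal A, P'.IsPrime → π ∈ P' → P' ≤ P i → P' = P i)
    (hlen : ∀ i, (P i).IsPrime → ∃ (O' : Type u) (_ : CommRing O') (_ : Algebra A O')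
      (P' : Ideal A) (_ : P'.IsPrime) (_ : IsLocalization.AtPrime O' P'),
      P' = P i ∧ (Ring.ord O' (algebraMap A O' π)).toNat = m i) :
    Ideal.span {π} ≤ ∏ i, P i ^ m i := by
  refine Ideal.le_of_localization_maximal (fun Q hQ => ?_)
  haveI := hQ
  obtain ⟨B, _, _, _, _, _⟩ := hufd Q
  have key := map_span_le_map_prod π P m Q B hπ hP hπP hinj hmin hlen
  let e : B ≃ₐ[A] Localization.AtPrime Q :=
    IsLocalization.algEquiv Q.primeCompl B (Localization.AtPrime Q)
  have he : (e : B →+* Localization.AtPrime Q).comp (algebraMap A B) =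
      algebraMap A (Localization.AtPrime Q) := by
    ext a
    exact e.commutes a
  rw [← he, ← Ideal.map_map, ← Ideal.map_map]
  exact Ideal.map_mono key

end main

end Groth.Agent.H5.ArS
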