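import Mathlib
import Groth.Agent.Lib.Helper5.ArS.FibKer
import Groth.Agent.Lib.Helper5.ArS.UfdLe
import Groth.Agent.Lib.Helper5.ArS.Symm

/-!
# Partial lists of components of the closed fibre
-/

set_option autoImplicit false
set_option linter.style.haveILetI false
universe u
open CategoryTheory CategoryTheory.Limits AlgebraicGeometry TopologicalSpace Opposite

namespace Groth.Agent.H5.ArS

open Groth.Agent.LD Groth.Agent.LD.QC

variable {R : Type u} [CommRing R] [IsDomain R] [IsDiscreteValuationRing R]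
  {X : Over (Spec (CommRingCat.of R))}

theorem not_one_lt_and_lt_two (d : WithBot ℕ∞) (h1 : 1 < d) (h2 : d < 2) : False := by
  induction d using WithBot.recBotCoe with
  | bot => exact absurd h1 (by simp)
  | coe e =>
    have h1' : (1 : ℕ∞) < e := by
      have : ((1 : ℕ∞) : WithBot ℕ∞) < ((e : ℕ∞) : WithBot ℕ∞) := h1
      exact WithBot.coe_lt_coe.mp this
    have h2' : e < (2 : ℕ∞) := by
      have : ((e : ℕ∞) : WithBot ℕ∞) < ((2 : ℕ∞) : WithBot ℕ∞) := h2
      exact WithBot.coe_lt_coe.mp this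
    have h3 : (1 : ℕ∞) + 1 ≤ e := Order.add_one_le_of_lt h1'
    rw [one_add_one_eq_two] at h3
    exact absurd (h2'.trans_le h3) (lt_irrefl _)

/-- a flat integral scheme over a discrete valuation ring is not contained in its closed
fibre. -/
theorem exists_notMem_specialFibreSet [Flat X.hom] [IsIntegral X.left] :
    ∃ y : X.left, y ∉ Models.specialFibreSet R X := by
  obtain ⟨ϖ, hϖ⟩ := IsDiscreteValuationRing.exists_irreducible R
  obtain ⟨x⟩ : Nonempty X.left := inferInstance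
  obtain ⟨V, hV, hxV, -⟩ := exists_isAffineOpen_mem_and_subset (x := x) (U := (⊤ : X.left.Opens))
    trivial
  haveI : Nonempty V := ⟨⟨x, hxV⟩⟩
  haveI : IsDomain Γ(X.left, V) := inferInstance
  let q : PrimeSpectrum Γ(X.left, V) := ⟨⊥, Ideal.isPrime_bot⟩
  refine ⟨hV.fromSpec q, ?_⟩
  rw [mem_specialFibreSet_iff hV _ (fromSpec_mem hV q) ϖ hϖ, primeIdealOf_fromSpec hV q]
  change toSec X V ϖ ∉ (⊥ : Ideal _)
  rw [Ideal.mem_bot]
  exact nonZeroDivisors.ne_zero (toSec_mem_nonZeroDivisors hV ϖ hϖ.ne_zero)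

/-- on an arithmetic surface, every vertical prime divisor is an irreducible component of the
closed fibre. -/
theorem range_mem_fibreComponents (hX : ArSurf.IsArithSurface R X) (Γ : ArSurf.VertComp R X) :
    Set.range Γ.ι ∈ Models.fibreComponents R X := by
  haveI : IsIntegral X.left := hX.2.1
  haveI : Flat X.hom := hX.2.2.2.1
  have hdim : topologicalKrullDim X.left = 2 := hX.2.2.1
  obtain ⟨hc, hi, hd, hr⟩ := range_ι_facts Γ
  refine ⟨⟨hi, range_ι_subset_specialFibreSet Γ⟩, ?_⟩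
  rintro S ⟨hSi, hSF⟩ hle
  by_contra hnot
  set T := closure S with hT
  have hTi : IsIrreducible T := hSi.closure
  have hTc : IsClosed T := isClosed_closure
  have hTF : T ⊆ Models.specialFibreSet R X :=
    (Models.isClosed_specialFibreSet R X).closure_subset_iff.mpr hSF
  have hZT : Set.range Γ.ι ⊂ T := by
    refine ⟨hle.trans subset_closure, fun h => hnot (subset_closure.trans h)⟩
  obtain ⟨y, hy⟩ := exists_notMem_specialFibreSet (R := R) (X := X)
  have hTu : T ⊂ (Set.univ : Set X.left) :=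
    ⟨Set.subset_univ _, fun h => hy (hTF (h (Set.mem_univ y)))⟩
  have hu : topologicalKrullDim ↥(Set.univ : Set X.left) = 2 := by
    rw [← hdim]
    exact IsHomeomorph.topologicalKrullDim_eq _ (Homeomorph.Set.univ X.left).isHomeomorph
  have h1 := Groth.Agent.H6.ConnDim.dim_lt_of_ssubset hTc
    (IrreducibleSpace.isIrreducible_univ X.left) hTu (by rw [hu]; decide)
  have h2 := Groth.Agent.H6.ConnDim.dim_lt_of_ssubset hc hTi hZT (h1.trans_le le_top).lt_top
  rw [hu] at h1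
  rw [hd] at h2
  exact not_one_lt_and_lt_two _ h2 h1

section single

variable (Γ : ArSurf.VertComp R X) (hmax : Set.range Γ.ι ∈ Models.fibreComponents R X)

include hmax in
theorem ker_minimal_of_mem (V : X.left.affineOpens) (ϖ : R) (hϖ : Irreducible ϖ)
    (hP : ((Γ.ι.ker).ideal V).IsPrime)
    (P' : Ideal Γ(X.left, V.1)) (hP' : P'.IsPrime) (hπ : toSec X V.1 ϖ ∈ P')
    (hle : P' ≤ (Γ.ι.ker).ideal V) : P' = (Γ.ι.ker).ideal V := by
  obtain ⟨hξV, hξP⟩ := genPt_mem_and_primeIdealOf_eq Γ V hP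
  set ξ := Models.genPtOf R X Γ with hξdef
  let q : PrimeSpectrum Γ(X.left, V.1) := ⟨P', hP'⟩
  let y : X.left := V.2.fromSpec q
  have hyV : y ∈ V.1 := fromSpec_mem V.2 q
  have hyq : V.2.primeIdealOf ⟨y, hyV⟩ = q := primeIdealOf_fromSpec V.2 q
  have hyF : y ∈ Models.specialFibreSet R X := by
    rw [mem_specialFibreSet_iff V.2 y hyV ϖ hϖ, hyq]
    exact hπ
  have hclF : closure {y} ⊆ Models.specialFibreSet R X :=
    (Models.isClosed_specialFibreSet R X).closure_subset_iff.mpr (Set.singleton_subset_iff.mpr hyF)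
  have h1 : y ⤳ ξ := by
    rw [← primeIdealOf_le_iff V.2 ξ y hξV hyV, hyq, hξP]
    exact hle
  have hr : Set.range Γ.ι = closure {ξ} := (range_ι_facts Γ).2.2.2
  have hsub : Set.range Γ.ι ⊆ closure {y} := by
    rw [hr]
    exact closure_minimal (Set.singleton_subset_iff.mpr h1.mem_closure) isClosed_closure
  have hsub' : closure {y} ⊆ Set.range Γ.ι :=
    hmax.2 ⟨isIrreducible_singleton.closure, hclF⟩ hsub
  have h2 : ξ ⤳ y := by
    rw [specializes_iff_mem_closure, ← hr]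
    exact hsub' (subset_closure rfl)
  have hyξ : y = ξ := (h1.antisymm h2).eq
  have h3 : (V.2.primeIdealOf ⟨ξ, hξV⟩).asIdeal = (V.2.primeIdealOf ⟨y, hyV⟩).asIdeal := by
    congr 2
    exact Subtype.ext hyξ.symm
  rw [← hξP, h3, hyq]

theorem range_eq_of_ker_ideal_eq (Γ₁ Γ₂ : ArSurf.VertComp R X) (V : X.left.affineOpens)
    (hP : ((Γ₁.ι.ker).ideal V).IsPrime)
    (h : (Γ₁.ι.ker).ideal V = (Γ₂.ι.ker).ideal V) : Set.range Γ₁.ι = Set.range Γ₂.ι := by
  have hPj : ((Γ₂.ι.ker).ideal V).IsPrime := h ▸ hP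
  obtain ⟨hξi, hi⟩ := genPt_mem_and_primeIdealOf_eq Γ₁ V hP
  obtain ⟨hξj, hj⟩ := genPt_mem_and_primeIdealOf_eq Γ₂ V hPj
  have hpt : Models.genPtOf R X Γ₁ = Models.genPtOf R X Γ₂ :=
    primeIdealOf_injective V.2 _ _ hξi hξj (hi.trans (h.trans hj.symm))
  rw [(range_ι_facts Γ₁).2.2.2, (range_ι_facts Γ₂).2.2.2]
  unfold Models.genPtOf at hpt
  rw [hpt]

variable [Flat X.hom] (hreg : Models.IsRegularScheme X.left)

include hmax hreg in
/-- the local structure at the generic point `ξ` of a component of the closed fibre: on an affine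
open `V ∋ ξ` the ideal of `Γ` is a prime `𝔭` with `𝔭 O_ξ = (q)` the maximal ideal, and `ϖ` is
`q ^ mult Γ` up to a unit. -/
theorem stalk_genPt_facts (V : X.left.affineOpens) (ϖ : R) (hϖ : Irreducible ϖ)
    (hξV : Models.genPtOf R X Γ ∈ V.1) :
    letI : Algebra Γ(X.left, V.1) (X.left.presheaf.stalk (Models.genPtOf R X Γ)) :=
      TopCat.Presheaf.algebra_section_stalk X.left.presheaf ⟨_, hξV⟩
    ((Γ.ι.ker).ideal V).IsPrime ∧
      (V.2.primeIdealOf ⟨_, hξV⟩).asIdeal = (Γ.ι.ker).ideal V ∧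
      ∃ q : X.left.presheaf.stalk (Models.genPtOf R X Γ), Prime q ∧
        ((Γ.ι.ker).ideal V).map (algebraMap Γ(X.left, V.1)
          (X.left.presheaf.stalk (Models.genPtOf R X Γ))) = Ideal.span {q} ∧
        Ideal.span {q} = IsLocalRing.maximalIdeal _ ∧
        0 < Models.mult R X Γ ∧
        Associated (algebraMap Γ(X.left, V.1) (X.left.presheaf.stalk (Models.genPtOf R X Γ))
          (toSec X V.1 ϖ)) (q ^ Models.mult R X Γ) := by
  set ξ := Models.genPtOf R X Γ with hξdef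
  obtain ⟨V, hV⟩ := V
  have hξsupp : ξ ∈ Γ.ι.ker.support := by
    change ξ ∈ (Γ.ι.ker.support : Set _)
    rw [support_ker_ι]
    exact ⟨_, rfl⟩
  have hle : Γ.ι.ker.ideal ⟨V, hV⟩ ≤ (hV.primeIdealOf ⟨ξ, hξV⟩).asIdeal :=
    (mem_support_iff hV _ ξ hξV).mp hξsupp
  have hP : (Γ.ι.ker.ideal ⟨V, hV⟩).IsPrime := by
    rcases ker_ideal_top_or_prime Γ ⟨V, hV⟩ with h | h
    · exfalso
      rw [h] at hle
      exact (hV.primeIdealOf ⟨ξ, hξV⟩).isPrime.ne_top (top_le_iff.mp hle)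
    · exact h
  obtain ⟨hξV', hξP⟩ := genPt_mem_and_primeIdealOf_eq Γ ⟨V, hV⟩ hP
  letI : Algebra Γ(X.left, V) (X.left.presheaf.stalk ξ) :=
    TopCat.Presheaf.algebra_section_stalk X.left.presheaf ⟨ξ, hξV⟩
  haveI := hV.isLocalization_stalk ⟨ξ, hξV⟩
  haveI := hreg ξ
  obtain ⟨hd, hu⟩ := Groth.Agent.H3.ABufd.main (X.left.presheaf.stalk ξ)
  have hπB : algebraMap Γ(X.left, V) (X.left.presheaf.stalk ξ) (toSec X V ϖ) ≠ 0 := by
    have := IsLocalization.map_nonZeroDivisors_le (hV.primeIdealOf ⟨ξ, hξV⟩).asIdeal.primeCompl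
      (X.left.presheaf.stalk ξ)
      (Submonoid.mem_map_of_mem _ (toSec_mem_nonZeroDivisors hV ϖ hϖ.ne_zero))
    exact nonZeroDivisors.ne_zero this
  obtain ⟨q, hq, hqπ, hspan⟩ := exists_prime_map_eq_span (hV.primeIdealOf ⟨ξ, hξV⟩).asIdeal
    (X.left.presheaf.stalk ξ) (toSec X V ϖ) hπB (Γ.ι.ker.ideal ⟨V, hV⟩) hle
    (toSec_mem_ker Γ ⟨V, hV⟩ ϖ (by
      rw [hϖ.maximalIdeal_eq]
      exact Ideal.mem_span_singleton_self ϖ))
    (fun P' hP' hπ hle' => ker_minimal_of_mem Γ hmax ⟨V, hV⟩ ϖ hϖ hP P' hP' hπ hle')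
  have hmaxeq : Ideal.span {q} = IsLocalRing.maximalIdeal (X.left.presheaf.stalk ξ) := by
    rw [← hspan, ← hξP]
    exact IsLocalization.AtPrime.map_eq_maximalIdeal _ _
  have key := ord_eq_multiplicity (RingHom.id (X.left.presheaf.stalk ξ)) q
    (algebraMap Γ(X.left, V) (X.left.presheaf.stalk ξ) (toSec X V ϖ)) hq hπB
    (by
      rw [RingHom.id_apply, hmaxeq]
      exact IsLocalRing.maximalIdeal.isMaximal _)
    (mem_nonZeroDivisors_of_ne_zero hq.ne_zero)
    (fun c hc => by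
      rw [RingHom.id_apply]
      by_contra hnu
      apply hc
      rw [← Ideal.mem_span_singleton, hmaxeq]
      exact (IsLocalRing.mem_maximalIdeal c).mpr hnu)
  have hm : Models.mult R X Γ = multiplicity q
      (algebraMap Γ(X.left, V) (X.left.presheaf.stalk ξ) (toSec X V ϖ)) := by
    rw [mult_eq_ord ⟨V, hV⟩ ϖ hϖ Γ hξV]
    rw [RingHom.id_apply] at key
    change (Ring.ord _ (algebraMap Γ(X.left, V) (X.left.presheaf.stalk ξ) (toSec X V ϖ))).toNat = _
    rw [key, ENat.toNat_natCast]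
  refine ⟨hP, hξP, q, hq, hspan, hmaxeq, ?_, ?_⟩
  · rw [hm]
    exact multiplicity_pos_of_dvd hqπ
  · rw [hm]
    have hfin : FiniteMultiplicity q
        (algebraMap Γ(X.left, V) (X.left.presheaf.stalk ξ) (toSec X V ϖ)) :=
      FiniteMultiplicity.of_prime_left hq hπB
    obtain ⟨c, hc, hqc⟩ := hfin.exists_eq_pow_mul_and_not_dvd
    have hcu : IsUnit c := by
      by_contra hnu
      apply hqc
      rw [← Ideal.mem_span_singleton, hmaxeq]
      exact (IsLocalRing.mem_maximalIdeal c).mpr hnu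
    obtain ⟨u, rfl⟩ := hcu
    exact ⟨u⁻¹, by
      conv_lhs => rw [hc]
      rw [mul_assoc, Units.mul_inv, mul_one]⟩

end single

section partlist

variable [Flat X.hom] (hreg : Models.IsRegularScheme X.left)
  {ι : Type u} [Fintype ι] (Γ : ι → ArSurf.VertComp R X)
  (hinj : Function.Injective fun i => Set.range (Γ i).ι)
  (hmem : ∀ i, Set.range (Γ i).ι ∈ Models.fibreComponents R X)

include hreg hinj hmem in
/-- the closed fibre contains `Σ m_i Γ_i` for every family of pairwise distinct components. -/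
theorem specialFibreIdeal_le_prod :
    Models.specialFibreIdeal R X ≤ ∏ i, (Γ i).ι.ker ^ Models.mult R X (Γ i) := by
  obtain ⟨ϖ, hϖ⟩ := IsDiscreteValuationRing.exists_irreducible R
  intro V
  rw [specialFibreIdeal_ideal, hϖ.maximalIdeal_eq, Ideal.map_span, Set.image_singleton,
    ideal_prod_pow]
  exact span_le_prod_pow (toSec X V.1 ϖ) (fun i => (Γ i).ι.ker.ideal V)
    (fun i => Models.mult R X (Γ i)) (fun Q _ => exists_ufd_localization hreg V Q)
    (toSec_mem_nonZeroDivisors V.2 ϖ hϖ.ne_zero) (fun i => ker_ideal_top_or_prime (Γ i) V)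
    (fun i => toSec_mem_ker (Γ i) V ϖ (by
      rw [hϖ.maximalIdeal_eq]
      exact Ideal.mem_span_singleton_self ϖ))
    (fun i j hP h => hinj (range_eq_of_ker_ideal_eq (Γ i) (Γ j) V hP h))
    (fun i hP P' hP' hπ hle => ker_minimal_of_mem (Γ i) (hmem i) V ϖ hϖ hP P' hP' hπ hle)
    (fun i hP => exists_stalk_loc V ϖ hϖ (Γ i) hP)

include hreg hmem in
/-- near the generic point of `Γ_i`, the divisor `Σ m_j Γ_j` is contained in the closed fibre. -/
theorem exists_affine_prod_le_specialFibreIdeal [IsLocallyNoetherian X.left] (i : ι) :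
    ∃ W : X.left.affineOpens, Models.genPtOf R X (Γ i) ∈ W.1 ∧
      (∏ j, (Γ j).ι.ker ^ Models.mult R X (Γ j)).ideal W ≤
        (Models.specialFibreIdeal R X).ideal W := by
  classical
  obtain ⟨ϖ, hϖ⟩ := IsDiscreteValuationRing.exists_irreducible R
  set ξ := Models.genPtOf R X (Γ i) with hξdef
  obtain ⟨V, hV, hξV, -⟩ := exists_isAffineOpen_mem_and_subset (x := ξ) (U := (⊤ : X.left.Opens))
    trivial
  letI : Algebra Γ(X.left, V) (X.left.presheaf.stalk ξ) :=
    TopCat.Presheaf.algebra_section_stalk X.left.presheaf ⟨ξ, hξV⟩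
  haveI := hV.isLocalization_stalk ⟨ξ, hξV⟩
  obtain ⟨hP, hξP, q, hq, hspan, hmaxeq, hpos, hass⟩ :=
    stalk_genPt_facts (Γ i) (hmem i) hreg ⟨V, hV⟩ ϖ hϖ hξV
  haveI : IsNoetherianRing Γ(X.left, V) := IsLocallyNoetherian.component_noetherian ⟨V, hV⟩
  set I := (∏ j, (Γ j).ι.ker ^ Models.mult R X (Γ j)).ideal ⟨V, hV⟩ with hI
  set πV := toSec X V ϖ with hπV
  set 𝔭 := (hV.primeIdealOf ⟨ξ, hξV⟩).asIdeal with h𝔭
  have hIle : I ≤ (Γ i).ι.ker.ideal ⟨V, hV⟩ ^ Models.mult R X (Γ i) := by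
    rw [hI, ideal_prod_pow, ← Finset.mul_prod_erase Finset.univ
      (fun j => (Γ j).ι.ker.ideal ⟨V, hV⟩ ^ Models.mult R X (Γ j)) (Finset.mem_univ i)]
    exact Ideal.mul_le_left (I := (Γ i).ι.ker.ideal ⟨V, hV⟩ ^ Models.mult R X (Γ i))
  have hmapI : I.map (algebraMap Γ(X.left, V) (X.left.presheaf.stalk ξ)) ≤
      (Ideal.span {πV}).map (algebraMap Γ(X.left, V) (X.left.presheaf.stalk ξ)) := by
    refine (Ideal.map_mono hIle).trans ?_
    rw [Ideal.map_pow, hspan, Ideal.span_singleton_pow, Ideal.map_span, Set.image_singleton]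
    exact Ideal.span_singleton_le_span_singleton.mpr hass.dvd
  -- clear denominators on a finite generating set
  have hstep : ∀ x ∈ I, ∃ m ∈ 𝔭.primeCompl, m * x ∈ Ideal.span {πV} := by
    intro x hx
    exact (IsLocalization.algebraMap_mem_map_algebraMap_iff 𝔭.primeCompl
      (X.left.presheaf.stalk ξ) _ x).mp (hmapI (Ideal.mem_map_of_mem _ hx))
  obtain ⟨S, hS⟩ : I.FG := IsNoetherian.noetherian I
  have hSI : ∀ g ∈ S, g ∈ I := fun g hg => hS ▸ Ideal.subset_span hg
  choose! d hd hdx using hstep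
  set f := ∏ g ∈ S, d g with hf
  have hf𝔭 : f ∈ 𝔭.primeCompl :=
    Submonoid.prod_mem _ (fun g hg => hd g (hSI g hg))
  have hfI : ∀ x ∈ I, f * x ∈ Ideal.span {πV} := by
    intro x hx
    rw [← hS] at hx
    refine Submodule.span_induction ?_ ?_ ?_ ?_ hx
    · intro g hg
      have hg' : g ∈ S := hg
      rw [hf, ← Finset.mul_prod_erase S d hg', mul_comm (d g), mul_assoc]
      exact Ideal.mul_mem_left _ _ (hdx g (hSI g hg'))
    · rw [mul_zero]
      exact Ideal.zero_mem _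
    · intro x y _ _ hx hy
      rw [mul_add]
      exact Ideal.add_mem _ hx hy
    · intro a x _ hx
      rw [smul_eq_mul, mul_left_comm]
      exact Ideal.mul_mem_left _ _ hx
  have hξf : ξ ∈ X.left.basicOpen f := by
    by_contra hnot
    exact hf𝔭 ((Groth.Agent.LD.QC.mem_primeIdealOf_iff hV ξ hξV f).mpr hnot)
  refine ⟨X.left.affineBasicOpen (U := ⟨V, hV⟩) f, hξf, ?_⟩
  rw [← Scheme.IdealSheafData.map_ideal_basicOpen, ← Scheme.IdealSheafData.map_ideal_basicOpen]
  refine Ideal.map_le_iff_le_comap.mpr ?_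
  intro x hx
  rw [Ideal.mem_comap, specialFibreIdeal_ideal, hϖ.maximalIdeal_eq, Ideal.map_span,
    Set.image_singleton]
  have hu : IsUnit ((X.left.presheaf.map (homOfLE (X.left.basicOpen_le f)).op).hom f) :=
    X.left.toRingedSpace.isUnit_res_basicOpen f
  have h1 := Ideal.mem_map_of_mem (X.left.presheaf.map (homOfLE (X.left.basicOpen_le f)).op).hom
    (hfI x hx)
  rw [map_mul] at h1
  exact (Ideal.unit_mul_mem_iff_mem _ hu).mp h1

end partlist

end Groth.Agent.H5.ArS
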