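import Mathlib
import Groth.Agent.Lib.Helper5.ArS.InvCart
import Groth.Agent.Lib.Helper5.LinEq.A
import Groth.Agent.Lib.Helper5.Curve6.Rat
import Groth.Agent.Lib.Helper5.Glue.F
import Groth.Agent.Lib.Lead.QC.ZeroScheme
import Groth.Agent.Lib.Lead.PD.ConnZeroInt

/-!
# The residual divisor of a trivial ideal sheaf in an effective Cartier divisor

For ideal sheaves `D₂ ≤ D₁` with `D₁` effective Cartier and `idealMod D₂ ≅ O_X`, there is an
effective Cartier ideal `J` with `idealMod D₁ ⊗ idealMod J ≅ O_X` whose support avoids every point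
near which `D₁ = D₂`.
-/

set_option autoImplicit false
set_option linter.style.haveILetI false
universe u
open CategoryTheory CategoryTheory.Limits AlgebraicGeometry TopologicalSpace Opposite

namespace Groth.Agent.H5.ArS

open Groth.Agent.LD Groth.Agent.LD.QC Groth.Agent.H5.Glue Groth.Agent.H5.LinEq

variable {X : Scheme.{u}}

/-- the inclusion of ideal modules is locally surjective where the ideals agree. -/
theorem locSurjAt_idealModIncl {D₁ D₂ : X.IdealSheafData} (hle : D₂ ≤ D₁) (x : X)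
    (W₀ : X.affineOpens) (hx : x ∈ W₀.1) (h : D₁.ideal W₀ ≤ D₂.ideal W₀) :
    LocSurjAt (idealModIncl hle) x := by
  intro U t hxU
  obtain ⟨W, hW, hxW, hWle⟩ := exists_isAffineOpen_mem_and_subset (x := x) (U := U ⊓ W₀.1)
    ⟨hxU, hx⟩
  have hWU : W ≤ U := hWle.trans inf_le_left
  have hWW₀ : (⟨W, hW⟩ : X.affineOpens) ≤ W₀ := hWle.trans inf_le_right
  have hle' : D₁.ideal ⟨W, hW⟩ ≤ D₂.ideal ⟨W, hW⟩ := by
    rw [← D₁.map_ideal hWW₀, ← D₂.map_ideal hWW₀]
    exact Ideal.map_mono h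
  set t' := (ClSub.idealMod D₁).presheaf.map (homOfLE hWU).op t with ht'
  have h1 : (ClSub.idealModι D₁).app W t' ∈ D₁.ideal ⟨W, hW⟩ :=
    (exists_idealModι_app_eq_iff D₁ ⟨W, hW⟩ _).mp ⟨t', rfl⟩
  obtain ⟨g, hg⟩ := (exists_idealModι_app_eq_iff D₂ ⟨W, hW⟩ _).mpr (hle' h1)
  refine ⟨W, hWU, hxW, g, ?_⟩
  apply idealModι_app_injective D₁ W
  rw [← hg, ← idealModIncl_ι hle]
  rfl

/-- **the residual divisor.** -/
theorem exists_residual (D₁ D₂ : X.IdealSheafData) (h₁ : BlowUp.IsEffCartierIdeal D₁)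
    (hle : D₂ ≤ D₁) (φ : unitMod X ≅ ClSub.idealMod D₂) :
    ∃ J : X.IdealSheafData, BlowUp.IsEffCartierIdeal J ∧
      ClSub.IsInverseOf (ClSub.idealMod D₁) (ClSub.idealMod J) ∧
      ∀ (x : X) (W₀ : X.affineOpens), x ∈ W₀.1 → D₁.ideal W₀ ≤ D₂.ideal W₀ →
        x ∉ (J.support : Set X) := by
  have hL : PicF.IsInvertible (ClSub.idealMod D₁) := (isInvertible_idealMod_iff D₁).mpr h₁
  obtain ⟨M, hM, ⟨ε⟩⟩ := exists_inverse _ hL
  haveI : M.IsQuasicoherent := qc_of_isInvertible M hM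
  let s : Coh.structureModule X ⟶ ClSub.idealMod D₁ := φ.hom ≫ idealModIncl hle
  haveI : Mono (idealModIncl hle) := by
    apply (config := { allowSynthFailures := true }) mono_of_mono_fac (idealModIncl_ι hle)
  haveI : Mono s := mono_comp _ _
  obtain ⟨ψ⟩ := nonempty_iso_idealMod_zeroScheme (ClSub.idealMod D₁) M ε s hL hM
  have hinv : ClSub.IsInverseOf (ClSub.idealMod D₁)
      (ClSub.idealMod (PicF2.zeroScheme (ClSub.idealMod D₁) s)) :=
    ⟨(tensorIso' (Iso.refl _) ψ.symm) ≪≫ ε⟩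
  refine ⟨PicF2.zeroScheme (ClSub.idealMod D₁) s, ?_, hinv, ?_⟩
  · exact (inverse_facts _ _ hinv).1
  · intro x W₀ hx h
    rw [support_zeroScheme _ hL s]
    intro hxc
    apply hxc
    refine Groth.Agent.H5.Curve6.mem_genLocus_of_locSurjAt hL s x ?_
    exact LocSurjAt.comp (locSurjAt_of_epi φ.hom x) (locSurjAt_idealModIncl hle x W₀ hx h)

end Groth.Agent.H5.ArS
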