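import Mathlib
import Groth.Agent.Lib.Helper5.ArS.FibSum
import Groth.Agent.Lib.Helper5.ArS.PartList
import Groth.Agent.Lib.Helper5.ArS.Resid

/-!
# Partial sums `Σ_{j ∈ S} m_j Γ_j · Γ_i ≤ 0` for families of distinct components
-/

set_option autoImplicit false
set_option linter.style.haveILetI false
universe u
open CategoryTheory CategoryTheory.Limits AlgebraicGeometry TopologicalSpace Opposite

namespace Groth.Agent.H5.ArS

open Groth.Agent.LD Groth.Agent.LD.QC

variable {R : Type u} [CommRing R] [IsDomain R] [IsDiscreteValuationRing R]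
  {X : Over (Spec (CommRingCat.of R))}

/-- for a family of pairwise distinct components of the closed fibre of a regular flat proper
`R`-scheme, `(Σ_j m_j Γ_j) · Γ_i ≤ 0` for every member `Γ_i` of the family (the rest of the closed
fibre is an effective divisor not containing `Γ_i`). -/
theorem sum_mult_inter_le_zero [Flat X.hom] [IsLocallyNoetherian X.left] (hp : IsProper X.hom)
    (hreg : Models.IsRegularScheme X.left) {ι : Type u} [Fintype ι]
    (Γ : ι → ArSurf.VertComp R X)
    (hinj : Function.Injective fun i => Set.range (Γ i).ι)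
    (hmem : ∀ i, Set.range (Γ i).ι ∈ Models.fibreComponents R X)
    (L : ι → X.left.Modules)
    (hL : ∀ j, ClSub.IsInverseOf (L j) (ClSub.idealMod (Γ j).ι.ker)) (i : ι) :
    ∑ j, (Models.mult R X (Γ j) : ℤ) * ArSurf.inter R X (L j) (Γ i) ≤ 0 := by
  haveI : IsProper ((Γ i).curve.left ↘ Spec (CommRingCat.of (IsLocalRing.ResidueField R))) :=
    isProper_curve_hom hp (Γ i)
  have hI : ∀ j, BlowUp.IsEffCartierIdeal (Γ j).ι.ker :=
    fun j => (inverse_facts _ _ (hL j)).1
  obtain ⟨hIS, h1⟩ := pdeg_idealMod_prod (IsLocalRing.ResidueField R) (Γ i).ι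
    (dim_curve_le (Γ i)) Finset.univ (fun j => (Γ j).ι.ker) hI (fun j => Models.mult R X (Γ j))
  have hle := specialFibreIdeal_le_prod hreg Γ hinj hmem
  obtain ⟨φ⟩ := nonempty_unit_iso_idealMod_specialFibreIdeal (X := X)
  obtain ⟨J, hJ, hinv, hsupp⟩ := exists_residual _ _ hIS hle φ
  obtain ⟨W, hξW, hW⟩ := exists_affine_prod_le_specialFibreIdeal hreg Γ hmem i
  have hξ : (Γ i).ι (genericPoint (Γ i).curve.left) ∉ (J.support : Set X.left) :=
    hsupp _ W hξW hW
  have h0 := (inter_nonneg_and_eq_zero_iff hp (Γ i) J hJ hξ _ hinv).1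
  have hISinv : PicF.IsInvertible
      (ClSub.idealMod (∏ j, (Γ j).ι.ker ^ Models.mult R X (Γ j))) :=
    (isInvertible_idealMod_iff _).mpr hIS
  have h3 : ArSurf.inter R X (ClSub.idealMod (∏ j, (Γ j).ι.ker ^ Models.mult R X (Γ j))) (Γ i) =
      pdeg (IsLocalRing.ResidueField R) (Γ i).ι
        (ClSub.idealMod (∏ j, (Γ j).ι.ker ^ Models.mult R X (Γ j))) := by
    unfold ArSurf.inter pdeg
    exact curveDeg_eq_deg _ (dim_curve_le (Γ i)) _ (isInvertible_pullback (Γ i).ι hISinv)
  have h2 : ∀ j, ArSurf.inter R X (L j) (Γ i) =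
      - pdeg (IsLocalRing.ResidueField R) (Γ i).ι (ClSub.idealMod (Γ j).ι.ker) :=
    fun j => inter_eq_neg_pdeg hp (Γ i) _ (hI j) (L j) (hL j)
  rw [h3, h1] at h0
  simp only [h2, mul_neg, Finset.sum_neg_distrib]
  linarith

end Groth.Agent.H5.ArS
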