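import Mathlib
import Groth.Agent.Lib.Helper5.ArS.PartSum
import Groth.Agent.Lib.Helper5.ArS.GraphLA2
import Groth.Agent.Lib.Helper5.Curve6.P1Conv
import Groth.Agent.Lib.Helper5.Lim.ModuleIso

/-!
# The intersection form on vertical divisors of an arithmetic surface is negative semi-definite
(S3253)
-/

set_option autoImplicit false
set_option linter.style.haveILetI false
universe u
open CategoryTheory CategoryTheory.Limits AlgebraicGeometry TopologicalSpace Opposite

namespace Groth.Agent.H5.ArS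

open Groth.Agent.LD Groth.Agent.LD.QC

variable {R : Type u} [CommRing R] [IsDomain R] [IsDiscreteValuationRing R]
  {X : Over (Spec (CommRingCat.of R))}

section invariance

/-- vertical prime divisors with the same support have the same ideal. -/
theorem ker_eq_of_range_eq (Γ₁ Γ₂ : ArSurf.VertComp R X)
    (h : Set.range Γ₁.ι = Set.range Γ₂.ι) : Γ₁.ι.ker = Γ₂.ι.ker := by
  rw [Groth.Agent.H5.Curve6.ker_eq_vanishingIdeal_of_isReduced,
    Groth.Agent.H5.Curve6.ker_eq_vanishingIdeal_of_isReduced]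
  congr 1
  apply Closeds.ext
  simp only [Closeds.coe_closure]
  rw [h]

/-- the intersection number only depends on the support of the vertical prime divisor. -/
theorem inter_congr_of_range_eq (hp : IsProper X.hom) (Γ₁ Γ₂ : ArSurf.VertComp R X)
    (h : Set.range Γ₁.ι = Set.range Γ₂.ι) (L : X.left.Modules) (hL : PicF.IsInvertible L) :
    ArSurf.inter R X L Γ₁ = ArSurf.inter R X L Γ₂ := by
  haveI : IsProper (Γ₁.curve.left ↘ Spec (CommRingCat.of (IsLocalRing.ResidueField R))) :=
    isProper_curve_hom hp Γ₁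
  haveI : IsProper (Γ₂.curve.left ↘ Spec (CommRingCat.of (IsLocalRing.ResidueField R))) :=
    isProper_curve_hom hp Γ₂
  have hker := ker_eq_of_range_eq Γ₁ Γ₂ h
  let e : Γ₂.curve.left ⟶ Γ₁.curve.left := IsClosedImmersion.lift Γ₁.ι Γ₂.ι hker.le
  haveI : IsIso e := IsClosedImmersion.isIso_lift Γ₁.ι Γ₂.ι hker
  have hfac : e ≫ Γ₁.ι = Γ₂.ι := IsClosedImmersion.lift_fac _ _ _
  have hk : e ≫ Γ₁.curve.hom = Γ₂.curve.hom := by
    haveI : IsClosedImmersion (Spec.map (CommRingCat.ofHom (IsLocalRing.residue R))) :=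
      IsClosedImmersion.spec_of_surjective _ IsLocalRing.residue_surjective
    rw [← cancel_mono (Spec.map (CommRingCat.ofHom (IsLocalRing.residue R))), Category.assoc,
      ← Γ₁.w, ← Γ₂.w, ← Category.assoc, hfac]
  have hk' : e ≫ (Γ₁.curve.left ↘ Spec (CommRingCat.of (IsLocalRing.ResidueField R))) =
      Γ₂.curve.left ↘ Spec (CommRingCat.of (IsLocalRing.ResidueField R)) := hk
  unfold ArSurf.inter
  rw [curveDeg_eq_deg _ (dim_curve_le Γ₁) _ (isInvertible_pullback Γ₁.ι hL),
    curveDeg_eq_deg _ (dim_curve_le Γ₂) _ (isInvertible_pullback Γ₂.ι hL),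
    ← Groth.Agent.H5.Curve6.deg_pullback_of_isIso (IsLocalRing.ResidueField R) e hk'
      ((Scheme.Modules.pullback Γ₁.ι).obj L) 1]
  exact Curve.deg_iso _ _ ((Groth.Agent.H5.Lim.pullbackCompIso e Γ₁.ι Γ₂.ι hfac).app L) 1

/-- two inverses of the same effective Cartier ideal have the same intersection numbers. -/
theorem inter_eq_of_inverse_same (hp : IsProper X.hom) (Γ' : ArSurf.VertComp R X)
    (I : X.left.IdealSheafData) (L₁ L₂ : X.left.Modules)
    (h₁ : ClSub.IsInverseOf L₁ (ClSub.idealMod I)) (h₂ : ClSub.IsInverseOf L₂ (ClSub.idealMod I)) :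
    ArSurf.inter R X L₁ Γ' = ArSurf.inter R X L₂ Γ' := by
  have hI := (inverse_facts _ _ h₁).1
  rw [inter_eq_neg_pdeg hp Γ' I hI L₁ h₁, inter_eq_neg_pdeg hp Γ' I hI L₂ h₂]

end invariance

section core

/-- the multiplicity of a component of the closed fibre of a regular flat scheme is positive. -/
theorem mult_pos_of_mem [Flat X.hom] (hreg : Models.IsRegularScheme X.left)
    (Γ : ArSurf.VertComp R X) (hmax : Set.range Γ.ι ∈ Models.fibreComponents R X) :
    0 < Models.mult R X Γ := by
  obtain ⟨ϖ, hϖ⟩ := IsDiscreteValuationRing.exists_irreducible R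
  obtain ⟨V, hV, hξV, -⟩ := exists_isAffineOpen_mem_and_subset (x := Models.genPtOf R X Γ)
    (U := (⊤ : X.left.Opens)) trivial
  obtain ⟨-, -, q, -, -, -, hpos, -⟩ := stalk_genPt_facts Γ hmax hreg ⟨V, hV⟩ ϖ hϖ hξV
  exact hpos

/-- negative semi-definiteness for a family of vertical prime divisors with pairwise distinct
supports. -/
theorem inter_form_nonpos_of_injective (hX : ArSurf.IsArithSurface R X) {ι : Type u} [Fintype ι]
    (Γ : ι → ArSurf.VertComp R X) (hinj : Function.Injective fun i => Set.range (Γ i).ι)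
    (L : ι → X.left.Modules)
    (hL : ∀ j, ClSub.IsInverseOf (L j) (ClSub.idealMod (Γ j).ι.ker)) (a : ι → ℤ) :
    ∑ i, ∑ j, a i * a j * ArSurf.inter R X (L j) (Γ i) ≤ 0 := by
  have hp := isProper_hom_of_isArithSurface R X hX
  haveI : Flat X.hom := hX.2.2.2.1
  haveI : LocallyOfFiniteType X.hom := inferInstance
  haveI : IsLocallyNoetherian X.left := LocallyOfFiniteType.isLocallyNoetherian X.hom
  have hreg := hX.1
  have hmem := fun i => range_mem_fibreComponents hX (Γ i)
  refine quad_nonpos_of_rowsum_nonpos (fun i j => ArSurf.inter R X (L j) (Γ i))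
    (fun i => (Models.mult R X (Γ i) : ℤ)) ?_ ?_ ?_ ?_ a
  · intro i j
    by_cases hij : i = j
    · subst hij
      rfl
    · exact inter_symm hp (Γ i) (Γ j) (fun h => hij (hinj h)) (L i) (L j) (hL i) (hL j)
  · intro i j hij
    exact (inter_nonneg_and_eq_zero_iff hp (Γ i) (Γ j).ι.ker (inverse_facts _ _ (hL j)).1
      (genericPoint_notMem_of_ne (Γ i) (Γ j) (fun h => hij (hinj h))) (L j) (hL j)).1
  · intro i
    exact_mod_cast mult_pos_of_mem hreg (Γ i) (hmem i)
  · intro i
    exact sum_mult_inter_le_zero hp hreg Γ hinj hmem L hL i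

end core

section general

theorem sum_fiber_mul {α ι : Type*} [Fintype α] [Fintype ι] [DecidableEq ι] (ρ : α → ι)
    (a : α → ℤ) (g : ι → ℤ) :
    ∑ v, (∑ j, if ρ j = v then a j else 0) * g v = ∑ j, a j * g (ρ j) := by
  simp_rw [Finset.sum_mul]
  rw [Finset.sum_comm]
  refine Finset.sum_congr rfl (fun j _ => ?_)
  simp [ite_mul]

/-- **S3253**: the intersection form on the vertical prime divisors over the closed point of an
arithmetic surface is negative semi-definite (any family, repetitions allowed). -/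
theorem inter_form_nonpos (hX : ArSurf.IsArithSurface R X) {r : ℕ}
    (Γ : Fin r → ArSurf.VertComp R X) (L : Fin r → X.left.Modules)
    (hL : ∀ j, ClSub.IsInverseOf (L j) (ClSub.idealMod (Γ j).ι.ker)) (a : Fin r → ℤ) :
    ∑ i, ∑ j, a i * a j * ArSurf.inter R X (L j) (Γ i) ≤ 0 := by
  classical
  have hp := isProper_hom_of_isArithSurface R X hX
  set c : Fin r → Set X.left := fun i => Set.range (Γ i).ι with hc
  let ι := Set.range c
  haveI : Fintype ι := Fintype.ofFinite _
  let σ : ι → Fin r := fun s => Classical.choose s.2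
  have hσ : ∀ s : ι, c (σ s) = s.1 := fun s => Classical.choose_spec s.2
  let ρ : Fin r → ι := fun i => ⟨c i, i, rfl⟩
  have hρ : ∀ i, c (σ (ρ i)) = c i := fun i => hσ (ρ i)
  have hinj : Function.Injective fun s : ι => Set.range (Γ (σ s)).ι := by
    intro s s' h
    apply Subtype.ext
    rw [← hσ s, ← hσ s']
    exact h
  have hLinv : ∀ j, PicF.IsInvertible (L j) := fun j => (inverse_facts _ _ (hL j)).2.2
  have hN : ∀ i j, ArSurf.inter R X (L j) (Γ i) =
      ArSurf.inter R X (L (σ (ρ j))) (Γ (σ (ρ i))) := by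
    intro i j
    rw [inter_congr_of_range_eq hp (Γ i) (Γ (σ (ρ i))) (hρ i).symm (L j) (hLinv j)]
    have hk : (Γ (σ (ρ j))).ι.ker = (Γ j).ι.ker := ker_eq_of_range_eq _ _ (hρ j)
    have h2 := hL (σ (ρ j))
    rw [hk] at h2
    exact inter_eq_of_inverse_same hp _ _ _ _ (hL j) h2
  have key := inter_form_nonpos_of_injective hX (fun s : ι => Γ (σ s)) hinj (fun s => L (σ s))
    (fun s => hL (σ s)) (fun v => ∑ j, if ρ j = v then a j else 0)
  refine le_of_eq_of_le ?_ key
  symm
  calc ∑ u, ∑ v, (∑ i, if ρ i = u then a i else 0) * (∑ j, if ρ j = v then a j else 0) *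
        ArSurf.inter R X (L (σ v)) (Γ (σ u))
      = ∑ u, (∑ i, if ρ i = u then a i else 0) *
          (∑ v, (∑ j, if ρ j = v then a j else 0) * ArSurf.inter R X (L (σ v)) (Γ (σ u))) := by
        refine Finset.sum_congr rfl (fun u _ => ?_)
        rw [Finset.mul_sum]
        refine Finset.sum_congr rfl (fun v _ => ?_)
        ring
    _ = ∑ u, (∑ i, if ρ i = u then a i else 0) *
          (∑ j, a j * ArSurf.inter R X (L (σ (ρ j))) (Γ (σ u))) := by
        refine Finset.sum_congr rfl (fun u _ => ?_)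
        rw [sum_fiber_mul ρ a (fun v => ArSurf.inter R X (L (σ v)) (Γ (σ u)))]
    _ = ∑ i, a i * (∑ j, a j * ArSurf.inter R X (L (σ (ρ j))) (Γ (σ (ρ i)))) :=
        sum_fiber_mul ρ a
          (fun u => ∑ j, a j * ArSurf.inter R X (L (σ (ρ j))) (Γ (σ u)))
    _ = ∑ i, ∑ j, a i * a j * ArSurf.inter R X (L j) (Γ i) := by
        refine Finset.sum_congr rfl (fun i _ => ?_)
        rw [Finset.mul_sum]
        refine Finset.sum_congr rfl (fun j _ => ?_)
        rw [hN i j]
        ring

end general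

end Groth.Agent.H5.ArS
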