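import Mathlib
import Groth.Agent.Lib.Helper5.ArS.FibKer
import Groth.Agent.Lib.Lead.Stein.Zariski
import Groth.Agent.Lib.Helper6.HC2
import Groth.Agent.Lib.Lead.CohLES.H0Lin
import Groth.Agent.Lib.Lead.QC.CartierHeight

/-!
# Connectedness of the closed fibre of a regular proper model (S3319, S3320)
-/

set_option autoImplicit false
set_option linter.style.haveILetI false
universe u
open CategoryTheory CategoryTheory.Limits AlgebraicGeometry TopologicalSpace Opposite

namespace Groth.Agent.H5.ArS

open Groth.Agent.LD Groth.Agent.LD.QC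

section finite

/-- global functions of a proper scheme over a Noetherian ring are integral over the base. -/
theorem isIntegralElem_toGlobal {A : Type u} [CommRing A] [IsNoetherianRing A] (X : Scheme.{u})
    (p : X ⟶ Spec (CommRingCat.of A)) [IsProper p] (b : Γ(X, ⊤)) :
    (Coh.toGlobal p).IsIntegralElem b := by
  letI : X.Over (Spec (CommRingCat.of A)) := ⟨p⟩
  haveI : IsProper (X ↘ Spec (CommRingCat.of A)) := ‹IsProper p›
  haveI : LocallyOfFiniteType p := inferInstance
  haveI : IsLocallyNoetherian X := LocallyOfFiniteType.isLocallyNoetherian p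
  haveI hfin : Module.Finite A (Coh.HH X (Coh.structureModule X) 0) :=
    Groth.Agent.S0002.result A X (Coh.structureModule X) (Groth.Agent.LD.PF.isCoh_unitMod X) 0
  letI : Algebra A Γ(X, ⊤) := (Coh.toGlobal p).toAlgebra
  let e : Coh.HH X (Coh.structureModule X) 0 ≃ₗ[A] Γ(X, ⊤) :=
    { CL.HH0Equiv (Coh.structureModule X) with
      map_smul' := fun c x =>
        CL.HH0Equiv_smul (Coh.structureModule X) (Coh.toGlobal p c) x }
  haveI : Module.Finite A Γ(X, ⊤) := Module.Finite.equiv e
  exact Algebra.IsIntegral.isIntegral (R := A) b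

end finite

variable {R : Type u} [CommRing R] [IsDomain R] [IsDiscreteValuationRing R]

section generic

variable {C X : Scheme.{u}} (f : C ⟶ Spec (CommRingCat.of (FractionRing R)))
  (p : X ⟶ Spec (CommRingCat.of R)) (g : C ⟶ X)
  (hpb : IsPullback g f p (Spec.map (CommRingCat.ofHom (algebraMap R (FractionRing R)))))
include hpb

/-- points outside the closed fibre lie on the generic fibre. -/
theorem mem_range_of_notMem_specialFibreSet (x : X)
    (hx : x ∉ Models.specialFibreSet R (Over.mk p)) : x ∈ Set.range g := by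
  have h1 : p.base x ≠ IsLocalRing.closedPoint R := hx
  have h2 : (p.base x).asIdeal = ⊥ := by
    by_contra hne
    have hmax : (p.base x).asIdeal.IsMaximal := (p.base x).isPrime.isMaximal hne
    apply h1
    apply PrimeSpectrum.ext
    exact IsLocalRing.eq_maximalIdeal hmax
  have h3 : p.base x ∈ Set.range (Spec.map (CommRingCat.ofHom
      (algebraMap R (FractionRing R)))) := by
    refine ⟨⟨⊥, Ideal.isPrime_bot⟩, ?_⟩
    apply PrimeSpectrum.ext
    rw [h2]
    change Ideal.comap (algebraMap R (FractionRing R)) ⊥ = ⊥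
    rw [← RingHom.ker_eq_comap_bot]
    exact (RingHom.injective_iff_ker_eq_bot _).mp (IsFractionRing.injective R (FractionRing R))
  have h4 : x ∈ Set.range (pullback.fst p (Spec.map (CommRingCat.ofHom
      (algebraMap R (FractionRing R))))) := by
    rw [Scheme.Pullback.range_fst]
    exact h3
  obtain ⟨z, hz⟩ := h4
  refine ⟨hpb.isoPullback.inv.base z, ?_⟩
  rw [← Scheme.Hom.comp_apply, hpb.isoPullback_inv_fst]
  exact hz

/-- restriction to the generic fibre is injective on global functions of a flat reduced
`R`-scheme. -/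
theorem appTop_injective_of_isPullback [Flat p] [IsReduced X] :
    Function.Injective g.appTop.hom := by
  rw [injective_iff_map_eq_zero]
  intro d hd
  obtain ⟨ϖ, hϖ⟩ := IsDiscreteValuationRing.exists_irreducible R
  let π : Γ(X, ⊤) := Coh.toGlobal p ϖ
  have hbot : X.basicOpen (d * π) = ⊥ := by
    rw [Scheme.basicOpen_mul]
    ext x
    simp only [Opens.coe_inf, Set.mem_inter_iff, SetLike.mem_coe, Opens.coe_bot,
      Set.mem_empty_iff_false, iff_false, not_and]
    intro hxd hxπ
    have hxF : x ∉ Models.specialFibreSet R (Over.mk p) := by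
      obtain ⟨V, hV, hxV, -⟩ := exists_isAffineOpen_mem_and_subset (x := x)
        (U := (⊤ : X.Opens)) trivial
      rw [mem_specialFibreSet_iff (X := Over.mk p) hV x hxV ϖ hϖ,
        Groth.Agent.LD.QC.mem_primeIdealOf_iff hV x hxV, not_not]
      have : X.basicOpen (toSec (Over.mk p) V ϖ) = V ⊓ X.basicOpen π := by
        unfold toSec
        erw [Scheme.basicOpen_res]
        rfl
      rw [this]
      exact ⟨hxV, hxπ⟩
    obtain ⟨c, rfl⟩ := mem_range_of_notMem_specialFibreSet f p g hpb x hxF
    have h1 : c ∈ g ⁻¹ᵁ X.basicOpen d := hxd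
    rw [Scheme.preimage_basicOpen] at h1
    have h2 : (g.app ⊤).hom d = 0 := hd
    rw [h2, Scheme.basicOpen_zero] at h1
    exact h1
  have hzero : d * π = 0 := (basicOpen_eq_bot_iff _).mp hbot
  apply TopCat.Presheaf.section_ext X.sheaf ⊤
  intro x hx
  obtain ⟨V, hV, hxV, -⟩ := exists_isAffineOpen_mem_and_subset (x := x)
    (U := (⊤ : X.Opens)) trivial
  have hres : (X.presheaf.map (homOfLE (le_top : V ≤ ⊤)).op).hom d = 0 := by
    haveI : Flat (Over.mk p).hom := ‹Flat p›
    have h1 : (X.presheaf.map (homOfLE (le_top : V ≤ ⊤)).op).hom d *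
        (show Γ(X, V) from toSec (Over.mk p) V ϖ) = 0 := by
      have := congrArg (X.presheaf.map (homOfLE (le_top : V ≤ ⊤)).op).hom hzero
      rw [map_mul, map_zero] at this
      exact this
    have hnzd := toSec_mem_nonZeroDivisors (X := Over.mk p) hV ϖ hϖ.ne_zero
    exact (mul_right_mem_nonZeroDivisors_eq_zero_iff hnzd).mp h1
  have h3 := TopCat.Presheaf.germ_res_apply X.presheaf (homOfLE (le_top : V ≤ ⊤)) x hxV d
  change (X.presheaf.germ ⊤ x hx).hom d = (X.presheaf.germ ⊤ x hx).hom 0
  rw [map_zero, ← h3, hres, map_zero]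

end generic

section model

variable {C X : Scheme.{u}} (f : C ⟶ Spec (CommRingCat.of (FractionRing R)))
  (p : X ⟶ Spec (CommRingCat.of R))

/-- `H⁰(X, O_X) = R` for a regular proper model of a curve with `H⁰(C, O_C) = K`. -/
theorem bijective_toGlobal_of_model (hX : Models.IsRegularProperModel R X p C f)
    (hH0 : IsIso f.appTop) : Function.Bijective (Coh.toGlobal p) := by
  obtain ⟨⟨hflat, hlft, hqc, g, hpb⟩, hproper, hreg⟩ := hX
  haveI := hflat
  haveI := hproper
  haveI : IsReduced X := by
    haveI : ∀ x : X, _root_.IsReduced (X.presheaf.stalk x) := fun x => by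
      haveI := hreg x
      haveI : IsDomain (X.presheaf.stalk x) := (Groth.Agent.H3.ABufd.main _).1
      infer_instance
    exact isReduced_of_isReduced_stalk X
  have hginj := appTop_injective_of_isPullback f p g hpb
  have hfbij : Function.Bijective (Coh.toGlobal f) := by
    unfold Coh.toGlobal
    exact ((ConcreteCategory.isIso_iff_bijective f.appTop).mp hH0).comp
      (ConcreteCategory.bijective_of_isIso (Scheme.ΓSpecIso _).inv)
  have hcomp : ∀ r : R, g.appTop.hom (Coh.toGlobal p r) =
      Coh.toGlobal f (algebraMap R (FractionRing R) r) := by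
    intro r
    have h1 : g.appTop.hom (Coh.toGlobal p r) = Coh.toGlobal (g ≫ p) r := rfl
    rw [h1, hpb.w, toGlobal_comp_specMap]
  constructor
  · intro r r' h
    have := congrArg g.appTop.hom h
    rw [hcomp, hcomp] at this
    exact IsFractionRing.injective R (FractionRing R) (hfbij.1 this)
  · intro b
    obtain ⟨κ, hκ⟩ := hfbij.2 (g.appTop.hom b)
    obtain ⟨P, hPm, hPb⟩ := isIntegralElem_toGlobal X p b
    have hκint : IsIntegral R κ := by
      refine ⟨P, hPm, ?_⟩
      apply hfbij.1
      rw [map_zero, Polynomial.hom_eval₂, hκ]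
      have h2 : (Coh.toGlobal f).comp (algebraMap R (FractionRing R)) =
          g.appTop.hom.comp (Coh.toGlobal p) := by
        ext r
        exact (hcomp r).symm
      have h3 := Polynomial.hom_eval₂ P (Coh.toGlobal p) g.appTop.hom b
      rw [h2]
      refine h3.symm.trans ?_
      rw [hPb]
      exact map_zero _
    obtain ⟨r, hr⟩ := IsIntegrallyClosed.algebraMap_eq_of_integral hκint
    refine ⟨r, hginj ?_⟩
    rw [hcomp, hr, hκ]

/-- **the closed fibre of a regular proper model of a curve with `H⁰(C, O_C) = K` is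
connected.** -/
theorem isConnected_specialFibreSet_of_model (hX : Models.IsRegularProperModel R X p C f)
    (hH0 : IsIso f.appTop) : _root_.IsConnected (Models.specialFibreSet R (Over.mk p)) := by
  haveI := hX.2.1
  have hbij := bijective_toGlobal_of_model f p hX hH0
  have hiso : IsIso (p.app ⊤) := by
    rw [ConcreteCategory.isIso_iff_bijective]
    have h1 : Function.Bijective ((Scheme.ΓSpecIso (CommRingCat.of R)).inv.hom) :=
      ConcreteCategory.bijective_of_isIso (Scheme.ΓSpecIso _).inv
    exact (Function.Bijective.of_comp_iff (p.appTop.hom) h1).mp hbij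
  exact Groth.Agent.LD.Stein.isConnected_preimage_singleton p (IsLocalRing.closedPoint R)
    Groth.Agent.H6.HC.formalBij ⊤ (isAffineOpen_top _) trivial hiso

end model

end Groth.Agent.H5.ArS
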