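import Mathlib

/-!
# The third isomorphism theorem in an abelian category, as a short exact sequence
-/

set_option autoImplicit false
universe v u
open CategoryTheory CategoryTheory.Limits

namespace Groth.Agent.H5.ArS

variable {C : Type u} [Category.{v} C] [Abelian C]

/-- for `f : A ⟶ B` and a monomorphism `g : B ⟶ D`, the sequence
`0 ⟶ coker f ⟶ coker (f ≫ g) ⟶ coker g ⟶ 0` is short exact. -/
theorem shortExact_cokernel_comp {A B D : C} (f : A ⟶ B) (g : B ⟶ D) [Mono g] :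
    (ShortComplex.mk (cokernel.map f (f ≫ g) (𝟙 _) g (by simp))
      (cokernel.map (f ≫ g) g f (𝟙 _) (by simp)) (by ext; simp)).ShortExact := by
  let S := kernelCokernelCompSequence.snakeInput f g
  have hex : S.L₃.Exact := S.L₃_exact
  haveI : Epi S.L₂.g := by
    change Epi (biprod.snd : B ⊞ D ⟶ D)
    infer_instance
  have hepi : Epi S.L₃.g := inferInstance
  have hδ : S.δ = 0 := (isZero_kernel_of_mono g).eq_of_src _ _
  have hmono : Mono S.L₃.f := S.L₂'_exact.mono_g hδ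
  exact { exact := hex, mono_f := hmono, epi_g := hepi }

/-- given `f : A ⟶ B`, a monomorphism `i₂ : B ⟶ O`, and cokernels `p₁` of `f ≫ i₂` and `p₂` of
`i₂`, there is a short exact sequence `0 ⟶ coker f ⟶ Q₁ ⟶ Q₂ ⟶ 0`. -/
theorem exists_shortExact_of_two {A B O Q₁ Q₂ : C} (f : A ⟶ B) (i₂ : B ⟶ O) [Mono i₂]
    (p₁ : O ⟶ Q₁) (p₂ : O ⟶ Q₂) (w₁ : (f ≫ i₂) ≫ p₁ = 0) (w₂ : i₂ ≫ p₂ = 0)
    (h₁ : IsColimit (CokernelCofork.ofπ p₁ w₁)) (h₂ : IsColimit (CokernelCofork.ofπ p₂ w₂)) :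
    ∃ (a : cokernel f ⟶ Q₁) (b : Q₁ ⟶ Q₂) (w : a ≫ b = 0),
      (ShortComplex.mk a b w).ShortExact := by
  let e₁ : cokernel (f ≫ i₂) ≅ Q₁ :=
    (cokernelIsCokernel (f ≫ i₂)).coconePointUniqueUpToIso h₁
  let e₂ : cokernel i₂ ≅ Q₂ := (cokernelIsCokernel i₂).coconePointUniqueUpToIso h₂
  let S₁ : ShortComplex C := ShortComplex.mk (cokernel.map f (f ≫ i₂) (𝟙 _) i₂ (by simp))
      (cokernel.map (f ≫ i₂) i₂ f (𝟙 _) (by simp)) (by ext; simp)
  have hS : S₁.ShortExact := shortExact_cokernel_comp f i₂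
  have hw : (S₁.f ≫ e₁.hom) ≫ (e₁.inv ≫ S₁.g ≫ e₂.hom) = 0 := by
    simp only [Category.assoc, Iso.hom_inv_id_assoc]
    rw [← Category.assoc, S₁.zero, zero_comp]
  refine ⟨S₁.f ≫ e₁.hom, e₁.inv ≫ S₁.g ≫ e₂.hom, hw, ?_⟩
  let S₂ : ShortComplex C := ShortComplex.mk (S₁.f ≫ e₁.hom) (e₁.inv ≫ S₁.g ≫ e₂.hom) hw
  have e : S₁ ≅ S₂ := ShortComplex.isoMk (Iso.refl _) e₁ e₂ (by simp [S₂]) (by simp [S₂])
  exact ShortComplex.shortExact_of_iso e hS

end Groth.Agent.H5.ArS
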