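import Mathlib
import Groth.Agent.Lib.Helper5.ArS.ThirdIso
import Groth.Agent.Lib.Helper5.ArS.Len
import Groth.Agent.Lib.Helper5.ArS.FibSum
import Groth.Agent.Lib.Helper5.ArS.Symm
import Groth.Agent.Lib.Helper5.LinEq.A
import Groth.Agent.Lib.Helper5.DegC.Cartier
import Groth.Agent.Lib.Lead.QC.ProjFormula
import Groth.Agent.Lib.Lead.QC.TensorExact
import Groth.Agent.Lib.Lead.QC.IdealMul
import Groth.Agent.Lib.Lead.CohLES.Euler
import Groth.Agent.Lib.Helper5.ArS.FibConn
import Groth.Agent.Lib.Lead.QC.QuotSupp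
import Groth.Agent.Lib.Helper5.GV.Main

/-!
# Adding a component to a vertical divisor: the change of the Euler characteristic (S3325)
-/

set_option autoImplicit false
set_option linter.style.haveILetI false
universe u
open CategoryTheory CategoryTheory.Limits AlgebraicGeometry TopologicalSpace Opposite

namespace Groth.Agent.H5.ArS

open Groth.Agent.LD Groth.Agent.LD.QC Groth.Agent.H5.LinEq Groth.Agent.H5.DegC

section sheaf

variable {X : Scheme.{u}}

/-- for ideal sheaves `D' ≤ D`, a short exact sequence `0 ⟶ D / D' ⟶ O / D' ⟶ O / D ⟶ 0`. -/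
theorem exists_shortExact_quot {D' D : X.IdealSheafData} (hle : D' ≤ D) :
    ∃ (a : cokernel (idealModIncl hle) ⟶ ClSub.quotMod D')
      (b : ClSub.quotMod D' ⟶ ClSub.quotMod D) (w : a ≫ b = 0),
      (ShortComplex.mk a b w).ShortExact := by
  haveI : Mono (ClSub.idealModι D) := inferInstanceAs (Mono (kernel.ι (ClSub.toSubscheme D)))
  have key : ∀ (i₁ : ClSub.idealMod D' ⟶ unitMod X)
      (_ : i₁ = idealModIncl hle ≫ ClSub.idealModι D)
      (w₁ : i₁ ≫ ClSub.toSubscheme D' = 0)
      (_ : IsColimit (CokernelCofork.ofπ (ClSub.toSubscheme D') w₁)),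
      ∃ (a : cokernel (idealModIncl hle) ⟶ ClSub.quotMod D')
        (b : ClSub.quotMod D' ⟶ ClSub.quotMod D) (w : a ≫ b = 0),
        (ShortComplex.mk a b w).ShortExact := by
    intro i₁ h w₁ h₁
    subst h
    exact exists_shortExact_of_two (idealModIncl hle) (ClSub.idealModι D)
      (ClSub.toSubscheme D') (ClSub.toSubscheme D) w₁ (kernel.condition (ClSub.toSubscheme D)) h₁
      (shortExact_idealMod D).gIsCokernel
  exact key (ClSub.idealModι D') (idealModIncl_ι hle).symm _ (shortExact_idealMod D').gIsCokernel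

/-- `D / (J D) ≅ (O / J) ⊗ D` for an invertible ideal sheaf `D`. -/
theorem nonempty_cokernel_iso_tensor (J D : X.IdealSheafData)
    (hD : PicF.IsInvertible (ClSub.idealMod D)) (hle : J * D ≤ D) :
    Nonempty (cokernel (idealModIncl hle) ≅
      CohB1.tensorMod (ClSub.quotMod J) (ClSub.idealMod D)) := by
  haveI := qc_of_isInvertible _ hD
  haveI : Mono (ClSub.idealModι D) := inferInstanceAs (Mono (kernel.ι (ClSub.toSubscheme D)))
  haveI := isIso_idealMulLift J D hD
  -- the tensored short exact sequence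
  have hS := shortExact_tensorMap_of_isInvertible (shortExact_idealMod J) (ClSub.idealMod D) hD
  -- comparison of the two arrows
  have hcomp : idealMulLift J D ≫ idealModIncl hle =
      KoszTw.tensorMap (ClSub.idealModι J) (𝟙 (ClSub.idealMod D)) ≫
        (unitorL (ClSub.idealMod D)).hom := by
    rw [← cancel_mono (ClSub.idealModι D), Category.assoc, idealModIncl_ι, idealMulLift_ι]
    rfl
  -- cokernel of the tensored arrow
  let e₁ : cokernel (KoszTw.tensorMap (ClSub.idealModι J) (𝟙 (ClSub.idealMod D))) ≅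
      CohB1.tensorMod (ClSub.quotMod J) (ClSub.idealMod D) :=
    (cokernelIsCokernel _).coconePointUniqueUpToIso hS.gIsCokernel
  -- cokernels of isomorphic arrows
  let e₂ : cokernel (idealModIncl hle) ≅
      cokernel (KoszTw.tensorMap (ClSub.idealModι J) (𝟙 (ClSub.idealMod D))) :=
    cokernel.mapIso _ _ (asIso (idealMulLift J D)).symm (unitorL (ClSub.idealMod D)).symm (by
      rw [Iso.symm_hom, Iso.symm_hom, asIso_inv, IsIso.eq_inv_comp, ← Category.assoc, hcomp,
        Category.assoc, Iso.hom_inv_id, Category.comp_id])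
  exact ⟨e₂ ≪≫ e₁⟩

end sheaf

section coh

variable {R : Type u} [CommRing R] [IsDomain R] [IsDiscreteValuationRing R]
  {X : Over (Spec (CommRingCat.of R))}

/-- the cohomology of `(O / I_Γ) ⊗ M` on `X` is the cohomology of `M|_Γ` on `Γ`. -/
theorem length_HH_tensor_quotMod (hp : IsProper X.hom) (Γ : ArSurf.VertComp R X)
    (M : X.left.Modules) (hM : PicF.IsInvertible M) (n : ℕ) :
    Module.length R (Coh.HH X.left (CohB1.tensorMod (ClSub.quotMod Γ.ι.ker) M) n) =
      (Module.finrank (IsLocalRing.ResidueField R)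
        (Coh.HH Γ.curve.left ((Scheme.Modules.pullback Γ.ι).obj M) n) : ℕ∞) := by
  set k := IsLocalRing.ResidueField R with hk
  set c : Γ.curve.left ⟶ X.left := Γ.ι with hc
  haveI : IsProper (Γ.curve.left ↘ Spec (CommRingCat.of k)) := isProper_curve_hom hp Γ
  letI oΓR : Γ.curve.left.Over (Spec (CommRingCat.of R)) := ⟨c ≫ X.hom⟩
  letI oZ : c.ker.subscheme.Over (Spec (CommRingCat.of R)) := ⟨c.ker.subschemeι ≫ X.hom⟩
  haveI : c.ker.subschemeι.IsOver (Spec (CommRingCat.of R)) := ⟨rfl⟩
  haveI : c.toImage.IsOver (Spec (CommRingCat.of R)) := ⟨by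
    change c.toImage ≫ c.ker.subschemeι ≫ X.hom = c ≫ X.hom
    rw [← Category.assoc]
    congr 1
    exact c.toImage_imageι⟩
  haveI := Curve.isLocallyNoetherian k Γ.curve.left
  haveI hqc : M.IsQuasicoherent := qc_of_isInvertible M hM
  have hpM : PicF.IsInvertible ((Scheme.Modules.pullback c.ker.subschemeι).obj M) :=
    isInvertible_pullback c.ker.subschemeι hM
  haveI := qc_of_isInvertible _ hpM
  have hcM : PicF.IsInvertible ((Scheme.Modules.pullback c).obj M) :=
    isInvertible_pullback c hM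
  let θ : CohB1.tensorMod (ClSub.quotMod c.ker) M ≅
      (Scheme.Modules.pushforward c.ker.subschemeι).obj
        ((Scheme.Modules.pullback c.ker.subschemeι).obj M) :=
    projIso c.ker.subschemeι (Coh.structureModule c.ker.subscheme) M hM ≪≫
      (Scheme.Modules.pushforward c.ker.subschemeι).mapIso (unitorL _)
  let e1 := RS.HHequiv R θ n
  let e2 := CL.HHpushEquiv c.ker.subschemeι R
    ((Scheme.Modules.pullback c.ker.subschemeι).obj M) n
  let e3 := PS.cohE R c.toImage n ((Scheme.Modules.pullback c.ker.subschemeι).obj M)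
  let θ' : (Scheme.Modules.pullback c.toImage).obj
      ((Scheme.Modules.pullback c.ker.subschemeι).obj M) ≅ (Scheme.Modules.pullback c).obj M :=
    (Groth.Agent.H5.Lim.pullbackCompIso c.toImage c.ker.subschemeι c c.toImage_imageι).app M
  let e4 := RS.HHequiv R θ' n
  have hlen1 : Module.length R (Coh.HH X.left (CohB1.tensorMod (ClSub.quotMod c.ker) M) n) =
      Module.length R (Coh.HH Γ.curve.left ((Scheme.Modules.pullback c).obj M) n) :=
    (e1 ≪≫ₗ e2.symm ≪≫ₗ e3 ≪≫ₗ e4).length_eq
  have hsm : ∀ (r : R) (x : Coh.HH Γ.curve.left ((Scheme.Modules.pullback c).obj M) n),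
      r • x = (algebraMap R k r) • x := by
    intro r x
    change (Coh.toGlobal (c ≫ X.hom) r) • x =
      (Coh.toGlobal Γ.curve.hom (algebraMap R k r)) • x
    have h1 : c ≫ X.hom = Γ.curve.hom ≫
        Spec.map (CommRingCat.ofHom (IsLocalRing.residue R)) := Γ.w
    rw [h1, toGlobal_comp_specMap]
    rfl
  haveI : IsScalarTower R k (Coh.HH Γ.curve.left ((Scheme.Modules.pullback c).obj M) n) := ⟨by
    intro r a x
    rw [Algebra.smul_def, mul_smul, ← hsm]⟩
  haveI : Module.Finite k (Coh.HH Γ.curve.left ((Scheme.Modules.pullback c).obj M) n) :=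
    Curve.finite_HH k Γ.curve.left _ (Groth.Agent.H5.Curve2.isCoh_of_isInvertible hcM) n
  have hlen3 : Module.length R (Coh.HH Γ.curve.left ((Scheme.Modules.pullback c).obj M) n) =
      Module.length k (Coh.HH Γ.curve.left ((Scheme.Modules.pullback c).obj M) n) :=
    Module.length_eq_of_surjective IsLocalRing.residue_surjective
  rw [hlen1, hlen3, Module.length_eq_finrank]

/-- a finite module over a discrete valuation ring killed by a uniformizer has finite length. -/
theorem length_ne_top_of_smul_eq_zero {N : Type*} [AddCommGroup N] [Module R N]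
    [Module.Finite R N] (ϖ : R) (hϖ : Irreducible ϖ) (h : ∀ x : N, ϖ • x = 0) :
    Module.length R N ≠ ⊤ := by
  have htors : Module.IsTorsionBySet R N (IsLocalRing.maximalIdeal R : Set R) := by
    intro x a
    obtain ⟨a, ha⟩ := a
    have ha' : a ∈ Ideal.span {ϖ} := hϖ.maximalIdeal_eq ▸ ha
    obtain ⟨b, hb⟩ := Ideal.mem_span_singleton'.mp ha'
    change a • x = 0
    rw [← hb, mul_smul, h, smul_zero]
  letI : Module (IsLocalRing.ResidueField R) N := htors.module
  haveI : IsScalarTower R (IsLocalRing.ResidueField R) N := htors.isScalarTower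
  haveI : Module.Finite (IsLocalRing.ResidueField R) N :=
    Module.Finite.of_restrictScalars_finite R _ N
  have h1 : Module.length R N = Module.length (IsLocalRing.ResidueField R) N :=
    Module.length_eq_of_surjective IsLocalRing.residue_surjective
  rw [h1, Module.length_eq_finrank]
  exact ENat.natCast_ne_top _

/-- a global function lying in the ideal sheaf `D` on every affine open vanishes on the closed
subscheme. -/
theorem subschemeι_appTop_eq_zero {Y : Scheme.{u}} (D : Y.IdealSheafData) (s : Γ(Y, ⊤))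
    (h : ∀ U : Y.affineOpens,
      (Y.presheaf.map (homOfLE (le_top : U.1 ≤ ⊤)).op).hom s ∈ D.ideal U) :
    D.subschemeι.appTop.hom s = 0 := by
  refine D.subscheme.IsSheaf.section_ext fun z hz => ?_
  obtain ⟨U, hU, hzU, -⟩ := exists_isAffineOpen_mem_and_subset (x := D.subschemeι.base z)
    (U := (⊤ : Y.Opens)) trivial
  refine ⟨D.subschemeι ⁻¹ᵁ U, le_top, hzU, ?_⟩
  rw [map_zero]
  have h1 : (D.subschemeι.app U).hom ((Y.presheaf.map (homOfLE (le_top : U ≤ ⊤)).op).hom s) =
      0 := by
    rw [← RingHom.mem_ker, D.ker_subschemeι_app ⟨U, hU⟩]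
    exact h ⟨U, hU⟩
  have h2 := congr($(D.subschemeι.naturality (homOfLE (le_top : U ≤ ⊤)).op) s)
  rw [CommRingCat.comp_apply, CommRingCat.comp_apply] at h2
  rw [← h1]
  exact h2.symm

/-- the cohomology of the structure sheaf of a closed subscheme of the closed fibre has finite
length. -/
theorem length_HH_quotMod_ne_top [IsLocallyNoetherian X.left] (hp : IsProper X.hom)
    (D : X.left.IdealSheafData) (hD : Models.specialFibreIdeal R X ≤ D) (j : ℕ) :
    Module.length R (Coh.HH X.left (ClSub.quotMod D) j) ≠ ⊤ := by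
  obtain ⟨ϖ, hϖ⟩ := IsDiscreteValuationRing.exists_irreducible R
  haveI : IsProper (X.left ↘ Spec (CommRingCat.of R)) := hp
  haveI : Module.Finite R (Coh.HH X.left (ClSub.quotMod D) j) :=
    Groth.Agent.S0002.result R X.left (ClSub.quotMod D) (isCoh_quotMod D) j
  refine length_ne_top_of_smul_eq_zero ϖ hϖ (fun x => ?_)
  letI oZ : D.subscheme.Over (Spec (CommRingCat.of R)) := ⟨D.subschemeι ≫ X.hom⟩
  haveI : D.subschemeι.IsOver (Spec (CommRingCat.of R)) := ⟨rfl⟩
  let e := CL.HHpushEquiv D.subschemeι R (Coh.structureModule D.subscheme) j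
  obtain ⟨y, rfl⟩ := e.surjective x
  rw [← map_smul]
  have hzero : ϖ • y = 0 := by
    change (Coh.toGlobal (D.subschemeι ≫ X.hom) ϖ) • y = 0
    have h0 : Coh.toGlobal (D.subschemeι ≫ X.hom) ϖ = 0 := by
      change D.subschemeι.appTop.hom (Coh.toGlobal X.hom ϖ) = 0
      refine subschemeι_appTop_eq_zero D _ (fun U => ?_)
      apply hD U
      rw [specialFibreIdeal_ideal]
      exact Ideal.mem_map_of_mem (toSec X U.1) hϖ.not_isUnit
    rw [h0, zero_smul]
  rw [hzero, map_zero]

/-- **S3325**: adding the component `Γ_i` to a vertical divisor `D = Σ a_j Γ_j` (with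
`D + Γ_i` contained in the closed fibre) changes the Euler characteristic of the structure sheaf
by `-(D · Γ_i) + χ(O_{Γ_i})`. -/
theorem euler_add_component [Flat X.hom] [IsLocallyNoetherian X.left] (hp : IsProper X.hom)
    (hreg : Models.IsRegularScheme X.left) {n : ℕ} (Γ : Fin n → ArSurf.VertComp R X)
    (hΓ : Models.IsComponentList R X Γ) (L : Fin n → X.left.Modules)
    (hL : ∀ j, ClSub.IsInverseOf (L j) (ClSub.idealMod (Γ j).ι.ker)) (a : Fin n → ℕ) (i : Fin n)
    (ha : ∀ j, a j + (if j = i then 1 else 0) ≤ Models.mult R X (Γ j)) :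
    ((Models.lengthH R X
          (ClSub.quotMod (∏ j, (Γ j).ι.ker ^ (a j + if j = i then 1 else 0))) 0 : ℤ) -
        (Models.lengthH R X
          (ClSub.quotMod (∏ j, (Γ j).ι.ker ^ (a j + if j = i then 1 else 0))) 1 : ℤ)) -
      ((Models.lengthH R X (ClSub.quotMod (∏ j, (Γ j).ι.ker ^ a j)) 0 : ℤ) -
        (Models.lengthH R X (ClSub.quotMod (∏ j, (Γ j).ι.ker ^ a j)) 1 : ℤ)) =
      -(∑ j, (a j : ℤ) * ArSurf.inter R X (L i) (Γ j)) +
        ((Models.wdeg R X (Γ i) : ℤ) - (Models.h1 R X (Γ i) : ℤ)) := by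
  classical
  set k := IsLocalRing.ResidueField R with hk
  haveI : IsProper ((Γ i).curve.left ↘ Spec (CommRingCat.of k)) := isProper_curve_hom hp (Γ i)
  have hI : ∀ j, BlowUp.IsEffCartierIdeal (Γ j).ι.ker := fun j => (inverse_facts _ _ (hL j)).1
  obtain ⟨hDc, hdeg⟩ := pdeg_idealMod_prod k (Γ i).ι (dim_curve_le (Γ i)) Finset.univ
    (fun j => (Γ j).ι.ker) hI a
  set D : X.left.IdealSheafData := ∏ j, (Γ j).ι.ker ^ a j with hD
  have hDinv : PicF.IsInvertible (ClSub.idealMod D) := (isInvertible_idealMod_iff D).mpr hDc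
  -- the ideal of `D + Γ_i`
  have hD'eq : (∏ j, (Γ j).ι.ker ^ (a j + if j = i then 1 else 0)) = (Γ i).ι.ker * D := by
    rw [hD, mul_comm]
    have h1 : ∀ j : Fin n, (Γ j).ι.ker ^ (a j + if j = i then 1 else 0) =
        (Γ j).ι.ker ^ a j * (if j = i then (Γ j).ι.ker else 1) := by
      intro j
      rw [pow_add]
      split_ifs <;> simp
    rw [Finset.prod_congr rfl (fun j _ => h1 j), Finset.prod_mul_distrib,
      Finset.prod_ite_eq' Finset.univ i (fun j => (Γ j).ι.ker)]
    simp
  rw [hD'eq]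
  have hle : (Γ i).ι.ker * D ≤ D := by
    calc (Γ i).ι.ker * D ≤ 1 * D := mul_le_mul_left (show (Γ i).ι.ker ≤ 1 from le_top) D
      _ = D := one_mul D
  -- both ideals contain the ideal of the closed fibre
  have hfib : Models.specialFibreIdeal R X ≤ (Γ i).ι.ker * D := by
    rw [specialFibreIdeal_eq_prod hreg Γ hΓ, ← hD'eq]
    refine Finset.prod_le_prod (fun j _ => bot_le) (fun j _ => ?_)
    exact pow_le_pow_of_le_one bot_le le_top (ha j)
  have hfibD : Models.specialFibreIdeal R X ≤ D := hfib.trans hle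
  -- the short exact sequence
  obtain ⟨f₁, f₂, w, hS⟩ := exists_shortExact_quot hle
  obtain ⟨eQ⟩ := nonempty_cokernel_iso_tensor (Γ i).ι.ker D hDinv hle
  have hlenQ : ∀ m : ℕ, Module.length R (Coh.HH X.left (cokernel (idealModIncl hle)) m) =
      (Module.finrank k (Coh.HH (Γ i).curve.left
        ((Scheme.Modules.pullback (Γ i).ι).obj (ClSub.idealMod D)) m) : ℕ∞) := by
    intro m
    rw [(RS.HHequiv R eQ m).length_eq]
    exact length_HH_tensor_quotMod hp (Γ i) (ClSub.idealMod D) hDinv m
  have hpinv : PicF.IsInvertible ((Scheme.Modules.pullback (Γ i).ι).obj (ClSub.idealMod D)) :=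
    isInvertible_pullback (Γ i).ι hDinv
  haveI := qc_of_isInvertible _ hpinv
  haveI := Curve.isLocallyNoetherian k (Γ i).curve.left
  haveI : CompactSpace (Γ i).curve.left :=
    QuasiCompact.compactSpace_of_compactSpace ((Γ i).curve.left ↘ Spec (CommRingCat.of k))
  have hr : Subsingleton (Coh.HH X.left (cokernel (idealModIncl hle)) (1 + 1)) := by
    rw [← Module.length_eq_zero_iff (R := R), hlenQ]
    haveI := Groth.Agent.H5.GV.subsingleton_HH_of_dim_le 1
      (by exact_mod_cast dim_curve_le (Γ i))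
      ((Scheme.Modules.pullback (Γ i).ι).obj (ClSub.idealMod D)) 2 (by norm_num) le_rfl
    rw [Module.finrank_zero_of_subsingleton]
    rfl
  have hadd := CL.chiLE_add R hS 1
    (fun j => by rw [hlenQ]; exact ENat.natCast_ne_top _)
    (fun j => length_HH_quotMod_ne_top hp _ hfib j)
    (fun j => length_HH_quotMod_ne_top hp _ hfibD j) hr
  -- unfold the truncated Euler characteristics
  have hchi : ∀ F : X.left.Modules, CL.chiLE R F 1 =
      (Models.lengthH R X F 0 : ℤ) - (Models.lengthH R X F 1 : ℤ) := by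
    intro F
    unfold CL.chiLE Models.lengthH Alg.len
    rw [Finset.sum_range_succ, Finset.sum_range_one]
    ring
  have hchiQ : CL.chiLE R (cokernel (idealModIncl hle)) 1 =
      FGA.eulerCharLE k (Γ i).curve.left
        ((Scheme.Modules.pullback (Γ i).ι).obj (ClSub.idealMod D)) 1 := by
    unfold CL.chiLE FGA.eulerCharLE Alg.len
    refine Finset.sum_congr rfl (fun m _ => ?_)
    rw [hlenQ m, ENat.toNat_natCast]
  have hadd' : CL.chiLE R (ClSub.quotMod ((Γ i).ι.ker * D)) 1 =
      CL.chiLE R (cokernel (idealModIncl hle)) 1 + CL.chiLE R (ClSub.quotMod D) 1 := hadd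
  rw [hchi (ClSub.quotMod ((Γ i).ι.ker * D)), hchi (ClSub.quotMod D), hchiQ] at hadd'
  -- degrees
  have hdegD : ArSurf.curveDeg k (Γ i).curve.left
      ((Scheme.Modules.pullback (Γ i).ι).obj (ClSub.idealMod D)) =
      ∑ j, (a j : ℤ) * pdeg k (Γ i).ι (ClSub.idealMod (Γ j).ι.ker) := by
    rw [curveDeg_eq_deg k (dim_curve_le (Γ i)) _ hpinv]
    exact hdeg
  have hinter : ∀ j, pdeg k (Γ i).ι (ClSub.idealMod (Γ j).ι.ker) =
      - ArSurf.inter R X (L i) (Γ j) := by
    intro j
    rw [← neg_eq_iff_eq_neg, ← inter_eq_neg_pdeg hp (Γ i) (Γ j).ι.ker (hI j) (L j) (hL j)]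
    by_cases hij : i = j
    · subst hij
      rfl
    · exact inter_symm hp (Γ i) (Γ j) (fun h => hij (hΓ.1 h)) (L i) (L j) (hL i) (hL j)
  have hO : FGA.eulerCharLE k (Γ i).curve.left (Coh.structureModule (Γ i).curve.left) 1 =
      (Models.wdeg R X (Γ i) : ℤ) - (Models.h1 R X (Γ i) : ℤ) := by
    unfold FGA.eulerCharLE Models.wdeg Models.h1
    rw [Finset.sum_range_succ, Finset.sum_range_one]
    ring
  unfold ArSurf.curveDeg at hdegD
  rw [hO] at hdegD
  simp only [hinter] at hdegD
  rw [hadd']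
  have : ∑ j, (a j : ℤ) * -ArSurf.inter R X (L i) (Γ j) =
      -∑ j, (a j : ℤ) * ArSurf.inter R X (L i) (Γ j) := by
    rw [← Finset.sum_neg_distrib]
    exact Finset.sum_congr rfl (fun j _ => by ring)
  rw [this] at hdegD
  linarith

end coh

end Groth.Agent.H5.ArS
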