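import Mathlib
import Groth.Agent.Lib.Helper5.ArS.EulerAdd
import Groth.Agent.Lib.Helper5.Gro.EllPush

/-!
# Adding a component of positive intersection: injectivity on global functions (S3323)
-/

set_option autoImplicit false
set_option linter.style.haveILetI false
universe u
open CategoryTheory CategoryTheory.Limits AlgebraicGeometry TopologicalSpace Opposite

namespace Groth.Agent.H5.ArS

open Groth.Agent.LD Groth.Agent.LD.QC Groth.Agent.H5.LinEq Groth.Agent.H5.DegC

section abelian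

variable {C : Type*} [Category C] [Abelian C]

/-- `exists_shortExact_of_two`, remembering that the second map is compatible with the
projections. -/
theorem exists_shortExact_of_two' {A B O Q₁ Q₂ : C} (f : A ⟶ B) (i₂ : B ⟶ O) [Mono i₂]
    (p₁ : O ⟶ Q₁) (p₂ : O ⟶ Q₂) (w₁ : (f ≫ i₂) ≫ p₁ = 0) (w₂ : i₂ ≫ p₂ = 0)
    (h₁ : IsColimit (CokernelCofork.ofπ p₁ w₁)) (h₂ : IsColimit (CokernelCofork.ofπ p₂ w₂)) :
    ∃ (a : cokernel f ⟶ Q₁) (b : Q₁ ⟶ Q₂) (w : a ≫ b = 0),
      (ShortComplex.mk a b w).ShortExact ∧ p₁ ≫ b = p₂ := by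
  let e₁ : cokernel (f ≫ i₂) ≅ Q₁ :=
    (cokernelIsCokernel (f ≫ i₂)).coconePointUniqueUpToIso h₁
  let e₂ : cokernel i₂ ≅ Q₂ := (cokernelIsCokernel i₂).coconePointUniqueUpToIso h₂
  let S₁ : ShortComplex C := ShortComplex.mk (cokernel.map f (f ≫ i₂) (𝟙 _) i₂ (by simp))
      (cokernel.map (f ≫ i₂) i₂ f (𝟙 _) (by simp)) (by ext; simp)
  have hS : S₁.ShortExact := shortExact_cokernel_comp f i₂
  have hw : (S₁.f ≫ e₁.hom) ≫ (e₁.inv ≫ S₁.g ≫ e₂.hom) = 0 := by
    simp only [Category.assoc, Iso.hom_inv_id_assoc]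
    rw [← Category.assoc, S₁.zero, zero_comp]
  refine ⟨S₁.f ≫ e₁.hom, e₁.inv ≫ S₁.g ≫ e₂.hom, hw, ?_, ?_⟩
  · let S₂ : ShortComplex C := ShortComplex.mk (S₁.f ≫ e₁.hom) (e₁.inv ≫ S₁.g ≫ e₂.hom) hw
    have e : S₁ ≅ S₂ := ShortComplex.isoMk (Iso.refl _) e₁ e₂ (by simp [S₂]) (by simp [S₂])
    exact ShortComplex.shortExact_of_iso e hS
  · have h1 : p₁ ≫ e₁.inv = cokernel.π (f ≫ i₂) :=
      IsColimit.comp_coconePointUniqueUpToIso_inv (cokernelIsCokernel (f ≫ i₂)) h₁
        WalkingParallelPair.one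
    have h2 : cokernel.π i₂ ≫ e₂.hom = p₂ :=
      IsColimit.comp_coconePointUniqueUpToIso_hom (cokernelIsCokernel i₂) h₂
        WalkingParallelPair.one
    rw [← Category.assoc, h1]
    change cokernel.π (f ≫ i₂) ≫ cokernel.map (f ≫ i₂) i₂ f (𝟙 _) (by simp) ≫ e₂.hom = p₂
    rw [← Category.assoc, cokernel.π_desc, Category.id_comp]
    exact h2

end abelian

section sheaf

variable {X : Scheme.{u}}

/-- for ideal sheaves `D' ≤ D`, a short exact sequence `0 ⟶ D / D' ⟶ O / D' ⟶ O / D ⟶ 0` whose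
second map is compatible with the projections from `O`. -/
theorem exists_shortExact_quot' {D' D : X.IdealSheafData} (hle : D' ≤ D) :
    ∃ (a : cokernel (idealModIncl hle) ⟶ ClSub.quotMod D')
      (b : ClSub.quotMod D' ⟶ ClSub.quotMod D) (w : a ≫ b = 0),
      (ShortComplex.mk a b w).ShortExact ∧ ClSub.toSubscheme D' ≫ b = ClSub.toSubscheme D := by
  haveI : Mono (ClSub.idealModι D) := inferInstanceAs (Mono (kernel.ι (ClSub.toSubscheme D)))
  have key : ∀ (i₁ : ClSub.idealMod D' ⟶ unitMod X)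
      (_ : i₁ = idealModIncl hle ≫ ClSub.idealModι D)
      (w₁ : i₁ ≫ ClSub.toSubscheme D' = 0)
      (_ : IsColimit (CokernelCofork.ofπ (ClSub.toSubscheme D') w₁)),
      ∃ (a : cokernel (idealModIncl hle) ⟶ ClSub.quotMod D')
        (b : ClSub.quotMod D' ⟶ ClSub.quotMod D) (w : a ≫ b = 0),
        (ShortComplex.mk a b w).ShortExact ∧
          ClSub.toSubscheme D' ≫ b = ClSub.toSubscheme D := by
    intro i₁ h w₁ h₁
    subst h
    exact exists_shortExact_of_two' (idealModIncl hle) (ClSub.idealModι D)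
      (ClSub.toSubscheme D') (ClSub.toSubscheme D) w₁ (kernel.condition (ClSub.toSubscheme D)) h₁
      (shortExact_idealMod D).gIsCokernel
  exact key (ClSub.idealModι D') (idealModIncl_ι hle).symm _ (shortExact_idealMod D').gIsCokernel

/-- a morphism `i'_* O_{Z'} ⟶ i_* O_Z` compatible with the projections from `O_X` is, on global
sections, the pullback of functions along `j : Z ⟶ Z'`. -/
theorem app_top_eq_of_fac {Z Z' : Scheme.{u}} (ι' : Z' ⟶ X) (j : Z ⟶ Z') (ι : Z ⟶ X)
    (h : j ≫ ι' = ι) [Epi (ClSub.unitToPush ι')]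
    (b : (Scheme.Modules.pushforward ι').obj (Coh.structureModule Z') ⟶
      (Scheme.Modules.pushforward ι).obj (Coh.structureModule Z))
    (hb : ClSub.unitToPush ι' ≫ b = ClSub.unitToPush ι) (s : Γ(Z', ⊤)) :
    b.app ⊤ (show Γ(Z', ι' ⁻¹ᵁ ⊤) from s) = (show Γ(Z, ι ⁻¹ᵁ ⊤) from j.appTop.hom s) := by
  subst h
  let β : (Scheme.Modules.pushforward ι').obj (Coh.structureModule Z') ⟶
      (Scheme.Modules.pushforward (j ≫ ι')).obj (Coh.structureModule Z) :=
    (Scheme.Modules.pushforward ι').map (ClSub.unitToPush j) ≫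
      (Scheme.Modules.pushforwardComp j ι').hom.app _
  have hβ : ClSub.unitToPush ι' ≫ β = ClSub.unitToPush (j ≫ ι') := by
    ext U t
    rfl
  have : b = β := by
    rw [← cancel_epi (ClSub.unitToPush ι'), hb, hβ]
  rw [this]
  rfl

end sheaf

section step

variable {R : Type u} [CommRing R] [IsDomain R] [IsDiscreteValuationRing R]
  {X : Over (Spec (CommRingCat.of R))}

/-- **the step**: if the invertible ideal sheaf `D` has negative degree on the vertical prime
divisor `Γ`, then restriction of functions from `D + Γ` to `D` is injective. -/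
theorem injective_inclusion_appTop (hp : IsProper X.hom) (Γ : ArSurf.VertComp R X)
    (D : X.left.IdealSheafData) (hDinv : PicF.IsInvertible (ClSub.idealMod D))
    (hle : Γ.ι.ker * D ≤ D)
    (hdeg : haveI : IsProper (Γ.curve.left ↘ Spec (CommRingCat.of (IsLocalRing.ResidueField R))) :=
        isProper_curve_hom hp Γ
      pdeg (IsLocalRing.ResidueField R) Γ.ι (ClSub.idealMod D) < 0) :
    Function.Injective (Scheme.IdealSheafData.inclusion hle).appTop.hom := by
  set k := IsLocalRing.ResidueField R with hk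
  haveI : IsProper (Γ.curve.left ↘ Spec (CommRingCat.of k)) := isProper_curve_hom hp Γ
  obtain ⟨f₁, b, w, hS, hb⟩ := exists_shortExact_quot' hle
  obtain ⟨eQ⟩ := nonempty_cokernel_iso_tensor Γ.ι.ker D hDinv hle
  have hlen : Module.length R (Coh.HH X.left (cokernel (idealModIncl hle)) 0) = 0 := by
    rw [(RS.HHequiv R eQ 0).length_eq, length_HH_tensor_quotMod hp Γ (ClSub.idealMod D) hDinv 0]
    have := Groth.Agent.H5.Gro.Ell.finrank_H0_eq_zero_of_deg_neg k (dim_curve_le Γ) _
      (isInvertible_pullback Γ.ι hDinv) hdeg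
    rw [this]
    rfl
  haveI hsub : Subsingleton (Coh.HH X.left (cokernel (idealModIncl hle)) 0) :=
    Module.length_eq_zero_iff.mp hlen
  -- injectivity on `H⁰`
  have hinj0 : Function.Injective (CL.HHmap R b 0) := by
    rw [injective_iff_map_eq_zero]
    intro x hx
    obtain ⟨y, hy⟩ := CL.exact₂ hS R 0 x hx
    rw [← hy, Subsingleton.elim y 0, map_zero]
  -- injectivity on global sections
  have hinj1 : ∀ s : Γ(ClSub.quotMod (Γ.ι.ker * D), ⊤), b.app ⊤ s = 0 → s = 0 := by
    intro s hs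
    have h1 := CL.HH0Equiv_map b ((CL.HH0Equiv _).symm s)
    rw [AddEquiv.apply_symm_apply, hs] at h1
    have h2 : CL.HHmapZ b 0 ((CL.HH0Equiv _).symm s) = 0 :=
      (CL.HH0Equiv _).injective (h1.trans (map_zero _).symm)
    have h3 : (CL.HH0Equiv _).symm s = 0 := hinj0 (h2.trans (map_zero _).symm)
    have := congrArg (CL.HH0Equiv _) h3
    rwa [AddEquiv.apply_symm_apply, map_zero] at this
  haveI : Epi (ClSub.unitToPush (Γ.ι.ker * D).subschemeι) :=
    (shortExact_idealMod (Γ.ι.ker * D)).epi_g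
  rw [injective_iff_map_eq_zero]
  intro s hs
  have key := app_top_eq_of_fac (Γ.ι.ker * D).subschemeι (Scheme.IdealSheafData.inclusion hle)
    D.subschemeι (Scheme.IdealSheafData.inclusion_subschemeι hle) b hb s
  rw [hs] at key
  exact hinj1 s key

end step

end Groth.Agent.H5.ArS
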