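import Mathlib
import Groth.Agent.Lib.Helper5.ArS.StepInj
import Groth.Agent.Lib.Helper5.ArS.ChainComb
import Groth.Agent.Lib.Helper5.ArS.FibKer
import Groth.Agent.Lib.Helper5.ArS.NegSemi
import Groth.Agent.Lib.Helper5.Glue.F

/-!
# The chain of vertical divisors with fields of global functions (S3323)
-/

set_option autoImplicit false
set_option linter.style.haveILetI false
universe u
open CategoryTheory CategoryTheory.Limits AlgebraicGeometry TopologicalSpace Opposite

namespace Groth.Agent.H5.ArS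

open Groth.Agent.LD Groth.Agent.LD.QC Groth.Agent.H5.LinEq Groth.Agent.H5.DegC

section finite

/-- global functions of a proper scheme over a Noetherian ring are a finite module over the
base. -/
theorem finite_toGlobal {A : Type u} [CommRing A] [IsNoetherianRing A] (X : Scheme.{u})
    (p : X ⟶ Spec (CommRingCat.of A)) [IsProper p] :
    (p.appTop.hom.comp (Scheme.ΓSpecIso (CommRingCat.of A)).inv.hom).Finite := by
  letI : X.Over (Spec (CommRingCat.of A)) := ⟨p⟩
  haveI : IsProper (X ↘ Spec (CommRingCat.of A)) := ‹IsProper p›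
  haveI : LocallyOfFiniteType p := inferInstance
  haveI : IsLocallyNoetherian X := LocallyOfFiniteType.isLocallyNoetherian p
  haveI hfin : Module.Finite A (Coh.HH X (Coh.structureModule X) 0) :=
    Groth.Agent.S0002.result A X (Coh.structureModule X) (Groth.Agent.LD.PF.isCoh_unitMod X) 0
  letI : Algebra A Γ(X, ⊤) := (Coh.toGlobal p).toAlgebra
  let e : Coh.HH X (Coh.structureModule X) 0 ≃ₗ[A] Γ(X, ⊤) :=
    { CL.HH0Equiv (Coh.structureModule X) with
      map_smul' := fun c x =>
        CL.HH0Equiv_smul (Coh.structureModule X) (Coh.toGlobal p c) x }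
  exact (Module.Finite.equiv e : Module.Finite A Γ(X, ⊤))

end finite

variable {R : Type u} [CommRing R] [IsDomain R] [IsDiscreteValuationRing R]
  {X : Over (Spec (CommRingCat.of R))}

/-- if restriction of functions to a smaller closed subscheme with a field of global functions
is injective, the larger closed subscheme has a field of global functions. -/
theorem isField_of_injective_inclusion (hp : IsProper X.hom) {D' D : X.left.IdealSheafData}
    (hle : D' ≤ D)
    (hinj : Function.Injective (Scheme.IdealSheafData.inclusion hle).appTop.hom)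
    (hF : IsField Γ(D.subscheme, ⊤)) : IsField Γ(D'.subscheme, ⊤) := by
  haveI : IsProper (D.subschemeι ≫ X.hom) := inferInstance
  set inc := Scheme.IdealSheafData.inclusion hle with hinc
  have hfac : inc ≫ D'.subschemeι = D.subschemeι := Scheme.IdealSheafData.inclusion_subschemeι hle
  have hcomp : Coh.toGlobal (D.subschemeι ≫ X.hom) =
      inc.appTop.hom.comp (Coh.toGlobal (D'.subschemeι ≫ X.hom)) := by
    unfold Coh.toGlobal
    rw [← hfac, Category.assoc, Scheme.Hom.comp_appTop inc]
    rfl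
  letI : Algebra Γ(D'.subscheme, ⊤) Γ(D.subscheme, ⊤) := inc.appTop.hom.toAlgebra
  haveI : Algebra.IsIntegral Γ(D'.subscheme, ⊤) Γ(D.subscheme, ⊤) := by
    refine ⟨fun b => ?_⟩
    obtain ⟨P, hP, hPe⟩ := isIntegralElem_toGlobal D.subscheme (D.subschemeι ≫ X.hom) b
    refine ⟨P.map (Coh.toGlobal (D'.subschemeι ≫ X.hom)), hP.map _, ?_⟩
    rw [Polynomial.eval₂_map]
    rw [hcomp] at hPe
    exact hPe
  exact isField_of_isIntegral_of_isField (R := Γ(D'.subscheme, ⊤)) (S := Γ(D.subscheme, ⊤))
    hinj hF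

/-- the global functions of a vertical prime divisor form a field. -/
theorem isField_ker_subscheme (hp : IsProper X.hom) (Γ : ArSurf.VertComp R X) :
    IsField Γ(Γ.ι.ker.subscheme, ⊤) := by
  haveI : IsProper Γ.curve.hom := isProper_curve_hom hp Γ
  have h := isField_of_universallyClosed (IsLocalRing.ResidueField R) Γ.curve.hom
  let e : Γ(Γ.ι.ker.subscheme, ⊤) ≃+* Γ(Γ.curve.left, ⊤) :=
    (Scheme.Γ.mapIso (asIso Γ.ι.toImage).op).commRingCatIsoToRingEquiv
  exact e.toMulEquiv.isField h

/-- every point of the closed fibre lies on a listed component. -/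
theorem exists_mem_range_of_mem_specialFibreSet {n : ℕ} (Γ : Fin n → ArSurf.VertComp R X)
    (hΓ : Models.IsComponentList R X Γ) (x : X.left) (hx : x ∈ Models.specialFibreSet R X) :
    ∃ i, x ∈ Set.range (Γ i).ι := by
  have hclF : closure {x} ⊆ Models.specialFibreSet R X :=
    (Models.isClosed_specialFibreSet R X).closure_subset_iff.mpr
      (Set.singleton_subset_iff.mpr hx)
  obtain ⟨T, hxT, hT⟩ := exists_maximal_irreducible_subset (Models.specialFibreSet R X)
    (closure {x}) isIrreducible_singleton.closure hclF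
  have hTmem : T ∈ Models.fibreComponents R X := hT
  rw [← hΓ.2] at hTmem
  obtain ⟨i, rfl⟩ := hTmem
  exact ⟨i, hxT (subset_closure rfl)⟩

section main

variable [Flat X.hom] [IsLocallyNoetherian X.left] (hp : IsProper X.hom)
  (hreg : Models.IsRegularScheme X.left)
  {n : ℕ} (Γ : Fin n → ArSurf.VertComp R X) (hΓ : Models.IsComponentList R X Γ)
include hp hreg hΓ

/-- **S3323** (general form): the chain of effective vertical divisors from the reduced closed
fibre to `Σ (m_i/d) Γ_i`, all of whose members have a field of global functions. -/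
theorem exists_chain_fields (hconn : _root_.IsConnected (Models.specialFibreSet R X)) :
    ∃ (s : ℕ) (a : Fin (s + 1) → Fin n → ℕ), (a 0 = fun _ => 1) ∧
      (a (Fin.last s) = fun i => Models.mult R X (Γ i) / Models.multGcd R X Γ) ∧
      (∀ j : Fin s, ∃ i, a j.succ = a j.castSucc + Pi.single i 1) ∧
      ∀ j, IsField ↑(Γ((∏ i, (Γ i).ι.ker ^ a j i).subscheme, ⊤)) := by
  classical
  set k := IsLocalRing.ResidueField R with hk
  have hI : ∀ j, BlowUp.IsEffCartierIdeal (Γ j).ι.ker := fun j => isEffCartierIdeal_ker hreg Γ hΓ j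
  have hex : ∀ j, ∃ L : X.left.Modules, ClSub.IsInverseOf L (ClSub.idealMod (Γ j).ι.ker) := by
    intro j
    obtain ⟨L', -, ⟨e⟩⟩ := Groth.Agent.H5.Glue.exists_inverse (ClSub.idealMod (Γ j).ι.ker)
      ((isInvertible_idealMod_iff _).mpr (hI j))
    exact ⟨L', ⟨tensorCommGen _ _ ≪≫ e⟩⟩
  choose L hL using hex
  set M : Fin n → Fin n → ℤ := fun i j => ArSurf.inter R X (L j) (Γ i) with hM
  set F : (Fin n → ℕ) → Prop := fun a =>
    IsField ↑(Γ((∏ i, (Γ i).ι.ker ^ a i).subscheme, ⊤)) with hF
  have h0 : ∀ i j, M i j = M j i := by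
    intro i j
    by_cases hij : i = j
    · subst hij; rfl
    · exact (inter_offdiag hp Γ hΓ L hL i j hij).1
  have h1 : ∀ i j, i ≠ j → 0 ≤ M i j := fun i j hij => (inter_offdiag hp Γ hΓ L hL i j hij).2.1
  have h3 : ∀ S : Finset (Fin n), S.Nonempty → (∀ i ∈ S, ∀ j ∉ S, M i j = 0) →
      S = Finset.univ :=
    fun S hS h => indecomposable_of_isPreconnected hp Γ hΓ L hL hconn.isPreconnected S hS h
  obtain ⟨x, hx⟩ := hconn.nonempty
  obtain ⟨i₀, -⟩ := exists_mem_range_of_mem_specialFibreSet Γ hΓ x hx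
  have hn : 0 < n := Nat.pos_of_ne_zero (fun h => by subst h; exact i₀.elim0)
  -- the step
  have hstep : ∀ (a : Fin n → ℕ) (i : Fin n), F a → 0 < ∑ j, (a j : ℤ) * M i j →
      F (a + Pi.single i 1) := by
    intro a i hFa hpos
    haveI : IsProper ((Γ i).curve.left ↘ Spec (CommRingCat.of k)) := isProper_curve_hom hp (Γ i)
    obtain ⟨hDc, hdeg⟩ := pdeg_idealMod_prod k (Γ i).ι (dim_curve_le (Γ i)) Finset.univ
      (fun j => (Γ j).ι.ker) hI a
    set D : X.left.IdealSheafData := ∏ j, (Γ j).ι.ker ^ a j with hD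
    have hDinv : PicF.IsInvertible (ClSub.idealMod D) := (isInvertible_idealMod_iff D).mpr hDc
    have hD'eq : (∏ j, (Γ j).ι.ker ^ ((a + Pi.single i 1 : Fin n → ℕ) j)) = (Γ i).ι.ker * D := by
      rw [hD, mul_comm]
      have h1 : ∀ j : Fin n, (Γ j).ι.ker ^ ((a + Pi.single i 1 : Fin n → ℕ) j) =
          (Γ j).ι.ker ^ a j * (if j = i then (Γ j).ι.ker else 1) := by
        intro j
        rw [Pi.add_apply, pow_add, Pi.single_apply]
        split_ifs <;> simp
      rw [Finset.prod_congr rfl (fun j _ => h1 j), Finset.prod_mul_distrib,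
        Finset.prod_ite_eq' Finset.univ i (fun j => (Γ j).ι.ker)]
      simp
    have hle : (Γ i).ι.ker * D ≤ D := by
      calc (Γ i).ι.ker * D ≤ 1 * D := mul_le_mul_left (show (Γ i).ι.ker ≤ 1 from le_top) D
        _ = D := one_mul D
    have hinter : ∀ j, pdeg k (Γ i).ι (ClSub.idealMod (Γ j).ι.ker) = - M i j := by
      intro j
      change _ = - ArSurf.inter R X (L j) (Γ i)
      rw [inter_eq_neg_pdeg hp (Γ i) (Γ j).ι.ker (hI j) (L j) (hL j), neg_neg]
    have hdegneg : pdeg k (Γ i).ι (ClSub.idealMod D) < 0 := by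
      rw [hdeg]
      simp only [hinter]
      have : ∑ j, (a j : ℤ) * -M i j = -∑ j, (a j : ℤ) * M i j := by
        rw [← Finset.sum_neg_distrib]
        exact Finset.sum_congr rfl (fun j _ => by ring)
      rw [this]
      omega
    have hinj := injective_inclusion_appTop hp (Γ i) D hDinv hle hdegneg
    change IsField ↑(Γ((∏ j, (Γ j).ι.ker ^ ((a + Pi.single i 1 : Fin n → ℕ) j)).subscheme, ⊤))
    rw [hD'eq]
    exact isField_of_injective_inclusion hp hle hinj hFa
  have hsingle : ∀ i, F (Pi.single i 1) := by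
    intro i
    have hprod : (∏ j, (Γ j).ι.ker ^ ((Pi.single i 1 : Fin n → ℕ) j)) = (Γ i).ι.ker := by
      have h1 : ∀ j : Fin n, (Γ j).ι.ker ^ ((Pi.single i 1 : Fin n → ℕ) j) =
          (if j = i then (Γ j).ι.ker else 1) := by
        intro j
        rw [Pi.single_apply]
        split_ifs <;> simp
      rw [Finset.prod_congr rfl (fun j _ => h1 j),
        Finset.prod_ite_eq' Finset.univ i (fun j => (Γ j).ι.ker)]
      simp
    change IsField ↑(Γ((∏ j, (Γ j).ι.ker ^ ((Pi.single i 1 : Fin n → ℕ) j)).subscheme, ⊤))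
    rw [hprod]
    exact isField_ker_subscheme hp (Γ i)
  have hbase : F fun _ => 1 :=
    ones_of_connected F M hn h0 h1 h3 hsingle (fun a i _ hFa hpos => hstep a i hFa hpos)
  -- the multiplicities
  set d := Models.multGcd R X Γ with hd
  have hmpos : ∀ i, 0 < Models.mult R X (Γ i) := by
    intro i
    refine mult_pos_of_mem hreg (Γ i) ?_
    rw [← hΓ.2]
    exact ⟨i, rfl⟩
  have hddvd : ∀ i, d ∣ Models.mult R X (Γ i) := fun i => Finset.gcd_dvd (Finset.mem_univ i)
  have hdpos : 0 < d := Nat.pos_of_dvd_of_pos (hddvd i₀) (hmpos i₀)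
  set m' : Fin n → ℕ := fun i => Models.mult R X (Γ i) / d with hm'
  have hm'pos : ∀ i, 0 < m' i :=
    fun i => Nat.div_pos (Nat.le_of_dvd (hmpos i) (hddvd i)) hdpos
  have hg : Finset.univ.gcd m' = 1 :=
    Finset.gcd_div_eq_one (Finset.mem_univ i₀) (hmpos i₀).ne'
  have h2 : ∀ i, ∑ j, (m' j : ℤ) * M i j = 0 := by
    intro i
    have h := sum_mult_inter_eq_zero hp hreg Γ hΓ L hL (Γ i)
    have h' : (d : ℤ) * ∑ j, (m' j : ℤ) * M i j = 0 := by
      rw [Finset.mul_sum, ← h]
      refine Finset.sum_congr rfl (fun j _ => ?_)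
      have : (Models.mult R X (Γ j) : ℤ) = (d : ℤ) * (m' j : ℤ) := by
        rw [hm']
        exact_mod_cast (Nat.mul_div_cancel' (hddvd j)).symm
      change (d : ℤ) * ((m' j : ℤ) * ArSurf.inter R X (L j) (Γ i)) = _
      rw [this]
      ring
    have hd0 : (d : ℤ) ≠ 0 := by exact_mod_cast hdpos.ne'
    exact (mul_eq_zero.mp h').resolve_left hd0
  exact exists_chain F M m' hm'pos hg h1 h2 h3 hbase
    (fun a i _ _ hFa hpos => hstep a i hFa hpos)

end main

end Groth.Agent.H5.ArS
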