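import Mathlib

/-!
# A potential for the Euler characteristics of vertical divisors (pure combinatorics)
-/

set_option autoImplicit false

namespace Groth.Agent.H5.ArS

/-- induction on `Fin n → ℕ` below a bound, adding one unit vector at a time. -/
theorem pi_nat_induction_le {n : ℕ} (m : Fin n → ℕ) (P : (Fin n → ℕ) → Prop) (h0 : P 0)
    (hs : ∀ (a : Fin n → ℕ) (i : Fin n), (∀ j, a j + (if j = i then 1 else 0) ≤ m j) → P a →
      P (fun j => a j + if j = i then 1 else 0)) :
    ∀ a : Fin n → ℕ, (∀ j, a j ≤ m j) → P a := by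
  have key : ∀ (s : ℕ) (a : Fin n → ℕ), ∑ j, a j = s → (∀ j, a j ≤ m j) → P a := by
    intro s
    induction s with
    | zero =>
      intro a ha _
      have : a = 0 := by
        funext j
        exact (Finset.sum_eq_zero_iff.mp ha) j (Finset.mem_univ j)
      rw [this]
      exact h0
    | succ s ih =>
      intro a ha hle
      have hex : ∃ i, 0 < a i := by
        by_contra hcon
        push Not at hcon
        have : ∑ j, a j = 0 := Finset.sum_eq_zero (fun j _ => Nat.le_zero.mp (hcon j))
        omega
      obtain ⟨i, hi⟩ := hex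
      set b : Fin n → ℕ := fun j => a j - if j = i then 1 else 0 with hb
      have hab : a = fun j => b j + if j = i then 1 else 0 := by
        funext j
        simp only [hb]
        split_ifs with h
        · subst h; omega
        · omega
      have hsum : ∑ j, b j = s := by
        have h1 : ∑ j, a j = ∑ j, b j + ∑ j, (if j = i then 1 else 0) := by
          rw [← Finset.sum_add_distrib]
          exact Finset.sum_congr rfl (fun j _ => congrFun hab j)
        rw [Finset.sum_ite_eq' Finset.univ i (fun _ => 1)] at h1
        simp at h1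
        omega
      have hble : ∀ j, b j ≤ m j := fun j => (Nat.sub_le _ _).trans (hle j)
      rw [hab]
      refine hs b i (fun j => ?_) (ih b hsum hble)
      have := congrFun hab j
      rw [← this]
      exact hle j
  intro a ha
  exact key _ a rfl ha

/-- unbounded version. -/
theorem pi_nat_induction {n : ℕ} (P : (Fin n → ℕ) → Prop) (h0 : P 0)
    (hs : ∀ (a : Fin n → ℕ) (i : Fin n), P a → P (fun j => a j + if j = i then 1 else 0)) :
    ∀ a : Fin n → ℕ, P a := fun a =>
  pi_nat_induction_le a P h0 (fun b i _ hb => hs b i hb) a (fun _ => le_rfl)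

/-- a function on effective divisors whose increments are given by a symmetric bilinear form is
the corresponding quadratic potential. -/
theorem potential {n : ℕ} (A : Fin n → Fin n → ℤ) (hA : ∀ i j, A i j = A j i) (c : Fin n → ℤ)
    (m : Fin n → ℕ) (χ : (Fin n → ℕ) → ℤ) (h0 : χ 0 = 0)
    (hs : ∀ (a : Fin n → ℕ) (i : Fin n), (∀ j, a j + (if j = i then 1 else 0) ≤ m j) →
      χ (fun j => a j + if j = i then 1 else 0) - χ a = -(∑ j, (a j : ℤ) * A i j) + c i) :
    ∀ a : Fin n → ℕ, (∀ j, a j ≤ m j) →
      2 * χ a = 2 * ∑ i, (a i : ℤ) * c i - ∑ i, ∑ j, (a i : ℤ) * (a j : ℤ) * A i j +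
        ∑ i, (a i : ℤ) * A i i := by
  refine pi_nat_induction_le m _ ?_ ?_
  · simp [h0]
  · intro a i hle ih
    have hstep := hs a i hle
    have hχ : χ (fun j => a j + if j = i then 1 else 0) =
        χ a + (-(∑ j, (a j : ℤ) * A i j) + c i) := by linarith
    rw [hχ, mul_add, ih]
    have e1 : ∀ j : Fin n, (((a j + if j = i then 1 else 0 : ℕ)) : ℤ) =
        (a j : ℤ) + if j = i then 1 else 0 := by
      intro j
      split_ifs <;> simp
    simp only [e1]
    have s1 : ∑ j, ((a j : ℤ) + if j = i then 1 else 0) * c j = ∑ j, (a j : ℤ) * c j + c i := by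
      simp only [add_mul, Finset.sum_add_distrib, ite_mul, one_mul, zero_mul]
      rw [Finset.sum_ite_eq' Finset.univ i (fun j => c j)]
      simp
    have s3 : ∑ j, ((a j : ℤ) + if j = i then 1 else 0) * A j j =
        ∑ j, (a j : ℤ) * A j j + A i i := by
      simp only [add_mul, Finset.sum_add_distrib, ite_mul, one_mul, zero_mul]
      rw [Finset.sum_ite_eq' Finset.univ i (fun j => A j j)]
      simp
    have s2 : ∑ j, ∑ l, ((a j : ℤ) + if j = i then 1 else 0) *
        ((a l : ℤ) + if l = i then 1 else 0) * A j l =
        ∑ j, ∑ l, (a j : ℤ) * (a l : ℤ) * A j l + 2 * ∑ l, (a l : ℤ) * A i l + A i i := by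
      have inner : ∀ j : Fin n, ∑ l, ((a j : ℤ) + if j = i then 1 else 0) *
          ((a l : ℤ) + if l = i then 1 else 0) * A j l =
          ((a j : ℤ) + if j = i then 1 else 0) * (∑ l, (a l : ℤ) * A j l + A j i) := by
        intro j
        have : ∑ l, ((a l : ℤ) + if l = i then 1 else 0) * A j l =
            ∑ l, (a l : ℤ) * A j l + A j i := by
          simp only [add_mul, Finset.sum_add_distrib, ite_mul, one_mul, zero_mul]
          rw [Finset.sum_ite_eq' Finset.univ i (fun l => A j l)]
          simp
        rw [← this, Finset.mul_sum]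
        exact Finset.sum_congr rfl (fun l _ => by ring)
      rw [Finset.sum_congr rfl (fun j _ => inner j)]
      have outer : ∑ j, ((a j : ℤ) + if j = i then 1 else 0) *
          (∑ l, (a l : ℤ) * A j l + A j i) =
          ∑ j, (a j : ℤ) * (∑ l, (a l : ℤ) * A j l + A j i) +
            (∑ l, (a l : ℤ) * A i l + A i i) := by
        simp only [add_mul (a _ : ℤ), Finset.sum_add_distrib, ite_mul, one_mul, zero_mul]
        rw [Finset.sum_ite_eq' Finset.univ i (fun j => ∑ l, (a l : ℤ) * A j l + A j i)]
        simp
      rw [outer]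
      have h3 : ∑ j, (a j : ℤ) * (∑ l, (a l : ℤ) * A j l + A j i) =
          ∑ j, ∑ l, (a j : ℤ) * (a l : ℤ) * A j l + ∑ l, (a l : ℤ) * A i l := by
        simp only [mul_add, Finset.sum_add_distrib, Finset.mul_sum]
        congr 1
        · exact Finset.sum_congr rfl (fun j _ => Finset.sum_congr rfl (fun l _ => by ring))
        · exact Finset.sum_congr rfl (fun l _ => by rw [hA l i])
      rw [h3]
      ring
    rw [s1, s2, s3]
    ring

end Groth.Agent.H5.ArS
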