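import Mathlib
import Groth.Agent.Lib.Lead.Alg.EulerLES

/-!
# Multiplication by a uniformizer on a finite module over a discrete valuation ring:
`length (M / ϖ M) = length (M[ϖ]) + rank M`
-/

set_option autoImplicit false
universe u v

namespace Groth.Agent.H5.ArS

open Groth.Agent.LD

section general

variable {R : Type u} [CommRing R] {M : Type v} [AddCommGroup M] [Module R M]

/-- multiplication by a scalar. -/
abbrev mulBy (M : Type v) [AddCommGroup M] [Module R M] (a : R) : M →ₗ[R] M :=
  LinearMap.lsmul R M a

/-- **the snake lemma for a saturated submodule of finite length**. -/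
theorem length_quot_range_mulBy_of_saturated (a : R) (T : Submodule R M)
    (hsat : ∀ x : M, a • x ∈ T → x ∈ T) (hT : Module.length R T ≠ ⊤) :
    Module.length R (M ⧸ LinearMap.range (mulBy M a)) =
      Module.length R (LinearMap.ker (mulBy M a)) +
        Module.length R ((M ⧸ T) ⧸ LinearMap.range (mulBy (M ⧸ T) a)) := by
  -- the map `M / aM → Q / aQ`
  have hle : LinearMap.range (mulBy M a) ≤
      (LinearMap.range (mulBy (M ⧸ T) a)).comap T.mkQ := by
    rintro _ ⟨y, rfl⟩
    exact ⟨T.mkQ y, by simp⟩
  let ρ : (M ⧸ LinearMap.range (mulBy M a)) →ₗ[R]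
      ((M ⧸ T) ⧸ LinearMap.range (mulBy (M ⧸ T) a)) :=
    Submodule.mapQ _ _ T.mkQ hle
  have hρsurj : Function.Surjective ρ := by
    intro z
    obtain ⟨q, rfl⟩ := Submodule.mkQ_surjective _ z
    obtain ⟨m, rfl⟩ := Submodule.mkQ_surjective _ q
    exact ⟨Submodule.Quotient.mk m, rfl⟩
  let φ : T →ₗ[R] (M ⧸ LinearMap.range (mulBy M a)) :=
    (LinearMap.range (mulBy M a)).mkQ.comp T.subtype
  have hker : LinearMap.ker ρ = LinearMap.range φ := by
    ext z
    obtain ⟨m, rfl⟩ := Submodule.mkQ_surjective _ z
    rw [LinearMap.mem_ker, LinearMap.mem_range]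
    constructor
    · intro h
      have h1 : (LinearMap.range (mulBy (M ⧸ T) a)).mkQ (T.mkQ m) = 0 := h
      rw [Submodule.mkQ_apply, Submodule.Quotient.mk_eq_zero] at h1
      obtain ⟨q, hq⟩ := h1
      obtain ⟨y, rfl⟩ := Submodule.mkQ_surjective _ q
      have h2 : m - a • y ∈ T := by
        have : T.mkQ (m - a • y) = 0 := by
          rw [map_sub, map_smul]
          rw [← hq]
          simp
        rwa [Submodule.mkQ_apply, Submodule.Quotient.mk_eq_zero] at this
      refine ⟨⟨m - a • y, h2⟩, ?_⟩
      change (LinearMap.range (mulBy M a)).mkQ (m - a • y) = _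
      rw [map_sub]
      have : (LinearMap.range (mulBy M a)).mkQ (a • y) = 0 := by
        rw [Submodule.mkQ_apply, Submodule.Quotient.mk_eq_zero]
        exact ⟨y, rfl⟩
      rw [this, sub_zero]
    · rintro ⟨t, ht⟩
      rw [← ht]
      change (LinearMap.range (mulBy (M ⧸ T) a)).mkQ (T.mkQ (t : M)) = 0
      have : T.mkQ (t : M) = 0 := by simp
      rw [this, map_zero]
  have h1 := Alg.length_eq_ker_add_range ρ
  have hrange : Module.length R (LinearMap.range ρ) =
      Module.length R ((M ⧸ T) ⧸ LinearMap.range (mulBy (M ⧸ T) a)) := by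
    rw [LinearMap.range_eq_top.mpr hρsurj, Module.length_top]
  rw [hrange, hker] at h1
  -- the kernel of `φ` is `a T`
  have hkerφ : LinearMap.ker φ = LinearMap.range (mulBy T a) := by
    ext t
    rw [LinearMap.mem_ker, LinearMap.mem_range]
    constructor
    · intro h
      have h' : (LinearMap.range (mulBy M a)).mkQ (t : M) = 0 := h
      rw [Submodule.mkQ_apply, Submodule.Quotient.mk_eq_zero] at h'
      obtain ⟨m, hm⟩ := h'
      have hm' : a • m = (t : M) := hm
      have hmT : m ∈ T := hsat m (hm' ▸ t.2)
      exact ⟨⟨m, hmT⟩, Subtype.ext hm'⟩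
    · rintro ⟨s, rfl⟩
      change (LinearMap.range (mulBy M a)).mkQ ((a • s : T) : M) = 0
      rw [Submodule.mkQ_apply, Submodule.Quotient.mk_eq_zero]
      exact ⟨(s : M), rfl⟩
  have h2 := Alg.length_eq_ker_add_range φ
  have h3 := Alg.length_eq_ker_add_range (mulBy T a)
  rw [hkerφ] at h2
  -- cancellation
  have hfin : Module.length R (LinearMap.range (mulBy T a)) ≠ ⊤ := by
    intro h
    apply hT
    rw [h3, h, add_top]
  have h4 : Module.length R (LinearMap.ker (mulBy T a)) = Module.length R (LinearMap.range φ) := by
    have : Module.length R (LinearMap.range (mulBy T a)) +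
        Module.length R (LinearMap.ker (mulBy T a)) =
        Module.length R (LinearMap.range (mulBy T a)) + Module.length R (LinearMap.range φ) := by
      rw [add_comm, ← h3, h2]
    exact ENat.add_right_injective_of_ne_top hfin this
  -- the kernels agree
  have h5 : Module.length R (LinearMap.ker (mulBy T a)) =
      Module.length R (LinearMap.ker (mulBy M a)) := by
    let f : LinearMap.ker (mulBy T a) →ₗ[R] LinearMap.ker (mulBy M a) :=
      LinearMap.codRestrict _ (T.subtype.comp (LinearMap.ker (mulBy T a)).subtype) (by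
        intro t
        rw [LinearMap.mem_ker]
        have := t.2
        rw [LinearMap.mem_ker] at this
        change a • ((t : T) : M) = 0
        have h' : ((a • (t : T) : T) : M) = 0 := by
          change ((mulBy T a (t : T) : T) : M) = 0
          rw [this]; rfl
        exact h')
    have hf : Function.Bijective f := by
      constructor
      · intro s t hst
        have h := congrArg (fun z : LinearMap.ker (mulBy M a) => (z : M)) hst
        exact Subtype.ext (Subtype.ext h)
      · intro x
        have hx := x.2
        rw [LinearMap.mem_ker] at hx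
        have hxT : (x : M) ∈ T := hsat _ (by
          change mulBy M a (x : M) ∈ T
          rw [hx]; exact T.zero_mem)
        refine ⟨⟨⟨(x : M), hxT⟩, ?_⟩, Subtype.ext rfl⟩
        rw [LinearMap.mem_ker]
        exact Subtype.ext hx
    exact (LinearEquiv.ofBijective f hf).length_eq
  rw [h1, ← h4, h5]

end general

section dvr

variable {R : Type u} [CommRing R] [IsDomain R] [IsDiscreteValuationRing R]

/-- a finite module over a discrete valuation ring killed by a uniformizer has finite length. -/
theorem length_ne_top_of_smul_eq_zero' {N : Type v} [AddCommGroup N] [Module R N]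
    [Module.Finite R N] (ϖ : R) (hϖ : Irreducible ϖ) (h : ∀ x : N, ϖ • x = 0) :
    Module.length R N ≠ ⊤ := by
  have htors : Module.IsTorsionBySet R N (IsLocalRing.maximalIdeal R : Set R) := by
    intro x a
    obtain ⟨a, ha⟩ := a
    have ha' : a ∈ Ideal.span {ϖ} := hϖ.maximalIdeal_eq ▸ ha
    obtain ⟨b, hb⟩ := Ideal.mem_span_singleton'.mp ha'
    change a • x = 0
    rw [← hb, mul_smul, h, smul_zero]
  letI : Module (IsLocalRing.ResidueField R) N := htors.module
  haveI : IsScalarTower R (IsLocalRing.ResidueField R) N := htors.isScalarTower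
  haveI : Module.Finite (IsLocalRing.ResidueField R) N :=
    Module.Finite.of_restrictScalars_finite R _ N
  have h1 : Module.length R N = Module.length (IsLocalRing.ResidueField R) N :=
    Module.length_eq_of_surjective IsLocalRing.residue_surjective
  rw [h1, Module.length_eq_finrank]
  exact ENat.natCast_ne_top _

/-- a finite module over a discrete valuation ring killed by a power of a uniformizer has finite
length. -/
theorem length_ne_top_of_pow_smul_eq_zero (ϖ : R) (hϖ : Irreducible ϖ) :
    ∀ (n : ℕ) (T : Type v) [AddCommGroup T] [Module R T] [Module.Finite R T],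
      (∀ x : T, ϖ ^ n • x = 0) → Module.length R T ≠ ⊤ := by
  intro n
  induction n with
  | zero =>
    intro T _ _ _ h
    haveI : Subsingleton T := ⟨fun x y => by
      have hx := h x; have hy := h y
      rw [pow_zero, one_smul] at hx hy
      rw [hx, hy]⟩
    rw [Module.length_eq_zero]
    exact ENat.zero_ne_top
  | succ n ih =>
    intro T _ _ _ h
    haveI : IsNoetherian R T := inferInstance
    rw [Alg.length_eq_ker_add_range (mulBy T ϖ)]
    have h1 : Module.length R (LinearMap.ker (mulBy T ϖ)) ≠ ⊤ :=
      length_ne_top_of_smul_eq_zero' ϖ hϖ (fun x => by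
        have := x.2
        rw [LinearMap.mem_ker] at this
        exact Subtype.ext this)
    have h2 : Module.length R (LinearMap.range (mulBy T ϖ)) ≠ ⊤ :=
      ih _ (fun x => by
        obtain ⟨x, y, rfl⟩ := x
        apply Subtype.ext
        change ϖ ^ n • (ϖ • y) = 0
        rw [smul_smul, ← pow_succ]
        exact h y)
    exact WithTop.add_ne_top.mpr ⟨h1, h2⟩

/-- the torsion submodule of a finite module over a discrete valuation ring has finite
length. -/
theorem length_torsion_ne_top (M : Type v) [AddCommGroup M] [Module R M] [Module.Finite R M] :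
    Module.length R (Submodule.torsion R M) ≠ ⊤ := by
  obtain ⟨ϖ, hϖ⟩ := IsDiscreteValuationRing.exists_irreducible R
  haveI : IsNoetherian R M := inferInstance
  haveI : Module.Finite R (Submodule.torsion R M) := inferInstance
  obtain ⟨a, ha, ha0⟩ := Submodule.annihilator_top_inter_nonZeroDivisors
    (Submodule.torsion_isTorsion (R := R) (M := M))
  have hane : a ≠ 0 := nonZeroDivisors.ne_zero ha0
  obtain ⟨n, u, hu⟩ := IsDiscreteValuationRing.eq_unit_mul_pow_irreducible hane hϖ
  refine length_ne_top_of_pow_smul_eq_zero ϖ hϖ n _ (fun x => ?_)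
  have h1 : a • x = 0 := (Submodule.mem_annihilator.mp ha) x Submodule.mem_top
  have h2 : (↑u⁻¹ : R) • (a • x) = 0 := by rw [h1, smul_zero]
  rw [smul_smul, hu, ← mul_assoc, Units.inv_mul, one_mul] at h2
  exact h2

/-- for a finite free module `Q`, `length (Q / ϖ Q) = rank Q`. -/
theorem length_quot_range_mulBy_of_free (ϖ : R) (hϖ : Irreducible ϖ) (Q : Type v)
    [AddCommGroup Q] [Module R Q] [Module.Free R Q] [Module.Finite R Q] :
    Module.length R (Q ⧸ LinearMap.range (mulBy Q ϖ)) = (Module.finrank R Q : ℕ∞) := by
  classical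
  let b := Module.Free.chooseBasis R Q
  let e : Q ≃ₗ[R] (Module.Free.ChooseBasisIndex R Q → R) := b.equivFun
  let p : Submodule R (Module.Free.ChooseBasisIndex R Q → R) :=
    Submodule.pi Set.univ (fun _ => (Ideal.span {ϖ} : Submodule R R))
  have hmap : (LinearMap.range (mulBy Q ϖ)).map (e : Q →ₗ[R] _) = p := by
    ext x
    rw [Submodule.mem_map, Submodule.mem_pi]
    constructor
    · rintro ⟨q, ⟨y, rfl⟩, rfl⟩ i -
      change e (ϖ • y) i ∈ Ideal.span {ϖ}
      rw [map_smul]
      exact Ideal.mem_span_singleton.mpr ⟨e y i, rfl⟩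
    · intro h
      have h' : ∀ i, ∃ c : R, x i = ϖ * c := fun i =>
        Ideal.mem_span_singleton.mp (h i (Set.mem_univ i))
      choose c hc using h'
      refine ⟨ϖ • e.symm c, ⟨e.symm c, rfl⟩, ?_⟩
      change e (ϖ • e.symm c) = x
      rw [map_smul, LinearEquiv.apply_symm_apply]
      funext i
      rw [Pi.smul_apply, smul_eq_mul, hc i]
  let e' := Submodule.Quotient.equiv (LinearMap.range (mulBy Q ϖ)) p e hmap
  let e'' := Submodule.quotientPi
    (fun _ : Module.Free.ChooseBasisIndex R Q => (Ideal.span {ϖ} : Submodule R R))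
  rw [(e'.trans e'').length_eq, Module.length_pi]
  have h1 : Module.length R (R ⧸ (Ideal.span {ϖ} : Submodule R R)) = 1 :=
    Ring.ord_of_irreducible hϖ
  rw [h1, mul_one, ENat.card_eq_coe_fintype_card, Module.finrank_eq_card_chooseBasisIndex]

/-- the rank of a finite module over a domain is the rank of its torsion free quotient. -/
theorem finrank_tensor_fractionRing (M : Type v) [AddCommGroup M] [Module R M]
    [Module.Finite R M] :
    Module.finrank (FractionRing R) (TensorProduct R (FractionRing R) M) =
      Module.finrank R (M ⧸ Submodule.torsion R M) := by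
  rw [(TensorProduct.isBaseChange R M (FractionRing R)).finrank_eq]
  have h1 := rank_quotient_add_rank_of_isDomain (Submodule.torsion R M)
  have h2 : Module.rank R (Submodule.torsion R M) = 0 := by
    rw [rank_eq_zero_iff]
    intro x
    obtain ⟨a, ha⟩ := (Submodule.mem_torsion_iff (x : M)).mp x.2
    exact ⟨a, nonZeroDivisors.ne_zero a.2, Subtype.ext ha⟩
  rw [h2, add_zero] at h1
  unfold Module.finrank
  rw [h1]

/-- **multiplication by a uniformizer on a finite module over a discrete valuation ring**:
`length (M / ϖ M) = length (M[ϖ]) + rank M`. -/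
theorem length_quot_range_mulBy (ϖ : R) (hϖ : Irreducible ϖ) (M : Type v) [AddCommGroup M]
    [Module R M] [Module.Finite R M] :
    Module.length R (M ⧸ LinearMap.range (mulBy M ϖ)) =
      Module.length R (LinearMap.ker (mulBy M ϖ)) +
        (Module.finrank (FractionRing R) (TensorProduct R (FractionRing R) M) : ℕ∞) := by
  have hsat : ∀ x : M, ϖ • x ∈ Submodule.torsion R M → x ∈ Submodule.torsion R M := by
    intro x hx
    obtain ⟨a, ha⟩ := (Submodule.mem_torsion_iff _).mp hx
    have hϖ0 : ϖ ∈ nonZeroDivisors R := mem_nonZeroDivisors_of_ne_zero hϖ.ne_zero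
    refine (Submodule.mem_torsion_iff _).mpr ⟨a * ⟨ϖ, hϖ0⟩, ?_⟩
    change ((a : R) * ϖ) • x = 0
    rw [mul_smul]
    exact ha
  rw [length_quot_range_mulBy_of_saturated ϖ (Submodule.torsion R M) hsat
    (length_torsion_ne_top M), finrank_tensor_fractionRing,
    length_quot_range_mulBy_of_free ϖ hϖ (M ⧸ Submodule.torsion R M)]

end dvr

end Groth.Agent.H5.ArS
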