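import Mathlib
import Groth.Agent.Lib.Helper5.ArS.FibSum
import Groth.Agent.Lib.Helper5.DegC.Cartier
import Groth.Agent.Lib.Lead.CohLES.Euler
import Groth.Agent.Lib.Lead.CohLES.DualLin

/-!
# The sequence `0 ⟶ O_X ⟶ O_X ⟶ O_{X_s} ⟶ 0` given by a uniformizer, and its cohomology sequence
-/

set_option autoImplicit false
set_option linter.style.haveILetI false
universe u
open CategoryTheory CategoryTheory.Limits AlgebraicGeometry TopologicalSpace Opposite

namespace Groth.Agent.H5.ArS

open Groth.Agent.LD Groth.Agent.LD.QC Groth.Agent.H5.DegC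

section principal

variable {X : Scheme.{u}}

/-- an ideal sheaf generated on every affine open by the restriction of a global function which is
a nonzerodivisor there: the multiplication by that function and the projection to the quotient
form a short exact sequence. -/
theorem shortExact_smulEnd_of_principal (I : X.IdealSheafData) (π : Γ(X, ⊤))
    (hI : ∀ U : X.affineOpens,
      I.ideal U = Ideal.span {(X.presheaf.map (homOfLE (le_top : U.1 ≤ ⊤)).op).hom π})
    (hπ : ∀ U : X.affineOpens,
      (X.presheaf.map (homOfLE (le_top : U.1 ≤ ⊤)).op).hom π ∈ nonZeroDivisors Γ(X, U.1)) :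
    ∃ w : Ann.smulEnd (unitMod X) π ≫ ClSub.toSubscheme I = 0,
      (ShortComplex.mk (Ann.smulEnd (unitMod X) π) (ClSub.toSubscheme I) w).ShortExact := by
  let u : unitMod X ⟶ unitMod X := Ann.smulEnd (unitMod X) π
  have huapp : ∀ (U : X.Opens) (s : Γ(X, U)),
      (show Γ(X, U) from u.app U s) = (X.presheaf.map (homOfLE (le_top : U ≤ ⊤)).op).hom π * s :=
    fun U s => rfl
  have h0 : u ≫ ClSub.toSubscheme I = 0 := by
    apply hom_ext_affine
    intro U s
    change (ClSub.toSubscheme I).app U.1 (u.app U.1 s) = 0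
    rw [toSubscheme_app_eq_zero_iff, hI U]
    exact Ideal.mem_span_singleton.mpr ⟨s, huapp U.1 s⟩
  let θ : unitMod X ⟶ ClSub.idealMod I := kernel.lift _ u h0
  have hθ : θ ≫ ClSub.idealModι I = u := kernel.lift_ι _ _ _
  have hθapp : ∀ (U : X.Opens) (a : Γ(unitMod X, U)),
      (ClSub.idealModι I).app U (θ.app U a) = u.app U a := by
    intro U a
    exact congrArg (fun φ : unitMod X ⟶ unitMod X => φ.app U a) hθ
  haveI : IsIso θ := by
    apply isIso_of_bijective_affine
    intro U
    constructor
    · intro a b hab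
      have h1 : u.app U.1 a = u.app U.1 b := by rw [← hθapp, ← hθapp, hab]
      have h2 : (X.presheaf.map (homOfLE (le_top : U.1 ≤ ⊤)).op).hom π * (show Γ(X, U.1) from a) =
          (X.presheaf.map (homOfLE (le_top : U.1 ≤ ⊤)).op).hom π * (show Γ(X, U.1) from b) := h1
      exact mul_cancel_left_mem_nonZeroDivisors (hπ U) |>.mp h2
    · intro c
      have hc : (show Γ(X, U.1) from (ClSub.idealModι I).app U.1 c) ∈ I.ideal U :=
        (exists_idealModι_app_eq_iff I U _).mp ⟨c, rfl⟩
      rw [hI U] at hc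
      obtain ⟨t, ht⟩ := Ideal.mem_span_singleton.mp hc
      refine ⟨(show Γ(unitMod X, U.1) from t), ?_⟩
      apply idealModι_app_injective I U.1
      rw [hθapp]
      exact ht.symm
  refine ⟨h0, ?_⟩
  have hS := shortExact_idealMod I
  let S₁ : ShortComplex X.Modules := ShortComplex.mk (ClSub.idealModι I) (ClSub.toSubscheme I)
    (kernel.condition _)
  let S₂ : ShortComplex X.Modules := ShortComplex.mk u (ClSub.toSubscheme I) h0
  have e : S₂ ≅ S₁ := ShortComplex.isoMk (asIso θ) (Iso.refl _) (Iso.refl _)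
    (by simp [S₁, S₂, hθ]) (by simp [S₁, S₂])
  exact ShortComplex.shortExact_of_iso e.symm hS

end principal

variable {R : Type u} [CommRing R] [IsDomain R] [IsDiscreteValuationRing R]
  {X : Over (Spec (CommRingCat.of R))}

/-- the sequence `0 ⟶ O_X ⟶ O_X ⟶ O_{X_s} ⟶ 0` defined by a uniformizer. -/
theorem shortExact_smulEnd_specialFibre [Flat X.hom] (ϖ : R) (hϖ : Irreducible ϖ) :
    ∃ w : Ann.smulEnd (unitMod X.left) (Coh.toGlobal X.hom ϖ) ≫
        ClSub.toSubscheme (Models.specialFibreIdeal R X) = 0,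
      (ShortComplex.mk (Ann.smulEnd (unitMod X.left) (Coh.toGlobal X.hom ϖ))
        (ClSub.toSubscheme (Models.specialFibreIdeal R X)) w).ShortExact := by
  refine shortExact_smulEnd_of_principal _ (Coh.toGlobal X.hom ϖ) (fun V => ?_)
    (fun V => toSec_mem_nonZeroDivisors V.2 ϖ hϖ.ne_zero)
  rw [specialFibreIdeal_ideal, hϖ.maximalIdeal_eq, Ideal.map_span, Set.image_singleton]
  rfl

/-- multiplication by the image of a scalar induces the scalar multiplication on cohomology. -/
theorem HHmap_smulEnd_toGlobal (M : X.left.Modules) (a : R) (i : ℕ) (x : Coh.HH X.left M i) :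
    CL.HHmap R (Ann.smulEnd M (Coh.toGlobal X.hom a)) i x = a • x :=
  CL.HHmap_smulMod R M a i x

/-- **S15136** (general form): the restriction `H⁰(X, O_X) ⟶ H⁰(X_s, O_{X_s})` is surjective iff
`H¹(X, O_X)` is torsion free. -/
theorem surjective_H0_iff_noZeroSMulDivisors [Flat X.hom] :
    Function.Surjective (CL.HHmap R (ClSub.toSubscheme (Models.specialFibreIdeal R X)) 0) ↔
      NoZeroSMulDivisors R (Coh.HH X.left (Coh.structureModule X.left) 1) := by
  obtain ⟨ϖ, hϖ⟩ := IsDiscreteValuationRing.exists_irreducible R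
  obtain ⟨w, hS⟩ := shortExact_smulEnd_specialFibre (X := X) ϖ hϖ
  set S : ShortComplex X.left.Modules :=
    ShortComplex.mk (Ann.smulEnd (unitMod X.left) (Coh.toGlobal X.hom ϖ))
      (ClSub.toSubscheme (Models.specialFibreIdeal R X)) w with hSdef
  have hf : ∀ (i : ℕ) (x : Coh.HH X.left (Coh.structureModule X.left) i),
      CL.HHmap R S.f i x = ϖ • x := fun i x => HHmap_smulEnd_toGlobal _ ϖ i x
  constructor
  · intro hsurj
    have hϖtf : ∀ y : Coh.HH X.left (Coh.structureModule X.left) 1, ϖ • y = 0 → y = 0 := by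
      intro y hy
      have h1 : CL.HHmap R S.f (0 + 1) y = 0 := (hf 1 y).trans hy
      obtain ⟨q, hq⟩ := CL.exact₁ hS R 0 y h1
      obtain ⟨z, hz⟩ := hsurj q
      rw [← hq, ← hz]
      exact CL.HHδ_g R hS 0 z
    have hpow : ∀ (n : ℕ) (y : Coh.HH X.left (Coh.structureModule X.left) 1),
        ϖ ^ n • y = 0 → y = 0 := by
      intro n
      induction n with
      | zero => intro y hy; simpa using hy
      | succ n ih =>
        intro y hy
        apply ih
        apply hϖtf
        rw [smul_smul, ← pow_succ']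
        exact hy
    refine ⟨fun {c x} hcx => ?_⟩
    by_cases hc : c = 0
    · exact Or.inl hc
    · right
      obtain ⟨n, u, hu⟩ := IsDiscreteValuationRing.eq_unit_mul_pow_irreducible hc hϖ
      apply hpow n
      have h2 : (↑u⁻¹ : R) • (c • x) = 0 := by rw [hcx, smul_zero]
      rw [smul_smul, hu, ← mul_assoc, Units.inv_mul, one_mul] at h2
      exact h2
  · intro htf q
    have h1 : ϖ • CL.HHδ hS R 0 q = 0 := by
      rw [← hf (0 + 1)]
      exact CL.HHmap_f_δ R hS 0 q
    have h2 : CL.HHδ hS R 0 q = 0 :=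
      (htf.eq_zero_or_eq_zero_of_smul_eq_zero h1).resolve_left hϖ.ne_zero
    exact CL.exact₃ hS R 0 q h2

end Groth.Agent.H5.ArS
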