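import Mathlib
import Groth.Agent.Lib.Helper5.ArS.SmulSES
import Groth.Agent.Lib.Helper5.ArS.DvrLen
import Groth.Agent.Lib.Helper5.ArS.EulerAdd
import Groth.Agent.Lib.Helper5.ArS.FibConn
import Groth.Agent.S0034

/-!
# Flat invariance of the Euler characteristic of the structure sheaf over a discrete valuation ring
-/

set_option autoImplicit false
set_option linter.style.haveILetI false
universe u
open CategoryTheory CategoryTheory.Limits AlgebraicGeometry TopologicalSpace Opposite

namespace Groth.Agent.H5.ArS

open Groth.Agent.LD Groth.Agent.LD.QC Groth.Agent.H5.DegC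

variable {R : Type u} [CommRing R] [IsDomain R] [IsDiscreteValuationRing R]
  {X : Over (Spec (CommRingCat.of R))}

section LES

variable [Flat X.hom] (ϖ : R) (hϖ : Irreducible ϖ)
include hϖ

/-- the cohomology sequence of `0 ⟶ O_X ⟶ O_X ⟶ O_{X_s} ⟶ 0`, in terms of lengths. -/
theorem length_HH_specialFibre (i : ℕ) :
    Module.length R (Coh.HH X.left (ClSub.quotMod (Models.specialFibreIdeal R X)) i) =
      Module.length R (Coh.HH X.left (Coh.structureModule X.left) i ⧸
        LinearMap.range (mulBy (Coh.HH X.left (Coh.structureModule X.left) i) ϖ)) +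
      Module.length R (LinearMap.ker
        (mulBy (Coh.HH X.left (Coh.structureModule X.left) (i + 1)) ϖ)) := by
  obtain ⟨w, hS⟩ := shortExact_smulEnd_specialFibre (X := X) ϖ hϖ
  set S : ShortComplex X.left.Modules :=
    ShortComplex.mk (Ann.smulEnd (unitMod X.left) (Coh.toGlobal X.hom ϖ))
      (ClSub.toSubscheme (Models.specialFibreIdeal R X)) w with hSdef
  have hf : ∀ (j : ℕ) (x : Coh.HH X.left (Coh.structureModule X.left) j),
      CL.HHmap R S.f j x = ϖ • x := fun j x => HHmap_smulEnd_toGlobal _ ϖ j x
  rw [Alg.length_eq_ker_add_range (CL.HHδ hS R i)]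
  congr 1
  · -- `ker δ = range g ≃ M_i / ker g = M_i / ϖ M_i`
    have h1 : LinearMap.ker (CL.HHδ hS R i) = LinearMap.range (CL.HHmap R S.g i) := by
      ext q
      rw [LinearMap.mem_ker, LinearMap.mem_range]
      constructor
      · intro h
        exact CL.exact₃ hS R i q h
      · rintro ⟨y, rfl⟩
        exact CL.HHδ_g R hS i y
    have h2 : LinearMap.ker (CL.HHmap R S.g i) =
        LinearMap.range (mulBy (Coh.HH X.left (Coh.structureModule X.left) i) ϖ) := by
      ext y
      rw [LinearMap.mem_ker, LinearMap.mem_range]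
      constructor
      · intro h
        obtain ⟨z, hz⟩ := CL.exact₂ hS R i y h
        exact ⟨z, (hf i z).symm.trans hz⟩
      · rintro ⟨z, rfl⟩
        have := CL.HHmap_g_f (S := S) R i z
        rw [hf i z] at this
        exact this
    rw [(LinearEquiv.ofEq _ _ h1).length_eq,
      ← (LinearMap.quotKerEquivRange (CL.HHmap R S.g i)).length_eq,
      (Submodule.quotEquivOfEq _ _ h2).length_eq]
  · have h3 : LinearMap.range (CL.HHδ hS R i) = LinearMap.ker
        (mulBy (Coh.HH X.left (Coh.structureModule X.left) (i + 1)) ϖ) := by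
      ext x
      rw [LinearMap.mem_ker, LinearMap.mem_range]
      constructor
      · rintro ⟨q, rfl⟩
        have := CL.HHmap_f_δ R hS i q
        rw [hf (i + 1)] at this
        exact this
      · intro h
        exact CL.exact₁ hS R i x ((hf (i + 1) x).trans h)
    rw [(LinearEquiv.ofEq _ _ h3).length_eq]

/-- multiplication by a uniformizer is injective on `H⁰(X, O_X)`. -/
theorem ker_mulBy_HH_zero :
    LinearMap.ker (mulBy (Coh.HH X.left (Coh.structureModule X.left) 0) ϖ) = ⊥ := by
  obtain ⟨w, hS⟩ := shortExact_smulEnd_specialFibre (X := X) ϖ hϖ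
  set S : ShortComplex X.left.Modules :=
    ShortComplex.mk (Ann.smulEnd (unitMod X.left) (Coh.toGlobal X.hom ϖ))
      (ClSub.toSubscheme (Models.specialFibreIdeal R X)) w with hSdef
  have hf : ∀ (x : Coh.HH X.left (Coh.structureModule X.left) 0),
      CL.HHmap R S.f 0 x = ϖ • x := fun x => HHmap_smulEnd_toGlobal _ ϖ 0 x
  rw [LinearMap.ker_eq_bot]
  intro x y hxy
  apply CL.HHmap_f_injective R hS
  rw [hf, hf]
  exact hxy

end LES

section euler

variable [Flat X.hom] [IsLocallyNoetherian X.left] (hp : IsProper X.hom)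
include hp

/-- **flat invariance of the Euler characteristic, first half**: the Euler characteristic of the
closed fibre is the alternating sum of the ranks of `H⁰(X, O_X)` and `H¹(X, O_X)`, when
`H²(X_s, O_{X_s}) = 0`. -/
theorem euler_specialFibre_eq_rank
    (h2 : Subsingleton (Coh.HH X.left (ClSub.quotMod (Models.specialFibreIdeal R X)) 2)) :
    (Models.lengthH R X (ClSub.quotMod (Models.specialFibreIdeal R X)) 0 : ℤ) -
        (Models.lengthH R X (ClSub.quotMod (Models.specialFibreIdeal R X)) 1 : ℤ) =
      (Module.finrank (FractionRing R)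
          (TensorProduct R (FractionRing R) (Coh.HH X.left (Coh.structureModule X.left) 0)) : ℤ) -
        (Module.finrank (FractionRing R)
          (TensorProduct R (FractionRing R) (Coh.HH X.left (Coh.structureModule X.left) 1)) : ℤ) := by
  obtain ⟨ϖ, hϖ⟩ := IsDiscreteValuationRing.exists_irreducible R
  haveI : IsProper (X.left ↘ Spec (CommRingCat.of R)) := hp
  haveI hfin : ∀ i, Module.Finite R (Coh.HH X.left (Coh.structureModule X.left) i) := fun i =>
    Groth.Agent.S0002.result R X.left (Coh.structureModule X.left)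
      (Groth.Agent.LD.PF.isCoh_unitMod X.left) i
  have L0 := length_HH_specialFibre (X := X) ϖ hϖ 0
  have L1 := length_HH_specialFibre (X := X) ϖ hϖ 1
  have L2 := length_HH_specialFibre (X := X) ϖ hϖ 2
  have D0 := length_quot_range_mulBy ϖ hϖ (Coh.HH X.left (Coh.structureModule X.left) 0)
  have D1 := length_quot_range_mulBy ϖ hϖ (Coh.HH X.left (Coh.structureModule X.left) 1)
  rw [ker_mulBy_HH_zero (X := X) ϖ hϖ, Module.length_bot, zero_add] at D0
  -- `H²(X, O_X) = 0`
  have hM2 : Subsingleton (Coh.HH X.left (Coh.structureModule X.left) 2) := by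
    have h0 : Module.length R
        (Coh.HH X.left (ClSub.quotMod (Models.specialFibreIdeal R X)) 2) = 0 :=
      Module.length_eq_zero
    rw [h0] at L2
    have h1 : Module.length R (Coh.HH X.left (Coh.structureModule X.left) 2 ⧸
        LinearMap.range (mulBy (Coh.HH X.left (Coh.structureModule X.left) 2) ϖ)) = 0 := by
      have := L2.symm
      exact (add_eq_zero.mp this).1
    rw [Module.length_eq_zero_iff, Submodule.Quotient.subsingleton_iff] at h1
    have hle : (⊤ : Submodule R (Coh.HH X.left (Coh.structureModule X.left) 2)) ≤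
        IsLocalRing.maximalIdeal R • (⊤ : Submodule R _) := by
      intro x _
      have hx : x ∈ LinearMap.range
          (mulBy (Coh.HH X.left (Coh.structureModule X.left) 2) ϖ) := h1 ▸ Submodule.mem_top
      obtain ⟨y, rfl⟩ := hx
      exact Submodule.smul_mem_smul hϖ.not_isUnit Submodule.mem_top
    have := Submodule.eq_bot_of_le_smul_of_le_jacobson_bot (IsLocalRing.maximalIdeal R)
      (⊤ : Submodule R (Coh.HH X.left (Coh.structureModule X.left) 2))
      (Module.Finite.fg_top) hle
      (IsLocalRing.jacobson_eq_maximalIdeal ⊥ bot_ne_top).ge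
    exact ⟨fun x y => by
      have hx : x ∈ (⊤ : Submodule R _) := Submodule.mem_top
      have hy : y ∈ (⊤ : Submodule R _) := Submodule.mem_top
      rw [this, Submodule.mem_bot] at hx hy
      rw [hx, hy]⟩
  have hk2 : Module.length R (LinearMap.ker
      (mulBy (Coh.HH X.left (Coh.structureModule X.left) (1 + 1)) ϖ)) = 0 := by
    haveI : Subsingleton (Coh.HH X.left (Coh.structureModule X.left) (1 + 1)) := hM2
    exact Module.length_eq_zero
  rw [hk2, add_zero, D1] at L1
  rw [D0] at L0
  -- finiteness of the kernel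
  haveI : IsNoetherian R (Coh.HH X.left (Coh.structureModule X.left) (0 + 1)) :=
    isNoetherian_of_isNoetherianRing_of_finite R _
  haveI : Module.Finite R (LinearMap.ker
      (mulBy (Coh.HH X.left (Coh.structureModule X.left) (0 + 1)) ϖ)) :=
    Module.IsNoetherian.finite R _
  have hk1 : Module.length R (LinearMap.ker
      (mulBy (Coh.HH X.left (Coh.structureModule X.left) (0 + 1)) ϖ)) ≠ ⊤ :=
    length_ne_top_of_smul_eq_zero' ϖ hϖ (fun x => by
      have := x.2
      rw [LinearMap.mem_ker] at this
      exact Subtype.ext this)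
  obtain ⟨k1, hk1'⟩ := ENat.ne_top_iff_exists.mp hk1
  unfold Models.lengthH
  rw [L0, L1]
  change _ = _ at hk1'
  rw [← hk1']
  have e1 : ((↑(Module.finrank (FractionRing R) (TensorProduct R (FractionRing R)
      (Coh.HH X.left (Coh.structureModule X.left) 0))) + (k1 : ℕ∞) : ℕ∞)).toNat =
      Module.finrank (FractionRing R) (TensorProduct R (FractionRing R)
      (Coh.HH X.left (Coh.structureModule X.left) 0)) + k1 := by
    rw [← Nat.cast_add, ENat.toNat_natCast]
  have e2 : (((k1 : ℕ∞) + ↑(Module.finrank (FractionRing R) (TensorProduct R (FractionRing R)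
      (Coh.HH X.left (Coh.structureModule X.left) 1))) : ℕ∞)).toNat =
      k1 + Module.finrank (FractionRing R) (TensorProduct R (FractionRing R)
      (Coh.HH X.left (Coh.structureModule X.left) 1)) := by
    rw [← Nat.cast_add, ENat.toNat_natCast]
  rw [e1, e2]
  push_cast
  ring

end euler

section model

variable {C X : Scheme.{u}} (f : C ⟶ Spec (CommRingCat.of (FractionRing R)))
  (p : X ⟶ Spec (CommRingCat.of R))

/-- `K ⊗ H⁰(X, O_X)` has rank one for a regular proper model of a curve with `H⁰(C, O_C) = K`. -/
theorem finrank_tensor_HH_zero (hX : Models.IsRegularProperModel R X p C f)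
    (hH0 : IsIso f.appTop) :
    Module.finrank (FractionRing R) (TensorProduct R (FractionRing R)
      (Coh.HH (Over.mk p).left (Coh.structureModule (Over.mk p).left) 0)) = 1 := by
  have hbij := bijective_toGlobal_of_model f p hX hH0
  rw [(TensorProduct.isBaseChange R _ (FractionRing R)).finrank_eq]
  letI : Algebra R Γ(X, ⊤) := (Coh.toGlobal p).toAlgebra
  let e : Coh.HH (Over.mk p).left (Coh.structureModule (Over.mk p).left) 0 ≃ₗ[R] Γ(X, ⊤) :=
    { CL.HH0Equiv (Coh.structureModule X) with
      map_smul' := fun c x =>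
        CL.HH0Equiv_smul (Coh.structureModule X) (Coh.toGlobal p c) x }
  let e2 : R ≃ₗ[R] Γ(X, ⊤) := LinearEquiv.ofBijective (Algebra.linearMap R Γ(X, ⊤)) hbij
  rw [(e.trans e2.symm).finrank_eq, Module.finrank_self]

/-- `K ⊗ H^i(X, O_X) ≅ H^i(C, O_C)`. -/
theorem finrank_tensor_HH_eq (hX : Models.IsRegularProperModel R X p C f) (i : ℕ) :
    Module.finrank (FractionRing R) (TensorProduct R (FractionRing R)
      (Coh.HH (Over.mk p).left (Coh.structureModule (Over.mk p).left) i)) =
      Models.hRank (FractionRing R) C f (Coh.structureModule C) i := by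
  obtain ⟨g, hpb⟩ := hX.1.2.2.2
  haveI : IsProper p := hX.2.1
  letI : X.Over (Spec (CommRingCat.of R)) := ⟨p⟩
  letI : C.Over (Spec (CommRingCat.of (FractionRing R))) := ⟨f⟩
  haveI : CompactSpace X := QuasiCompact.compactSpace_of_compactSpace p
  haveI : QuasiSeparatedSpace X := quasiSeparatedSpace_of_quasiSeparated p
  haveI : Coh.IsQCoh (Coh.structureModule X) := (PF.isCoh_unitMod X).1
  obtain ⟨e⟩ := Groth.Agent.S0034.result R (FractionRing R) X C g hpb (Coh.structureModule X) i
  have e2 := RS.HHequiv (FractionRing R) (pbUnitIso g) i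
  unfold Models.hRank
  exact (e.trans e2).finrank_eq

variable [IsLocallyNoetherian X]

/-- **flat invariance of the Euler characteristic**: `χ(O_{X_s}) = 1 - g(C)` for a regular proper
model with `H⁰(C, O_C) = K` (given the vanishing of `H²(O_{X_s})`). -/
theorem euler_specialFibre_of_model (hX : Models.IsRegularProperModel R X p C f)
    (hH0 : IsIso f.appTop)
    (h2 : Subsingleton (Coh.HH (Over.mk p).left
      (ClSub.quotMod (Models.specialFibreIdeal R (Over.mk p))) 2)) :
    (Models.lengthH R (Over.mk p) (ClSub.quotMod (Models.specialFibreIdeal R (Over.mk p))) 0 : ℤ) -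
        (Models.lengthH R (Over.mk p)
          (ClSub.quotMod (Models.specialFibreIdeal R (Over.mk p))) 1 : ℤ) =
      1 - (Models.curveGenus (FractionRing R) C f : ℤ) := by
  have hp : IsProper (Over.mk p).hom := hX.2.1
  haveI : Flat (Over.mk p).hom := hX.1.1
  haveI : IsLocallyNoetherian (Over.mk p).left := ‹IsLocallyNoetherian X›
  rw [euler_specialFibre_eq_rank (X := Over.mk p) hp h2, finrank_tensor_HH_zero f p hX hH0,
    finrank_tensor_HH_eq f p hX 1]
  rfl

end model

end Groth.Agent.H5.ArS
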