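import Mathlib
import Groth.Agent.Lib.Helper5.ArS.FlatInv
import Groth.Agent.Lib.Helper5.ArS.ChiPot
import Groth.Agent.Lib.Helper5.ArS.ChainGeo

/-!
# Euler characteristics of vertical divisors on a regular proper model (S3321, S3322, S3324)
-/

set_option autoImplicit false
set_option linter.style.haveILetI false
universe u
open CategoryTheory CategoryTheory.Limits AlgebraicGeometry TopologicalSpace Opposite

namespace Groth.Agent.H5.ArS

open Groth.Agent.LD Groth.Agent.LD.QC Groth.Agent.H5.LinEq Groth.Agent.H5.DegC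

section top

/-- `O_X / O_X = 0`. -/
theorem isZero_quotMod_top (Y : Scheme.{u}) : IsZero (ClSub.quotMod (⊤ : Y.IdealSheafData)) := by
  rw [IsZero.iff_id_eq_zero]
  apply Scheme.Modules.hom_ext
  intro U
  ext m
  have : Subsingleton Γ((⊤ : Y.IdealSheafData).subscheme,
      (⊤ : Y.IdealSheafData).subschemeι ⁻¹ᵁ U) := inferInstance
  exact this.elim _ _

end top

variable {R : Type u} [CommRing R] [IsDomain R] [IsDiscreteValuationRing R]
  {X : Over (Spec (CommRingCat.of R))}

theorem lengthH_quotMod_top (i : ℕ) :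
    Models.lengthH R X (ClSub.quotMod (⊤ : X.left.IdealSheafData)) i = 0 := by
  unfold Models.lengthH
  haveI := CL.subsingleton_HH_of_isZero (isZero_quotMod_top X.left) i
  rw [Module.length_eq_zero]
  rfl

section coh

variable [Flat X.hom] [IsLocallyNoetherian X.left] (hp : IsProper X.hom)
  (hreg : Models.IsRegularScheme X.left) {n : ℕ} (Γ : Fin n → ArSurf.VertComp R X)
  (hΓ : Models.IsComponentList R X Γ)
include hp hreg hΓ

/-- `H²` of the structure sheaf of an effective vertical divisor vanishes. -/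
theorem subsingleton_HH_two_quotMod_prod (a : Fin n → ℕ) :
    Subsingleton (Coh.HH X.left (ClSub.quotMod (∏ j, (Γ j).ι.ker ^ a j)) 2) := by
  classical
  set k := IsLocalRing.ResidueField R with hk
  have hI : ∀ j, BlowUp.IsEffCartierIdeal (Γ j).ι.ker := fun j => isEffCartierIdeal_ker hreg Γ hΓ j
  revert a
  refine pi_nat_induction _ ?_ ?_
  · have : (∏ j, (Γ j).ι.ker ^ (0 : Fin n → ℕ) j) = ⊤ := by
      rw [← Scheme.IdealSheafData.one_eq_top]
      exact Finset.prod_eq_one (fun j _ => pow_zero _)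
    rw [this]
    exact CL.subsingleton_HH_of_isZero (isZero_quotMod_top X.left) 2
  · intro a i ih
    haveI : IsProper ((Γ i).curve.left ↘ Spec (CommRingCat.of k)) := isProper_curve_hom hp (Γ i)
    obtain ⟨hDc, -⟩ := pdeg_idealMod_prod k (Γ i).ι (dim_curve_le (Γ i)) Finset.univ
      (fun j => (Γ j).ι.ker) hI a
    set D : X.left.IdealSheafData := ∏ j, (Γ j).ι.ker ^ a j with hD
    have hDinv : PicF.IsInvertible (ClSub.idealMod D) := (isInvertible_idealMod_iff D).mpr hDc
    have hD'eq : (∏ j, (Γ j).ι.ker ^ (a j + if j = i then 1 else 0)) = (Γ i).ι.ker * D := by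
      rw [hD, mul_comm]
      have h1 : ∀ j : Fin n, (Γ j).ι.ker ^ (a j + if j = i then 1 else 0) =
          (Γ j).ι.ker ^ a j * (if j = i then (Γ j).ι.ker else 1) := by
        intro j
        rw [pow_add]
        split_ifs <;> simp
      rw [Finset.prod_congr rfl (fun j _ => h1 j), Finset.prod_mul_distrib,
        Finset.prod_ite_eq' Finset.univ i (fun j => (Γ j).ι.ker)]
      simp
    rw [hD'eq]
    have hle : (Γ i).ι.ker * D ≤ D := by
      calc (Γ i).ι.ker * D ≤ 1 * D := mul_le_mul_left (show (Γ i).ι.ker ≤ 1 from le_top) D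
        _ = D := one_mul D
    obtain ⟨f₁, f₂, w, hS⟩ := exists_shortExact_quot hle
    obtain ⟨eQ⟩ := nonempty_cokernel_iso_tensor (Γ i).ι.ker D hDinv hle
    have hpinv : PicF.IsInvertible ((Scheme.Modules.pullback (Γ i).ι).obj (ClSub.idealMod D)) :=
      isInvertible_pullback (Γ i).ι hDinv
    haveI := qc_of_isInvertible _ hpinv
    haveI := Curve.isLocallyNoetherian k (Γ i).curve.left
    haveI : CompactSpace (Γ i).curve.left :=
      QuasiCompact.compactSpace_of_compactSpace ((Γ i).curve.left ↘ Spec (CommRingCat.of k))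
    have hr : Subsingleton (Coh.HH X.left (cokernel (idealModIncl hle)) 2) := by
      rw [← Module.length_eq_zero_iff (R := R), (RS.HHequiv R eQ 2).length_eq,
        length_HH_tensor_quotMod hp (Γ i) (ClSub.idealMod D) hDinv 2]
      haveI := Groth.Agent.H5.GV.subsingleton_HH_of_dim_le 1
        (by exact_mod_cast dim_curve_le (Γ i))
        ((Scheme.Modules.pullback (Γ i).ι).obj (ClSub.idealMod D)) 2 (by norm_num) le_rfl
      rw [Module.finrank_zero_of_subsingleton]
      rfl
    have key : ∀ x : Coh.HH X.left (ClSub.quotMod ((Γ i).ι.ker * D)) 2, x = 0 := by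
      intro x
      obtain ⟨z, hz⟩ := CL.exact₂ hS R 2 x (ih.elim _ _)
      rw [← hz, hr.elim z 0, map_zero]
    exact ⟨fun x y => by rw [key x, key y]⟩

section pot

variable (L : Fin n → X.left.Modules)
  (hL : ∀ j, ClSub.IsInverseOf (L j) (ClSub.idealMod (Γ j).ι.ker))
include hL

theorem inter_symm' (i j : Fin n) :
    ArSurf.inter R X (L i) (Γ j) = ArSurf.inter R X (L j) (Γ i) := by
  by_cases hij : i = j
  · subst hij; rfl
  · exact ((inter_offdiag hp Γ hΓ L hL i j hij).1).symm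

/-- **the Euler characteristic of an effective vertical divisor below the closed fibre**, as a
quadratic function of the multiplicities. -/
theorem two_chi_quotMod_prod (a : Fin n → ℕ) (ha : ∀ j, a j ≤ Models.mult R X (Γ j)) :
    2 * ((Models.lengthH R X (ClSub.quotMod (∏ j, (Γ j).ι.ker ^ a j)) 0 : ℤ) -
        (Models.lengthH R X (ClSub.quotMod (∏ j, (Γ j).ι.ker ^ a j)) 1 : ℤ)) =
      2 * ∑ i, (a i : ℤ) * ((Models.wdeg R X (Γ i) : ℤ) - (Models.h1 R X (Γ i) : ℤ)) -
        ∑ i, ∑ j, (a i : ℤ) * (a j : ℤ) * ArSurf.inter R X (L i) (Γ j) +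
        ∑ i, (a i : ℤ) * ArSurf.inter R X (L i) (Γ i) := by
  refine potential (fun i j => ArSurf.inter R X (L i) (Γ j))
    (fun i j => inter_symm' hp hreg Γ hΓ L hL i j)
    (fun i => (Models.wdeg R X (Γ i) : ℤ) - (Models.h1 R X (Γ i) : ℤ))
    (fun j => Models.mult R X (Γ j))
    (fun a => (Models.lengthH R X (ClSub.quotMod (∏ j, (Γ j).ι.ker ^ a j)) 0 : ℤ) -
        (Models.lengthH R X (ClSub.quotMod (∏ j, (Γ j).ι.ker ^ a j)) 1 : ℤ)) ?_ ?_ a ha
  · have : (∏ j, (Γ j).ι.ker ^ (0 : Fin n → ℕ) j) = ⊤ := by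
      rw [← Scheme.IdealSheafData.one_eq_top]
      exact Finset.prod_eq_one (fun j _ => pow_zero _)
    change (Models.lengthH R X (ClSub.quotMod (∏ j, (Γ j).ι.ker ^ (0 : Fin n → ℕ) j)) 0 : ℤ) -
        (Models.lengthH R X (ClSub.quotMod (∏ j, (Γ j).ι.ker ^ (0 : Fin n → ℕ) j)) 1 : ℤ) = 0
    rw [this, lengthH_quotMod_top, lengthH_quotMod_top]
    simp
  · intro b i hle
    exact euler_add_component hp hreg Γ hΓ L hL b i hle

/-- the case of a divisor proportional to the closed fibre. -/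
theorem two_chi_of_proportional (a : Fin n → ℕ) (d : ℕ)
    (hd : ∀ j, d * a j = Models.mult R X (Γ j)) :
    2 * (d : ℤ) * ((Models.lengthH R X (ClSub.quotMod (∏ j, (Γ j).ι.ker ^ a j)) 0 : ℤ) -
        (Models.lengthH R X (ClSub.quotMod (∏ j, (Γ j).ι.ker ^ a j)) 1 : ℤ)) =
      2 * ∑ i, (Models.mult R X (Γ i) : ℤ) *
          ((Models.wdeg R X (Γ i) : ℤ) - (Models.h1 R X (Γ i) : ℤ)) +
        ∑ i, (Models.mult R X (Γ i) : ℤ) * ArSurf.inter R X (L i) (Γ i) := by
  have hdpos : ∀ i : Fin n, 0 < d := by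
    intro i
    have h1 := mult_pos hreg Γ hΓ i
    rw [← hd i] at h1
    exact Nat.pos_of_mul_pos_right h1
  have hale : ∀ j, a j ≤ Models.mult R X (Γ j) := by
    intro j
    rw [← hd j]
    exact Nat.le_mul_of_pos_left _ (hdpos j)
  have h := two_chi_quotMod_prod hp hreg Γ hΓ L hL a hale
  have hz : ∀ i, ∑ j, (a j : ℤ) * ArSurf.inter R X (L i) (Γ j) = 0 := by
    intro i
    have h1 := sum_mult_inter_eq_zero hp hreg Γ hΓ L hL (Γ i)
    have h2 : ∑ j, (Models.mult R X (Γ j) : ℤ) * ArSurf.inter R X (L j) (Γ i) =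
        (d : ℤ) * ∑ j, (a j : ℤ) * ArSurf.inter R X (L i) (Γ j) := by
      rw [Finset.mul_sum]
      refine Finset.sum_congr rfl (fun j _ => ?_)
      rw [← hd j, inter_symm' hp hreg Γ hΓ L hL j i]
      push_cast
      ring
    rw [h2] at h1
    have hd0 : (d : ℤ) ≠ 0 := by exact_mod_cast (hdpos i).ne'
    exact (mul_eq_zero.mp h1).resolve_left hd0
  have hq : ∑ i, ∑ j, (a i : ℤ) * (a j : ℤ) * ArSurf.inter R X (L i) (Γ j) = 0 := by
    refine Finset.sum_eq_zero (fun i _ => ?_)
    have : ∑ j, (a i : ℤ) * (a j : ℤ) * ArSurf.inter R X (L i) (Γ j) =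
        (a i : ℤ) * ∑ j, (a j : ℤ) * ArSurf.inter R X (L i) (Γ j) := by
      rw [Finset.mul_sum]
      exact Finset.sum_congr rfl (fun j _ => by ring)
    rw [this, hz i, mul_zero]
  rw [hq, sub_zero] at h
  have e1 : ∑ i, (Models.mult R X (Γ i) : ℤ) *
      ((Models.wdeg R X (Γ i) : ℤ) - (Models.h1 R X (Γ i) : ℤ)) =
      (d : ℤ) * ∑ i, (a i : ℤ) *
        ((Models.wdeg R X (Γ i) : ℤ) - (Models.h1 R X (Γ i) : ℤ)) := by
    rw [Finset.mul_sum]
    refine Finset.sum_congr rfl (fun i _ => ?_)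
    rw [← hd i]
    push_cast
    ring
  have e2 : ∑ i, (Models.mult R X (Γ i) : ℤ) * ArSurf.inter R X (L i) (Γ i) =
      (d : ℤ) * ∑ i, (a i : ℤ) * ArSurf.inter R X (L i) (Γ i) := by
    rw [Finset.mul_sum]
    refine Finset.sum_congr rfl (fun i _ => ?_)
    rw [← hd i]
    push_cast
    ring
  rw [e1, e2]
  linear_combination (d : ℤ) * h

end pot

end coh

section model

variable {C Y : Scheme.{u}} (f : C ⟶ Spec (CommRingCat.of (FractionRing R)))
  (p : Y ⟶ Spec (CommRingCat.of R)) (hX : Models.IsRegularProperModel R Y p C f)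
  (hH0 : IsIso f.appTop) {n : ℕ} (Γ : Fin n → ArSurf.VertComp R (Over.mk p))
  (hΓ : Models.IsComponentList R (Over.mk p) Γ)
include hX hH0 hΓ

/-- `χ(O_{X_s}) = 1 - g(C)` for a regular proper model. -/
theorem chi_specialFibre_eq :
    (Models.lengthH R (Over.mk p)
          (ClSub.quotMod (∏ j, (Γ j).ι.ker ^ Models.mult R (Over.mk p) (Γ j))) 0 : ℤ) -
        (Models.lengthH R (Over.mk p)
          (ClSub.quotMod (∏ j, (Γ j).ι.ker ^ Models.mult R (Over.mk p) (Γ j))) 1 : ℤ) =
      1 - (Models.curveGenus (FractionRing R) C f : ℤ) := by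
  have hp : IsProper (Over.mk p).hom := hX.2.1
  haveI : Flat (Over.mk p).hom := hX.1.1
  haveI : LocallyOfFiniteType p := hX.1.2.1
  haveI : IsLocallyNoetherian Y := LocallyOfFiniteType.isLocallyNoetherian p
  haveI : IsLocallyNoetherian (Over.mk p).left := ‹IsLocallyNoetherian Y›
  have h2 := subsingleton_HH_two_quotMod_prod hp hX.2.2 Γ hΓ
    (fun j => Models.mult R (Over.mk p) (Γ j))
  have h := euler_specialFibre_of_model f p hX hH0
  rw [specialFibreIdeal_eq_prod hX.2.2 Γ hΓ] at h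
  exact h h2

variable (L : Fin n → Y.Modules)
  (hL : ∀ j, ClSub.IsInverseOf (L j) (ClSub.idealMod (Γ j).ι.ker))
include hL

/-- **S3321** in the form `2 (1 - g) = 2 Σ m_i (w_i - h¹_i) + Σ m_i Γ_i²`. -/
theorem two_sub_two_genus_eq :
    2 * (1 - (Models.curveGenus (FractionRing R) C f : ℤ)) =
      2 * ∑ i, (Models.mult R (Over.mk p) (Γ i) : ℤ) *
          ((Models.wdeg R (Over.mk p) (Γ i) : ℤ) - (Models.h1 R (Over.mk p) (Γ i) : ℤ)) +
        ∑ i, (Models.mult R (Over.mk p) (Γ i) : ℤ) *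
          ArSurf.inter R (Over.mk p) (L i) (Γ i) := by
  have hp : IsProper (Over.mk p).hom := hX.2.1
  haveI : Flat (Over.mk p).hom := hX.1.1
  haveI : LocallyOfFiniteType p := hX.1.2.1
  haveI : IsLocallyNoetherian (Over.mk p).left := LocallyOfFiniteType.isLocallyNoetherian p
  have h := two_chi_of_proportional hp hX.2.2 Γ hΓ L hL
    (fun j => Models.mult R (Over.mk p) (Γ j)) 1 (fun j => one_mul _)
  rw [chi_specialFibre_eq f p hX hH0 Γ hΓ] at h
  rw [← h]
  push_cast
  ring

/-- **S3324**, numerical part, for any divisor `Σ a_i Γ_i` with `d a = m`. -/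
theorem one_sub_genus_eq_of_proportional (a : Fin n → ℕ) (d : ℕ)
    (hd : ∀ j, d * a j = Models.mult R (Over.mk p) (Γ j)) :
    (1 : ℤ) - (Models.curveGenus (FractionRing R) C f : ℤ) =
      (d : ℤ) * ((Models.lengthH R (Over.mk p)
            (ClSub.quotMod (∏ j, (Γ j).ι.ker ^ a j)) 0 : ℤ) -
          (Models.lengthH R (Over.mk p) (ClSub.quotMod (∏ j, (Γ j).ι.ker ^ a j)) 1 : ℤ)) := by
  have hp : IsProper (Over.mk p).hom := hX.2.1
  haveI : Flat (Over.mk p).hom := hX.1.1
  haveI : LocallyOfFiniteType p := hX.1.2.1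
  haveI : IsLocallyNoetherian (Over.mk p).left := LocallyOfFiniteType.isLocallyNoetherian p
  have h := two_chi_of_proportional hp hX.2.2 Γ hΓ L hL a d hd
  have h' := two_sub_two_genus_eq f p hX hH0 Γ hΓ L hL
  linarith

end model

end Groth.Agent.H5.ArS
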