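import Mathlib
import Groth.Agent.Lib.Lead.Stein.Local
import Groth.Agent.Lib.Helper6.HC2
import Groth.Agent.Lib.Lead.FF.H0Const

/-!
# Connectedness of `Spec (B ⊗[A] B)` for `A = Γ(X, O)`, `B = Γ(Z, O)` a field, `Z ⊆ X` a closed
subscheme containing the fibre of `X → Spec A` over the point of `Spec B`.
-/

set_option autoImplicit false
set_option linter.style.haveILetI false
universe u
open CategoryTheory CategoryTheory.Limits AlgebraicGeometry TopologicalSpace Opposite

namespace Groth.Agent.H5.ArS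

open TensorProduct

/-- `X` proper over the Noetherian `Spec Γ(X, O_X)`, `j : Z ⟶ X` a closed immersion from a
nonempty scheme whose ring of global functions is a field, such that every point of `X` over the
image of `Spec Γ(Z, O_Z)` lies on `Z`. Then `Γ(Z, O) ⊗[Γ(X, O)] Γ(Z, O)` has only the trivial
idempotents. -/
theorem idem_trivial_tensor {X Z : Scheme.{u}} [IsProper X.toSpecΓ]
    [IsLocallyNoetherian (Spec Γ(X, ⊤))] (j : Z ⟶ X) [IsClosedImmersion j] [Nonempty Z]
    (hB : IsField Γ(Z, ⊤))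
    (hfib : ∀ x : X, X.toSpecΓ x ∈ Set.range (Spec.map j.appTop) → x ∈ Set.range j) :
    letI : Algebra Γ(X, ⊤) Γ(Z, ⊤) := j.appTop.hom.toAlgebra
    ∀ e : Γ(Z, ⊤) ⊗[Γ(X, ⊤)] Γ(Z, ⊤), e * e = e → e = 0 ∨ e = 1 := by
  letI : Algebra Γ(X, ⊤) Γ(Z, ⊤) := j.appTop.hom.toAlgebra
  letI : Field Γ(Z, ⊤) := hB.toField
  set f := X.toSpecΓ with hf
  set r : Spec Γ(Z, ⊤) ⟶ Spec Γ(X, ⊤) := Spec.map j.appTop with hr
  set β := Z.toSpecΓ with hβ
  have hnat : j ≫ f = β ≫ r := Scheme.toSpecΓ_naturality j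
  -- geometric connectedness
  have hiso : IsIso (f.app ⊤) := by
    have : f.app ⊤ = (Scheme.ΓSpecIso Γ(X, ⊤)).hom := Scheme.toSpecΓ_appTop X
    rw [this]
    infer_instance
  haveI GC : GeometricallyConnected f :=
    (GeometricallyConnected.iff_geometricallyConnected_fiber (f := f)).mpr (fun y =>
      Groth.Agent.LD.Stein.geometricallyConnected_fiber f Groth.Agent.H6.HC.formalBij y ⊤
        (isAffineOpen_top _) trivial hiso)
  haveI hW : ConnectedSpace ↑(pullback f r) :=
    GC.geometrically_connectedSpace (K := Γ(Z, ⊤)) r (pullback.fst f r) (pullback.snd f r)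
      (IsPullback.of_hasPullback f r)
  -- the closed subscheme
  have hu := MorphismProperty.pullbackMap (P := @IsClosedImmersion) (f := j ≫ f) (g := r)
    (f' := f) (g' := r) (i₁ := j) (i₂ := 𝟙 _) inferInstance inferInstance rfl
    (Category.id_comp _).symm
  set u := pullback.map (j ≫ f) r f r j (𝟙 _) (𝟙 _) ((Category.comp_id _).trans rfl)
    ((Category.comp_id _).trans (Category.id_comp _).symm) with hudef
  haveI : IsClosedImmersion u := hu
  let e₀ := pullbackRightPullbackFstIso f r j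
  have he₀ : e₀.hom ≫ u = pullback.snd j (pullback.fst f r) := by
    apply pullback.hom_ext
    · rw [Category.assoc, hudef, pullback.lift_fst, ← Category.assoc,
        pullbackRightPullbackFstIso_hom_fst, pullback.condition]
    · rw [Category.assoc, hudef, pullback.lift_snd, Category.comp_id,
        pullbackRightPullbackFstIso_hom_snd]
  have husurj : Function.Surjective u := by
    intro w
    have hx : f (pullback.fst f r w) = r (pullback.snd f r w) := by
      rw [← Scheme.Hom.comp_apply, ← Scheme.Hom.comp_apply, pullback.condition]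
    obtain ⟨z, hz⟩ := hfib _ ⟨_, hx.symm⟩
    obtain ⟨t, -, ht⟩ := Scheme.Pullback.exists_preimage_pullback (f := j)
      (g := pullback.fst f r) z w hz
    refine ⟨e₀.hom t, ?_⟩
    rw [← Scheme.Hom.comp_apply, he₀]
    exact ht
  haveI hW' : ConnectedSpace ↑(pullback (j ≫ f) r) := by
    have hhom : IsHomeomorph u :=
      isHomeomorph_iff_isEmbedding_surjective.mpr ⟨u.isClosedEmbedding.isEmbedding, husurj⟩
    exact (hhom.homeomorph u).symm.surjective.connectedSpace (hhom.homeomorph u).symm.continuous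
  -- the map to `Spec B ×[Spec A] Spec B`
  haveI hβs : Surjective β := by
    refine ⟨fun q => ?_⟩
    obtain ⟨z⟩ := ‹Nonempty Z›
    haveI : Subsingleton ↑(Spec Γ(Z, ⊤)) :=
      inferInstanceAs (Subsingleton (PrimeSpectrum Γ(Z, ⊤)))
    exact ⟨z, Subsingleton.elim _ _⟩
  have hv := MorphismProperty.pullbackMap (P := @Surjective) (f := j ≫ f) (g := r)
    (f' := r) (g' := r) (i₁ := β) (i₂ := 𝟙 _) hβs inferInstance hnat
    (Category.id_comp _).symm
  haveI hQ : ConnectedSpace ↑(pullback r r) :=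
    hv.1.connectedSpace (Scheme.Hom.continuous _)
  let eQ : pullback r r ≅ Spec (CommRingCat.of (Γ(Z, ⊤) ⊗[Γ(X, ⊤)] Γ(Z, ⊤))) :=
    pullbackSpecIso Γ(X, ⊤) Γ(Z, ⊤) Γ(Z, ⊤)
  haveI hS : ConnectedSpace ↑(Spec (CommRingCat.of (Γ(Z, ⊤) ⊗[Γ(X, ⊤)] Γ(Z, ⊤)))) :=
    eQ.hom.homeomorph.surjective.connectedSpace eQ.hom.homeomorph.continuous
  intro e he
  have hinj : Function.Injective
      (Scheme.ΓSpecIso (CommRingCat.of (Γ(Z, ⊤) ⊗[Γ(X, ⊤)] Γ(Z, ⊤)))).inv.hom :=
    (ConcreteCategory.bijective_of_isIso (Scheme.ΓSpecIso _).inv).1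
  have he' : IsIdempotentElem
      ((Scheme.ΓSpecIso (CommRingCat.of (Γ(Z, ⊤) ⊗[Γ(X, ⊤)] Γ(Z, ⊤)))).inv.hom e) := by
    unfold IsIdempotentElem
    rw [← map_mul, he]
  rcases Groth.Agent.LD.FF.idem_trivial_of_connectedSpace _ _ he' with h | h
  · left
    apply hinj
    rw [h, map_zero]
  · right
    apply hinj
    rw [h, map_one]

end Groth.Agent.H5.ArS
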