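import Mathlib

/-!
# An unramified extension `A → B`, `B` a field, with `Spec (B ⊗[A] B)` connected is surjective
-/

set_option autoImplicit false
universe u

namespace Groth.Agent.H5.ArS

open TensorProduct

/-- let `B` be a field, integral, formally unramified and essentially of finite type over `A`.
If `B ⊗[A] B` has only the trivial idempotents, then `A → B` is surjective. -/
theorem surjective_algebraMap_of_idem_trivial (A B : Type u) [CommRing A] [Field B] [Algebra A B]
    [Algebra.IsIntegral A B] [Algebra.FormallyUnramified A B] [Algebra.EssFiniteType A B]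
    (hidem : ∀ e : B ⊗[A] B, e * e = e → e = 0 ∨ e = 1) :
    Function.Surjective (algebraMap A B) := by
  obtain ⟨t, ht1, ht2⟩ := Algebra.FormallyUnramified.iff_exists_tensorProduct.mp
    (inferInstance : Algebra.FormallyUnramified A B)
  -- `t` kills the kernel of the multiplication
  have hker : ∀ x : B ⊗[A] B, Algebra.TensorProduct.lmul' A x = 0 → x * t = 0 := by
    intro x hx
    have hx' : x ∈ KaehlerDifferential.ideal A B := hx
    rw [← KaehlerDifferential.span_range_eq_ideal] at hx'
    have hle : Ideal.span (Set.range fun s : B => (1 : B) ⊗ₜ[A] s - s ⊗ₜ[A] (1 : B)) ≤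
        Submodule.annihilator (Ideal.span {t}) := by
      rw [Ideal.span_le]
      rintro _ ⟨s, rfl⟩
      change _ ∈ Submodule.annihilator (Ideal.span {t})
      rw [Submodule.mem_annihilator_span_singleton]
      exact ht1 s
    have := hle hx'
    rw [Submodule.mem_annihilator_span_singleton] at this
    exact this
  have hidt : t * t = t := by
    have h1 : Algebra.TensorProduct.lmul' A (1 - t) = 0 := by rw [map_sub, map_one, ht2, sub_self]
    have h2 := hker (1 - t) h1
    rw [sub_mul, one_mul, sub_eq_zero] at h2
    exact h2.symm
  have ht : t = 1 := by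
    rcases hidem t hidt with h | h
    · exfalso
      rw [h, map_zero] at ht2
      exact zero_ne_one ht2
    · exact h
  have hsym : ∀ s : B, (1 : B) ⊗ₜ[A] s = s ⊗ₜ[A] (1 : B) := by
    intro s
    have := ht1 s
    rw [ht, mul_one, sub_eq_zero] at this
    exact this
  -- the image of `A` is a field
  set K : Subalgebra A B := (Algebra.ofId A B).range with hK
  haveI : Algebra.IsIntegral K B := Algebra.IsIntegral.tower_top (R := A)
  letI : Field K := (isField_of_isIntegral_of_isField (R := K) (S := B)
    Subtype.val_injective (Field.toIsField B)).toField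
  obtain ⟨φ, hφ⟩ := LinearMap.exists_leftInverse_of_injective (Algebra.linearMap K B)
    (LinearMap.ker_eq_bot.mpr (Subtype.val_injective))
  have hφ1 : φ 1 = 1 := by
    have := LinearMap.congr_fun hφ 1
    simpa using this
  let ψ : B ⊗[A] B →ₗ[A] B :=
    TensorProduct.lift ((LinearMap.mul A B).comp
      ((K.val.toLinearMap).comp (φ.restrictScalars A)))
  have hψ : ∀ x y : B, ψ (x ⊗ₜ[A] y) = (φ x : B) * y := fun x y => rfl
  intro s
  have h := congrArg ψ (hsym s)
  rw [hψ, hψ, hφ1, mul_one] at h
  have hs : s ∈ K := by
    have : s = (φ s : B) := by simpa using h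
    rw [this]
    exact (φ s).2
  obtain ⟨a, ha⟩ := hs
  exact ⟨a, ha⟩

end Groth.Agent.H5.ArS
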