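import Mathlib
import Groth.Agent.Lib.Helper5.ArS.ChainGeo
import Groth.Agent.Lib.Helper5.ArS.UnramConn
import Groth.Agent.Lib.Helper5.ArS.SteinIdem

/-!
# Cohomological flatness in degree zero when the closed fibre has a field of functions (S7930)
-/

set_option autoImplicit false
set_option linter.style.haveILetI false
universe u
open CategoryTheory CategoryTheory.Limits AlgebraicGeometry TopologicalSpace Opposite

namespace Groth.Agent.H5.ArS

open Groth.Agent.LD Groth.Agent.LD.QC

variable {R : Type u} [CommRing R] [IsDomain R] [IsDiscreteValuationRing R]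
  {X : Over (Spec (CommRingCat.of R))}

/-- the support of the ideal of the closed fibre is the closed fibre. -/
theorem support_specialFibreIdeal :
    ((Models.specialFibreIdeal R X).support : Set X.left) = Models.specialFibreSet R X := by
  unfold Models.specialFibreIdeal Models.specialFibreSet
  rw [Scheme.IdealSheafData.support_comap]
  change X.hom.base ⁻¹' ((Curv2.idealSheaf R (IsLocalRing.maximalIdeal R)).support : Set _) = _
  congr 1
  unfold Curv2.idealSheaf
  rw [Scheme.IdealSheafData.coe_support_ofIdealTop, Ideal.map, Scheme.zeroLocus_span]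
  have := Spec_zeroLocus_eq_zeroLocus (R := CommRingCat.of R)
    ((IsLocalRing.maximalIdeal R : Ideal R) : Set R)
  refine this.trans ?_
  ext q
  rw [PrimeSpectrum.mem_zeroLocus]
  change _ ↔ q = IsLocalRing.closedPoint R
  constructor
  · intro h
    apply PrimeSpectrum.ext
    have h1 : IsLocalRing.maximalIdeal R = q.asIdeal :=
      Ideal.IsMaximal.eq_of_le (IsLocalRing.maximalIdeal.isMaximal R) q.isPrime.ne_top h
    exact h1.symm
  · rintro rfl
    exact le_rfl

section main

variable [IsLocallyNoetherian X.left] [PerfectField (IsLocalRing.ResidueField R)]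

/-- **cohomological flatness in degree zero** over a discrete valuation ring with perfect
residue field, when the global functions of the closed fibre form a field: every global function
of the closed fibre lifts to `X`. -/
theorem surjective_appTop_specialFibre (hp : IsProper X.hom)
    (hB : IsField Γ((Models.specialFibreIdeal R X).subscheme, ⊤)) :
    Function.Surjective (Models.specialFibreIdeal R X).subschemeι.appTop.hom := by
  classical
  set I := Models.specialFibreIdeal R X with hI
  set j := I.subschemeι with hj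
  letI : Field Γ(I.subscheme, ⊤) := hB.toField
  letI algRA : Algebra R Γ(X.left, ⊤) := (Coh.toGlobal X.hom).toAlgebra
  letI algAB : Algebra Γ(X.left, ⊤) Γ(I.subscheme, ⊤) := j.appTop.hom.toAlgebra
  letI algRB : Algebra R Γ(I.subscheme, ⊤) := (Coh.toGlobal (j ≫ X.hom)).toAlgebra
  haveI : IsScalarTower R Γ(X.left, ⊤) Γ(I.subscheme, ⊤) :=
    IsScalarTower.of_algebraMap_eq (fun r => rfl)
  haveI : IsProper X.hom := hp
  haveI finA : Module.Finite R Γ(X.left, ⊤) := finite_toGlobal X.left X.hom
  haveI : IsProper (j ≫ X.hom) := inferInstance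
  haveI finB : Module.Finite R Γ(I.subscheme, ⊤) := finite_toGlobal I.subscheme (j ≫ X.hom)
  haveI : Module.Finite Γ(X.left, ⊤) Γ(I.subscheme, ⊤) :=
    Module.Finite.of_restrictScalars_finite R _ _
  haveI : Algebra.IsIntegral Γ(X.left, ⊤) Γ(I.subscheme, ⊤) := inferInstance
  -- the structure of algebra over the residue field
  have hkill : ∀ a ∈ IsLocalRing.maximalIdeal R, algebraMap R Γ(I.subscheme, ⊤) a = 0 := by
    intro a ha
    change j.appTop.hom (Coh.toGlobal X.hom a) = 0
    refine subschemeι_appTop_eq_zero I _ (fun U => ?_)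
    rw [hI, specialFibreIdeal_ideal]
    exact Ideal.mem_map_of_mem (toSec X U.1) ha
  letI algkB : Algebra (IsLocalRing.ResidueField R) Γ(I.subscheme, ⊤) :=
    (Ideal.Quotient.lift (IsLocalRing.maximalIdeal R) (algebraMap R Γ(I.subscheme, ⊤))
      hkill).toAlgebra
  haveI : IsScalarTower R (IsLocalRing.ResidueField R) Γ(I.subscheme, ⊤) :=
    IsScalarTower.of_algebraMap_eq (fun r => rfl)
  haveI : Module.Finite (IsLocalRing.ResidueField R) Γ(I.subscheme, ⊤) :=
    Module.Finite.of_restrictScalars_finite R _ _
  haveI : Algebra.IsSeparable (IsLocalRing.ResidueField R) Γ(I.subscheme, ⊤) :=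
    Algebra.IsAlgebraic.isSeparable_of_perfectField
  haveI : Algebra.FormallyUnramified (IsLocalRing.ResidueField R) Γ(I.subscheme, ⊤) :=
    Algebra.FormallyUnramified.of_isSeparable _ _
  haveI : Algebra.FormallyUnramified R (IsLocalRing.ResidueField R) :=
    inferInstanceAs (Algebra.FormallyUnramified R (R ⧸ IsLocalRing.maximalIdeal R))
  haveI : Algebra.FormallyUnramified R Γ(I.subscheme, ⊤) :=
    Algebra.FormallyUnramified.comp R (IsLocalRing.ResidueField R) _
  haveI : Algebra.FormallyUnramified Γ(X.left, ⊤) Γ(I.subscheme, ⊤) :=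
    Algebra.FormallyUnramified.of_restrictScalars R _ _
  -- the geometric input
  let g : Spec Γ(X.left, ⊤) ⟶ Spec (CommRingCat.of R) :=
    Spec.map ((Scheme.ΓSpecIso (CommRingCat.of R)).inv ≫ X.hom.appTop)
  have hfg : X.left.toSpecΓ ≫ g = X.hom := by
    change X.left.toSpecΓ ≫ Spec.map ((Scheme.ΓSpecIso (CommRingCat.of R)).inv ≫ X.hom.appTop) = _
    rw [Spec.map_comp, ← Category.assoc, ← Scheme.toSpecΓ_naturality, Category.assoc,
      toSpecΓ_SpecMap_ΓSpecIso_inv, Category.comp_id]
  haveI : IsProper (X.left.toSpecΓ ≫ g) := by rw [hfg]; exact hp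
  haveI : IsProper X.left.toSpecΓ := IsProper.of_comp X.left.toSpecΓ g
  haveI : IsNoetherianRing Γ(X.left, ⊤) := Algebra.FiniteType.isNoetherianRing R _
  haveI : IsLocallyNoetherian (Spec Γ(X.left, ⊤)) := inferInstance
  haveI : Nonempty I.subscheme := by
    by_contra hne
    rw [not_nonempty_iff] at hne
    have h01 : (0 : Γ(I.subscheme, ⊤)) = 1 :=
      I.subscheme.IsSheaf.section_ext fun z _ => (hne.false z).elim
    exact zero_ne_one h01
  have hfib : ∀ x : X.left, X.left.toSpecΓ x ∈ Set.range (Spec.map j.appTop) →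
      x ∈ Set.range j := by
    intro x hx
    obtain ⟨q, hq⟩ := hx
    rw [hj, I.range_subschemeι, hI, support_specialFibreIdeal]
    change X.hom.base x = IsLocalRing.closedPoint R
    have h1 : X.hom.base x = (Spec.map j.appTop ≫ g) q := by
      rw [← hfg, Scheme.Hom.comp_apply, ← hq, Scheme.Hom.comp_apply]
    rw [h1]
    apply PrimeSpectrum.ext
    have h2 : IsLocalRing.maximalIdeal R ≤ ((Spec.map j.appTop ≫ g) q).asIdeal := by
      intro a ha
      change (Spec.map ((Scheme.ΓSpecIso (CommRingCat.of R)).inv ≫ X.hom.appTop))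
        ((Spec.map j.appTop) q) |>.asIdeal.carrier a
      change j.appTop.hom (X.hom.appTop.hom ((Scheme.ΓSpecIso (CommRingCat.of R)).inv.hom a)) ∈
        q.asIdeal
      have := hkill a ha
      change j.appTop.hom (X.hom.appTop.hom ((Scheme.ΓSpecIso (CommRingCat.of R)).inv.hom a)) = 0
        at this
      rw [this]
      exact q.asIdeal.zero_mem
    exact (Ideal.IsMaximal.eq_of_le (IsLocalRing.maximalIdeal.isMaximal R)
      ((Spec.map j.appTop ≫ g) q).isPrime.ne_top h2).symm
  exact surjective_algebraMap_of_idem_trivial Γ(X.left, ⊤) Γ(I.subscheme, ⊤)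
    (idem_trivial_tensor j hB hfib)

end main

end Groth.Agent.H5.ArS
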