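import Mathlib
import Groth.Agent.Lib.Helper5.ArS.ChainGeo
import Groth.Agent.Lib.Helper5.Nrm.H
import Groth.Agent.Lib.Helper5.FtPts.FiberClosed
import Groth.Agent.Lib.Helper5.AlgSp.RedInduced

/-!
# Existence of a component list for the closed fibre (topological part)
-/

set_option autoImplicit false
set_option linter.style.haveILetI false
universe u
open CategoryTheory CategoryTheory.Limits AlgebraicGeometry TopologicalSpace Opposite

namespace Groth.Agent.H5.ArS

section topo

/-- a proper closed irreducible subspace of an irreducible space has smaller dimension. -/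
theorem topologicalKrullDim_add_one_le {A B : Type*} [TopologicalSpace A] [TopologicalSpace B]
    [IrreducibleSpace A] [IrreducibleSpace B] (g : A → B) (hg : Topology.IsClosedEmbedding g)
    (hne : Set.range g ≠ Set.univ) : topologicalKrullDim A + 1 ≤ topologicalKrullDim B := by
  haveI : Nonempty (IrreducibleCloseds A) :=
    ⟨⟨Set.univ, IrreducibleSpace.isIrreducible_univ A, isClosed_univ⟩⟩
  unfold topologicalKrullDim
  rw [← Order.krullDim_WithTop]
  let top : IrreducibleCloseds B := ⟨Set.univ, IrreducibleSpace.isIrreducible_univ B, isClosed_univ⟩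
  let φ : WithTop (IrreducibleCloseds A) → IrreducibleCloseds B := fun a =>
    WithTop.recTopCoe top (IrreducibleCloseds.map g hg.continuous) a
  refine Order.krullDim_le_of_strictMono φ ?_
  intro a b hab
  induction a using WithTop.recTopCoe with
  | top => exact absurd hab not_top_lt
  | coe a =>
    induction b using WithTop.recTopCoe with
    | top =>
      change IrreducibleCloseds.map g hg.continuous a < top
      refine lt_of_le_of_ne (fun x _ => Set.mem_univ x) ?_
      intro h
      apply hne
      have h1 : (IrreducibleCloseds.map g hg.continuous a : Set B) = Set.univ := by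
        rw [h]; rfl
      rw [IrreducibleCloseds.coe_map] at h1
      have h2 : closure (g '' (a : Set A)) ⊆ Set.range g :=
        hg.isClosed_range.closure_subset_iff.mpr (Set.image_subset_range _ _)
      rw [h1] at h2
      exact Set.eq_univ_of_univ_subset h2
    | coe b =>
      change IrreducibleCloseds.map g hg.continuous a < IrreducibleCloseds.map g hg.continuous b
      exact IrreducibleCloseds.map_strictMono_of_isInducing hg.isInducing
        (WithTop.coe_lt_coe.mp hab)

/-- in a `T₀` space, a nontrivial specialization gives dimension at least one. -/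
theorem one_le_topologicalKrullDim_of_specializes {A : Type*} [TopologicalSpace A] [T0Space A]
    {a b : A} (h : a ⤳ b) (hab : a ≠ b) : 1 ≤ topologicalKrullDim A := by
  unfold topologicalKrullDim
  rw [Order.one_le_krullDim_iff]
  refine ⟨⟨closure {b}, isIrreducible_singleton.closure, isClosed_closure⟩,
    ⟨closure {a}, isIrreducible_singleton.closure, isClosed_closure⟩, ?_⟩
  refine lt_of_le_of_ne ?_ ?_
  · change closure {b} ⊆ closure {a}
    exact (specializes_iff_closure_subset.mp h)
  · intro heq
    apply hab
    have h1 : closure ({b} : Set A) = closure {a} := congrArg (fun z : IrreducibleCloseds A => (z : Set A)) heq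
    have h2 : b ⤳ a := by
      rw [specializes_iff_closure_subset, h1]
    exact (h.antisymm h2).eq

/-- maximal irreducible subsets of a closed set are closed. -/
theorem isClosed_of_maximal_irreducible {A : Type*} [TopologicalSpace A] {F Z : Set A}
    (hF : IsClosed F) (hZ : Maximal (fun S : Set A => IsIrreducible S ∧ S ⊆ F) Z) : IsClosed Z := by
  have h1 : IsIrreducible (closure Z) := hZ.prop.1.closure
  have h2 : closure Z ⊆ F := hF.closure_subset_iff.mpr hZ.prop.2
  have h3 : closure Z ≤ Z := hZ.le_of_ge ⟨h1, h2⟩ subset_closure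
  exact closure_subset_iff_isClosed.mp h3

/-- a closed subset of a Noetherian space has finitely many maximal irreducible subsets. -/
theorem finite_maximal_irreducible {A : Type*} [TopologicalSpace A] [NoetherianSpace A] {F : Set A}
    (hF : IsClosed F) : {Z | Maximal (fun S : Set A => IsIrreducible S ∧ S ⊆ F) Z}.Finite := by
  obtain ⟨S, hSfin, hScl, hSirr, hS⟩ := NoetherianSpace.exists_finite_set_isClosed_irreducible hF
  refine hSfin.subset fun Z hZ => ?_
  have hZ' : Maximal (fun S : Set A => IsIrreducible S ∧ S ⊆ F) Z := hZ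
  have hsub : Z ⊆ ⋃₀ (hSfin.toFinset : Set (Set A)) := by
    rw [Set.Finite.coe_toFinset, ← hS]
    exact hZ'.prop.2
  obtain ⟨t, htS, hZt⟩ := (isIrreducible_iff_sUnion_isClosed.mp hZ'.prop.1) hSfin.toFinset
    (fun z hz => hScl z (hSfin.mem_toFinset.mp hz)) hsub
  have htS' : t ∈ S := hSfin.mem_toFinset.mp htS
  have htF : t ⊆ F := by
    rw [hS]
    exact Set.subset_sUnion_of_mem htS'
  have : t ≤ Z := hZ'.le_of_ge ⟨hSirr t htS', htF⟩ hZt
  have heq : Z = t := le_antisymm hZt this
  rw [heq]
  exact htS'

/-- if a maximal irreducible subset of a connected closed subset `F` of a Noetherian space is a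
singleton, then `F` is that singleton. -/
theorem eq_singleton_of_maximal_singleton {A : Type*} [TopologicalSpace A] [NoetherianSpace A]
    {F : Set A} (hF : IsClosed F) (hconn : _root_.IsPreconnected F) (ξ : A)
    (hZ : Maximal (fun S : Set A => IsIrreducible S ∧ S ⊆ F) {ξ}) : F = {ξ} := by
  set 𝒞 := {Z | Maximal (fun S : Set A => IsIrreducible S ∧ S ⊆ F) Z} with h𝒞
  have hfin : 𝒞.Finite := finite_maximal_irreducible hF
  have hclξ : IsClosed ({ξ} : Set A) := isClosed_of_maximal_irreducible hF hZ
  set W : Set A := ⋃ Z ∈ 𝒞 \ {{ξ}}, Z with hW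
  have hclW : IsClosed W :=
    (hfin.subset Set.sdiff_subset).isClosed_biUnion
      (fun Z hZ' => isClosed_of_maximal_irreducible hF hZ'.1)
  have hcov : F ⊆ {ξ} ∪ W := by
    intro x hx
    have hclF : closure {x} ⊆ F := hF.closure_subset_iff.mpr (Set.singleton_subset_iff.mpr hx)
    obtain ⟨T, hxT, hT⟩ := exists_maximal_irreducible_subset F (closure {x})
      isIrreducible_singleton.closure hclF
    by_cases hTξ : T = {ξ}
    · left
      have : x ∈ T := hxT (subset_closure rfl)
      rw [hTξ] at this
      exact this
    · right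
      exact Set.mem_biUnion (⟨hT, hTξ⟩ : T ∈ 𝒞 \ {{ξ}}) (hxT (subset_closure rfl))
  have hξF : ξ ∈ F := hZ.prop.2 rfl
  by_contra hne
  have hex : ∃ x ∈ F, x ≠ ξ := by
    by_contra hcon
    push Not at hcon
    apply hne
    ext x
    constructor
    · intro hx; exact hcon x hx
    · intro hx; rw [Set.mem_singleton_iff.mp hx]; exact hξF
  obtain ⟨x, hxF, hxξ⟩ := hex
  have hxW : x ∈ W := by
    rcases hcov hxF with h | h
    · exact absurd h hxξ
    · exact h
  obtain ⟨z, -, hz1, hz2⟩ := isPreconnected_closed_iff.1 hconn {ξ} W hclξ hclW hcov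
    ⟨ξ, hξF, rfl⟩ ⟨x, hxF, hxW⟩
  rw [Set.mem_singleton_iff.mp hz1] at hz2
  obtain ⟨Z', hZ'mem, hξZ'⟩ := Set.mem_iUnion₂.mp hz2
  have hZ'max : Maximal (fun S : Set A => IsIrreducible S ∧ S ⊆ F) Z' := hZ'mem.1
  have hle : Z' ≤ {ξ} := hZ.le_of_ge hZ'max.prop (Set.singleton_subset_iff.mpr hξZ')
  have : Z' = {ξ} := le_antisymm hle (Set.singleton_subset_iff.mpr hξZ')
  exact hZ'mem.2 this

end topo

end Groth.Agent.H5.ArS
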