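import Mathlib
import Groth.Agent.Lib.Helper5.ArS.CompListA

/-!
# Existence of a component list for the closed fibre (scheme part)
-/

set_option autoImplicit false
set_option linter.style.haveILetI false
universe u
open CategoryTheory CategoryTheory.Limits AlgebraicGeometry TopologicalSpace Opposite

namespace Groth.Agent.H5.ArS

section scheme

variable {R : Type u} [CommRing R] [IsDomain R] [IsDiscreteValuationRing R]

/-- a scheme with discrete fibres over the spectrum of a discrete valuation ring has dimension at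
most one. -/
theorem not_two_le_dim_of_locallyQuasiFinite {Y : Scheme.{u}} (f : Y ⟶ Spec (CommRingCat.of R))
    [LocallyQuasiFinite f] : ¬ (2 : WithBot ℕ∞) ≤ topologicalKrullDim Y := by
  intro h
  have h' : ((2 : ℕ) : WithBot ℕ∞) ≤ Order.krullDim (IrreducibleCloseds Y) := by
    unfold topologicalKrullDim at h
    simpa using h
  obtain ⟨l, hl⟩ := Order.le_krullDim_iff.mp h'
  -- generic points
  let x : Fin (l.length + 1) → Y := fun i => (l i).isIrreducible.genericPoint
  have hx : ∀ i, closure {x i} = (l i : Set Y) := fun i =>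
    ((l i).isIrreducible.isGenericPoint_genericPoint (l i).isClosed)
  have hspec : ∀ i j, i < j → x j ⤳ x i ∧ x i ≠ x j := by
    intro i j hij
    have hlt : l i < l j := l.strictMono hij
    have hle : (l i : Set Y) ⊆ l j := hlt.le
    refine ⟨?_, ?_⟩
    · rw [specializes_iff_closure_subset, hx, hx]
      exact hle
    · intro heq
      have : (l i : Set Y) = l j := by rw [← hx, ← hx, heq]
      exact hlt.ne (SetLike.coe_injective this)
  have hfib : ∀ a b : Y, a ⤳ b → f a = f b → a = b := by
    intro a b hab hfab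
    exact Groth.Agent.H5.FtPts.eq_of_specializes_of_isDiscrete
      (f.isDiscrete_preimage_singleton (f b)) hfab rfl hab
  have h01 : (⟨0, by omega⟩ : Fin (l.length + 1)) < ⟨1, by omega⟩ := by
    simp [Fin.lt_def]
  have h12 : (⟨1, by omega⟩ : Fin (l.length + 1)) < ⟨2, by omega⟩ := by
    simp [Fin.lt_def]
  obtain ⟨s10, n10⟩ := hspec _ _ h01
  obtain ⟨s21, n21⟩ := hspec _ _ h12
  set x0 := x ⟨0, by omega⟩
  set x1 := x ⟨1, by omega⟩
  set x2 := x ⟨2, by omega⟩
  have hy21 : f x2 ⤳ f x1 := s21.map f.continuous
  have hy10 : f x1 ⤳ f x0 := s10.map f.continuous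
  by_cases heq : f x2 = f x1
  · exact n21 (hfib _ _ s21 heq).symm
  · have hle21 : (f x2 : PrimeSpectrum R).asIdeal ≤ (f x1 : PrimeSpectrum R).asIdeal :=
      (PrimeSpectrum.le_iff_specializes (f x2 : PrimeSpectrum R) (f x1)).mpr hy21
    have hle10 : (f x1 : PrimeSpectrum R).asIdeal ≤ (f x0 : PrimeSpectrum R).asIdeal :=
      (PrimeSpectrum.le_iff_specializes (f x1 : PrimeSpectrum R) (f x0)).mpr hy10
    have hne : (f x1 : PrimeSpectrum R).asIdeal ≠ ⊥ := by
      intro hbot
      apply heq
      apply PrimeSpectrum.ext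
      have : (f x2 : PrimeSpectrum R).asIdeal ≤ ⊥ := hbot ▸ hle21
      rw [hbot]
      exact le_bot_iff.mp this
    have hmax : (f x1 : PrimeSpectrum R).asIdeal.IsMaximal :=
      Ring.DimensionLEOne.maximalOfPrime hne (f x1 : PrimeSpectrum R).isPrime
    have heq10 : f x1 = f x0 := by
      apply PrimeSpectrum.ext
      exact hmax.eq_of_le (f x0 : PrimeSpectrum R).isPrime.ne_top hle10
    exact n10 (hfib _ _ s10 heq10).symm

end scheme

end Groth.Agent.H5.ArS
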