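import Mathlib
import Groth.Agent.Lib.Helper5.ArS.CompListB

/-!
# Existence of a component list for the closed fibre (dimension of components)
-/

set_option autoImplicit false
set_option linter.style.haveILetI false
universe u
open CategoryTheory CategoryTheory.Limits AlgebraicGeometry TopologicalSpace Opposite

namespace Groth.Agent.H5.ArS

section scheme

variable {R : Type u} [CommRing R] [IsDomain R] [IsDiscreteValuationRing R]
  (X : Over (Spec (CommRingCat.of R)))

theorem noetherianSpace_of_isProper (hp : IsProper X.hom) : NoetherianSpace X.left := by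
  haveI : IsProper X.hom := hp
  haveI : IsLocallyNoetherian X.left := LocallyOfFiniteType.isLocallyNoetherian X.hom
  haveI : CompactSpace X.left := (quasiCompact_iff_compactSpace (f := X.hom)).mp inferInstance
  haveI : IsNoetherian X.left := {}
  infer_instance

/-- for a flat (nonempty) scheme over a discrete valuation ring the closed fibre is not everything. -/
theorem specialFibreSet_ne_univ [Flat X.hom] [Nonempty X.left] :
    Models.specialFibreSet R X ≠ Set.univ := by
  intro hF
  have hgen := Flat.generalizingMap (f := X.hom)
  obtain ⟨x⟩ : Nonempty X.left := inferInstance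
  let η : PrimeSpectrum R := ⟨⊥, Ideal.isPrime_bot⟩
  have hη : (η : Spec (CommRingCat.of R)) ⤳ X.hom x :=
    (PrimeSpectrum.le_iff_specializes η (X.hom x)).mp (bot_le : (⊥ : Ideal R) ≤ _)
  obtain ⟨x', -, hx'⟩ := hgen hη
  have hmem : x' ∈ Models.specialFibreSet R X := hF ▸ Set.mem_univ x'
  have h2 : X.hom x' = IsLocalRing.closedPoint R := hmem
  rw [hx'] at h2
  have h3 : (⊥ : Ideal R) = IsLocalRing.maximalIdeal R := congrArg PrimeSpectrum.asIdeal h2
  exact IsDiscreteValuationRing.not_a_field R h3.symm

/-- **the components of the closed fibre of a proper flat integral surface with connected closed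
fibre are curves.** -/
theorem dim_closure_eq_one [IsIntegral X.left] [Flat X.hom] (hp : IsProper X.hom)
    (hdim : topologicalKrullDim X.left = 2)
    (hconn : _root_.IsPreconnected (Models.specialFibreSet R X)) (ξ : X.left)
    (hZ : Maximal (fun S : Set X.left => IsIrreducible S ∧ S ⊆ Models.specialFibreSet R X)
      (closure {ξ})) :
    topologicalKrullDim (Scheme.IdealSheafData.vanishingIdeal
      (⟨closure {ξ}, isClosed_closure⟩ : Closeds X.left)).subscheme = 1 := by
  haveI : IsProper X.hom := hp
  haveI : NoetherianSpace X.left := noetherianSpace_of_isProper X hp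
  set Zc : Closeds X.left := ⟨closure {ξ}, isClosed_closure⟩ with hZc
  set I := Scheme.IdealSheafData.vanishingIdeal Zc with hI
  haveI : IsIntegral I.subscheme := Groth.Agent.H5.NrmQA2.isIntegral_closure_point ξ
  have hrange : Set.range I.subschemeι = closure {ξ} := by
    rw [I.range_subschemeι, hI, Scheme.IdealSheafData.coe_support_vanishingIdeal]
    rfl
  have hemb : Topology.IsClosedEmbedding I.subschemeι := I.subschemeι.isClosedEmbedding
  have hFne := specialFibreSet_ne_univ X
  have hne : Set.range I.subschemeι ≠ Set.univ := by
    rw [hrange]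
    intro h
    apply hFne
    exact Set.eq_univ_of_univ_subset (h ▸ hZ.prop.2)
  have hle := topologicalKrullDim_add_one_le _ hemb hne
  rw [hdim] at hle
  have hle1 : topologicalKrullDim I.subscheme ≤ 1 := by
    generalize topologicalKrullDim I.subscheme = d at hle
    induction d using WithBot.recBotCoe with
    | bot => exact bot_le
    | coe e =>
      have h1 : ((e + 1 : ℕ∞) : WithBot ℕ∞) ≤ ((2 : ℕ∞) : WithBot ℕ∞) := by
        simpa using hle
      have h2 : e + 1 ≤ (1 : ℕ∞) + 1 := by
        have := WithBot.coe_le_coe.mp h1
        rwa [show (2 : ℕ∞) = 1 + 1 from (one_add_one_eq_two).symm] at this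
      have h3 : e ≤ 1 := (ENat.add_le_add_iff_right (ENat.one_ne_top)).mp h2
      exact_mod_cast h3
  have hge1 : 1 ≤ topologicalKrullDim I.subscheme := by
    by_contra hcon
    have hsub : ∀ z : I.subscheme, z = genericPoint I.subscheme := by
      intro z
      by_contra hz
      exact hcon (one_le_topologicalKrullDim_of_specializes (genericPoint_specializes z)
        (Ne.symm hz))
    have hsing : closure {ξ} = ({ξ} : Set X.left) := by
      have hξ : ξ ∈ Set.range I.subschemeι := by rw [hrange]; exact subset_closure rfl
      obtain ⟨z0, hz0⟩ := hξ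
      rw [← hrange]
      ext y
      constructor
      · rintro ⟨z, rfl⟩
        rw [hsub z, ← hsub z0, hz0]
        rfl
      · intro hy
        rw [Set.mem_singleton_iff.mp hy]
        exact ⟨z0, hz0⟩
    rw [hsing] at hZ
    have hF := eq_singleton_of_maximal_singleton (Models.isClosed_specialFibreSet R X) hconn ξ hZ
    have hfin : (X.hom ⁻¹' {IsLocalRing.closedPoint R}).Finite := by
      change (Models.specialFibreSet R X).Finite
      rw [hF]
      exact Set.finite_singleton ξ
    obtain ⟨V, hV, hVfin⟩ :=
      exists_isFinite_morphismRestrict_of_finite_preimage_singleton X.hom _ hfin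
    have hVtop : V = ⊤ := (IsLocalRing.closedPoint_mem_iff V).mp hV
    haveI : IsFinite X.hom :=
      IsZariskiLocalAtTarget.of_iSup_eq_top (P := @IsFinite) (fun _ : Unit => V)
        (by simp [hVtop]) (fun _ => hVfin)
    exact not_two_le_dim_of_locallyQuasiFinite X.hom (hdim ▸ le_refl _)
  exact le_antisymm hle1 hge1

end scheme

end Groth.Agent.H5.ArS
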