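import Mathlib
import Groth.Agent.Lib.Helper5.ArS.CompListC

/-!
# Existence of a component list for the closed fibre
-/

set_option autoImplicit false
set_option linter.style.haveILetI false
universe u
open CategoryTheory CategoryTheory.Limits AlgebraicGeometry TopologicalSpace Opposite

namespace Groth.Agent.H5.ArS

section scheme

variable {R : Type u} [CommRing R] [IsDomain R] [IsDiscreteValuationRing R]
  (X : Over (Spec (CommRingCat.of R)))

/-- the vertical prime divisor with generic point `ξ`. -/
theorem exists_vertComp (ξ : X.left) (hξ : closure {ξ} ⊆ Models.specialFibreSet R X)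
    (hdim : topologicalKrullDim (Scheme.IdealSheafData.vanishingIdeal
      (⟨closure {ξ}, isClosed_closure⟩ : Closeds X.left)).subscheme = 1) :
    ∃ Γ : ArSurf.VertComp R X, Set.range Γ.ι = closure {ξ} := by
  set Zc : Closeds X.left := ⟨closure {ξ}, isClosed_closure⟩ with hZc
  set I := Scheme.IdealSheafData.vanishingIdeal Zc with hI
  haveI : IsIntegral I.subscheme := Groth.Agent.H5.NrmQA2.isIntegral_closure_point ξ
  have hrange : Set.range I.subschemeι = closure {ξ} := by
    rw [I.range_subschemeι, hI, Scheme.IdealSheafData.coe_support_vanishingIdeal]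
    rfl
  haveI : IsClosedImmersion (Spec.map (CommRingCat.ofHom (IsLocalRing.residue R))) :=
    IsClosedImmersion.spec_of_surjective _ IsLocalRing.residue_surjective
  have hsub : Set.range (I.subschemeι ≫ X.hom) ⊆
      Set.range (Spec.map (CommRingCat.ofHom (IsLocalRing.residue R))) := by
    rintro _ ⟨z, rfl⟩
    have hz : I.subschemeι z ∈ Models.specialFibreSet R X := hξ (hrange ▸ ⟨z, rfl⟩)
    have h1 : (I.subschemeι ≫ X.hom) z = IsLocalRing.closedPoint R := hz
    rw [h1]
    exact ⟨IsLocalRing.closedPoint (IsLocalRing.ResidueField R),
      IsLocalRing.comap_closedPoint (IsLocalRing.residue R)⟩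
  obtain ⟨g, hg⟩ := Groth.Agent.H5.AlgSp.exists_lift_of_isReduced_of_range_subset
    (I.subschemeι ≫ X.hom) (Spec.map (CommRingCat.ofHom (IsLocalRing.residue R))) hsub
  exact ⟨{ curve := Over.mk g
           ι := I.subschemeι
           isClosedImmersion := inferInstance
           isIntegral := ‹_›
           dim_eq := hdim
           w := hg.symm }, hrange⟩

/-- **existence of a component list**: the closed fibre of a proper flat integral surface over a
discrete valuation ring, with connected closed fibre, has a component list. -/
theorem exists_componentList [IsIntegral X.left] [Flat X.hom] (hp : IsProper X.hom)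
    (hdim : topologicalKrullDim X.left = 2)
    (hconn : _root_.IsPreconnected (Models.specialFibreSet R X)) :
    ∃ (n : ℕ) (Γ : Fin n → ArSurf.VertComp R X), Models.IsComponentList R X Γ := by
  haveI : NoetherianSpace X.left := noetherianSpace_of_isProper X hp
  have hfin : (Models.fibreComponents R X).Finite :=
    finite_maximal_irreducible (Models.isClosed_specialFibreSet R X)
  have hex : ∀ Z : Models.fibreComponents R X, ∃ Γ : ArSurf.VertComp R X,
      Set.range Γ.ι = (Z : Set X.left) := by
    rintro ⟨Z, hZ⟩
    have hZ' : Maximal (fun S : Set X.left => IsIrreducible S ∧ S ⊆ Models.specialFibreSet R X) Z :=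
      hZ
    have hcl : IsClosed Z := isClosed_of_maximal_irreducible (Models.isClosed_specialFibreSet R X) hZ'
    have hgen : IsGenericPoint hZ'.prop.1.genericPoint Z :=
      hZ'.prop.1.isGenericPoint_genericPoint hcl
    set ξ := hZ'.prop.1.genericPoint with hξ
    have hcl' : closure {ξ} = Z := hgen
    rw [← hcl'] at hZ'
    obtain ⟨Γ, hΓ⟩ := exists_vertComp X ξ hZ'.prop.2 (dim_closure_eq_one X hp hdim hconn ξ hZ')
    exact ⟨Γ, hΓ.trans hcl'⟩
  choose G hG using hex
  haveI : Finite (Models.fibreComponents R X) := hfin
  let e := Finite.equivFin (Models.fibreComponents R X)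
  refine ⟨Nat.card (Models.fibreComponents R X), fun i => G (e.symm i), ?_, ?_⟩
  · intro i j hij
    simp only [hG] at hij
    have := Subtype.ext hij
    exact e.symm.injective this
  · ext Z
    constructor
    · rintro ⟨i, rfl⟩
      simp only [hG]
      exact (e.symm i).2
    · intro hZ
      refine ⟨e ⟨Z, hZ⟩, ?_⟩
      simp only [hG, Equiv.symm_apply_apply]

end scheme

end Groth.Agent.H5.ArS
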