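import Mathlib
import Groth.Agent.Lib.Helper5.ArS.Base
import Groth.Agent.Lib.Helper5.Lim.ModuleIso
import Groth.Agent.Lib.Helper5.IntN.Basic

/-!
# Invertible modules pulled back along a constant map (S7935)
-/

set_option autoImplicit false
set_option linter.style.haveILetI false
universe u
open CategoryTheory CategoryTheory.Limits AlgebraicGeometry TopologicalSpace Opposite

namespace Groth.Agent.H5.ArS

open Groth.Agent.LD Groth.Agent.LD.QC Groth.Agent.H5.IntN

/-- the degree of a trivial module is zero. -/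
theorem curveDeg_of_iso_unit (k : Type u) [Field k] {Y : Scheme.{u}}
    [Y.Over (Spec (CommRingCat.of k))] (N : Y.Modules) (e : N ≅ Coh.structureModule Y) :
    ArSurf.curveDeg k Y N = 0 := by
  unfold ArSurf.curveDeg
  rw [eulerCharLE_iso k e 1, sub_self]

/-- the pullback of an invertible module along a morphism with image in a trivialising open. -/
theorem nonempty_pullback_iso_unit {Y X : Scheme.{u}} (g : Y ⟶ X) (M : X.Modules) (U : X.Opens)
    (φ : M.restrict U.ι ≅ Coh.structureModule (↑U)) (hg : Set.range g ⊆ (U : Set X)) :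
    Nonempty ((Scheme.Modules.pullback g).obj M ≅ Coh.structureModule Y) := by
  have hr : Set.range g ⊆ Set.range U.ι := by
    rw [Scheme.Opens.range_ι]; exact hg
  let g' : Y ⟶ (U : Scheme.{u}) := IsOpenImmersion.lift U.ι g hr
  have hg' : g' ≫ U.ι = g := IsOpenImmersion.lift_fac U.ι g hr
  have e1 := (Groth.Agent.H5.Lim.pullbackCompIso g' U.ι g hg').app M
  have e2 : (Scheme.Modules.pullback U.ι).obj M ≅ Coh.structureModule (↑U) :=
    ((Scheme.Modules.restrictFunctorIsoPullback U.ι).app M).symm ≪≫ φ
  exact ⟨e1.symm ≪≫ (Scheme.Modules.pullback g').mapIso e2 ≪≫ pbUnitIso g'⟩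

/-- the pullback of an invertible module along a morphism with a one point image is trivial. -/
theorem nonempty_pullback_iso_unit_of_range_singleton {Y X : Scheme.{u}} (g : Y ⟶ X) (y : X)
    (hg : Set.range g = {y}) (M : X.Modules) (hM : PicF.IsInvertible M) :
    Nonempty ((Scheme.Modules.pullback g).obj M ≅ Coh.structureModule Y) := by
  obtain ⟨U, hyU, ⟨φ⟩⟩ := hM y
  exact nonempty_pullback_iso_unit g M U φ (by rw [hg]; exact Set.singleton_subset_iff.mpr hyU)

/-- **S7935**. -/
theorem inter_pullback_eq_zero {R : Type u} [CommRing R] [IsDomain R] [IsDiscreteValuationRing R]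
    {X : Over (Spec (CommRingCat.of R))} {Y : Scheme.{u}} (f : X.left ⟶ Y)
    (E : ArSurf.VertComp R X) (y : Y) (hE : Set.range (E.ι ≫ f) = {y})
    (M : Y.Modules) (hM : PicF.IsInvertible M) :
    ArSurf.inter R X ((Scheme.Modules.pullback f).obj M) E = 0 := by
  obtain ⟨e⟩ := nonempty_pullback_iso_unit_of_range_singleton (E.ι ≫ f) y hE M hM
  have e1 := (Groth.Agent.H5.Lim.pullbackCompIso E.ι f (E.ι ≫ f) rfl).app M
  exact curveDeg_of_iso_unit _ _ (e1 ≪≫ e)

end Groth.Agent.H5.ArS
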