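import Mathlib
import Groth.Agent.Lib.Helper9.Misc.GLM1

/-!
# Factorization through a contraction: a morphism constant on the fibres of `f₁` factors through
`f₁` when `O_{Y₁} → f₁_* O_X` is an isomorphism on affine opens
-/

set_option autoImplicit false
set_option linter.style.haveILetI false
universe u
open CategoryTheory CategoryTheory.Limits AlgebraicGeometry TopologicalSpace Opposite

namespace Groth.Agent.H5.ArS

/-- local factorization through a morphism inducing an isomorphism on global sections, into an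
affine target. -/
theorem exists_fac_of_isIso_appTop {T U V : Scheme.{u}} [IsAffine V] (a : T ⟶ U)
    [IsIso a.appTop] (φ : T ⟶ V) : ∃ g' : U ⟶ V, a ≫ g' = φ := by
  refine ⟨U.toSpecΓ ≫ Spec.map (inv a.appTop) ≫ Spec.map φ.appTop ≫ V.isoSpec.inv, ?_⟩
  rw [← Category.assoc, Scheme.toSpecΓ_naturality, Category.assoc, ← Category.assoc (Spec.map _),
    ← Spec.map_comp, IsIso.inv_hom_id, Spec.map_id, Category.id_comp, ← Category.assoc,
    ← Scheme.toSpecΓ_naturality, Category.assoc]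
  have : V.toSpecΓ ≫ V.isoSpec.inv = 𝟙 V := V.isoSpec.hom_inv_id
  rw [this, Category.comp_id]

section

variable {X Y₁ Y₂ : Scheme.{u}} (f₁ : X ⟶ Y₁) (f₂ : X ⟶ Y₂)

/-- restriction of morphisms to smaller opens. -/
theorem morphismRestrict_homOfLE {U' U : Y₁.Opens} (hle : U' ≤ U) :
    (f₁ ∣_ U') ≫ Y₁.homOfLE hle = X.homOfLE (f₁.preimage_mono hle) ≫ (f₁ ∣_ U) := by
  rw [← cancel_mono U.ι]
  simp only [Category.assoc, Scheme.homOfLE_ι, morphismRestrict_ι, Scheme.homOfLE_ι_assoc]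

/-- uniqueness of the factorization over an open. -/
theorem fac_unique [IsReduced Y₁] [Y₂.IsSeparated] (hsurj : Function.Surjective f₁.base)
    (U : Y₁.Opens) (a b : (U : Scheme.{u}) ⟶ Y₂)
    (ha : (f₁ ∣_ U) ≫ a = (f₁ ⁻¹ᵁ U).ι ≫ f₂) (hb : (f₁ ∣_ U) ≫ b = (f₁ ⁻¹ᵁ U).ι ≫ f₂) :
    a = b := by
  haveI : Surjective (f₁ ∣_ U) := by
    refine ⟨fun u => ?_⟩
    obtain ⟨x, hx⟩ := hsurj u.1
    refine ⟨⟨x, by change f₁.base x ∈ U; rw [hx]; exact u.2⟩, ?_⟩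
    apply Subtype.ext
    rw [morphismRestrict_base_coe]
    exact hx
  exact ext_of_isDominant_of_isSeparated (terminal.from Y₂) (terminal.hom_ext _ _) (f₁ ∣_ U)
    (ha.trans hb.symm)

/-- **factorization through a contraction.** -/
theorem exists_fac_of_const_on_fibres [IsReduced Y₁] [Y₂.IsSeparated]
    (hcl : IsClosedMap f₁.base) (hsurj : Function.Surjective f₁.base)
    (hiso : ∀ (U : Y₁.Opens), IsAffineOpen U → (U : Set Y₁).Nonempty → IsIso (f₁.app U))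
    (hconst : ∀ y₁ : Y₁, ∃ y₂ : Y₂, f₁.base ⁻¹' {y₁} ⊆ f₂.base ⁻¹' {y₂}) :
    ∃ g : Y₁ ⟶ Y₂, f₁ ≫ g = f₂ := by
  -- local existence
  have hloc : ∀ y₁ : Y₁, ∃ (W : Y₁.Opens) (h : (W : Scheme.{u}) ⟶ Y₂), y₁ ∈ W ∧
      (f₁ ∣_ W) ≫ h = (f₁ ⁻¹ᵁ W).ι ≫ f₂ := by
    intro y₁
    obtain ⟨y₂, hy₂⟩ := hconst y₁
    obtain ⟨V, hV, hy₂V, -⟩ := exists_isAffineOpen_mem_and_subset (x := y₂)
      (U := (⊤ : Y₂.Opens)) trivial
    have hclosed : IsClosed (f₁.base '' ((f₂ ⁻¹ᵁ V : X.Opens) : Set X)ᶜ) :=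
      hcl _ (f₂ ⁻¹ᵁ V).isOpen.isClosed_compl
    let U₀ : Y₁.Opens := ⟨(f₁.base '' ((f₂ ⁻¹ᵁ V : X.Opens) : Set X)ᶜ)ᶜ, hclosed.isOpen_compl⟩
    have hy₁U₀ : y₁ ∈ U₀ := by
      rintro ⟨x, hx, hxy⟩
      apply hx
      have : x ∈ f₂.base ⁻¹' {y₂} := hy₂ hxy
      change f₂.base x ∈ V
      rw [Set.mem_preimage, Set.mem_singleton_iff] at this
      rw [this]
      exact hy₂V
    have hU₀ : ∀ x : X, f₁.base x ∈ U₀ → f₂.base x ∈ V := by
      intro x hx
      by_contra hcon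
      exact hx ⟨x, hcon, rfl⟩
    obtain ⟨U, hU, hy₁U, hUle⟩ := exists_isAffineOpen_mem_and_subset (x := y₁) (U := U₀) hy₁U₀
    haveI : IsAffine (V : Scheme.{u}) := hV
    haveI : IsIso ((f₁ ∣_ U).appTop) := by
      rw [morphismRestrict_appTop]
      have h1 : ∀ U' : Y₁.Opens, U' = U → IsIso (f₁.app U') := by
        intro U' hU'
        rw [hU']
        exact hiso U hU ⟨y₁, hy₁U⟩
      have h2 := h1 (U.ι ''ᵁ ⊤) (by simp)
      have h3 : ∀ {A B : X.Opens} (h : A = B), IsIso (X.presheaf.map (eqToHom h).op) := by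
        intro A B h
        subst h
        simp only [eqToHom_refl, op_id, CategoryTheory.Functor.map_id]
        infer_instance
      exact @IsIso.comp_isIso _ _ _ _ _ _ _ h2 (h3 _)
    have hrange : Set.range ((f₁ ⁻¹ᵁ U).ι ≫ f₂).base ⊆ Set.range V.ι.base := by
      rintro _ ⟨x, rfl⟩
      rw [Scheme.Opens.range_ι]
      exact hU₀ x.1 (hUle x.2)
    let φ : ((f₁ ⁻¹ᵁ U : X.Opens) : Scheme.{u}) ⟶ (V : Scheme.{u}) :=
      IsOpenImmersion.lift V.ι ((f₁ ⁻¹ᵁ U).ι ≫ f₂) hrange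
    have hφ : φ ≫ V.ι = (f₁ ⁻¹ᵁ U).ι ≫ f₂ := IsOpenImmersion.lift_fac _ _ _
    obtain ⟨g', hg'⟩ := exists_fac_of_isIso_appTop (f₁ ∣_ U) φ
    refine ⟨U, g' ≫ V.ι, hy₁U, ?_⟩
    rw [← Category.assoc, hg', hφ]
  choose W h hyW hh using hloc
  have hcov : IsOpenCover W := by
    rw [IsOpenCover, eq_top_iff]
    intro y _
    exact Opens.mem_iSup.mpr ⟨y, hyW y⟩
  let 𝒰 := Y₁.openCoverOfIsOpenCover W hcov
  have hcompat : ∀ x y : Y₁,
      pullback.fst (𝒰.f x) (𝒰.f y) ≫ h x = pullback.snd _ _ ≫ h y := by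
    intro x y
    change pullback.fst (W x).ι (W y).ι ≫ h x = pullback.snd (W x).ι (W y).ι ≫ h y
    rw [← cancel_epi (isPullback_opens_inf (W x) (W y)).isoPullback.hom,
      IsPullback.isoPullback_hom_fst_assoc, IsPullback.isoPullback_hom_snd_assoc]
    apply fac_unique f₁ f₂ hsurj (W x ⊓ W y)
    · rw [← Category.assoc, morphismRestrict_homOfLE, Category.assoc, hh x, Scheme.homOfLE_ι_assoc]
    · rw [← Category.assoc, morphismRestrict_homOfLE, Category.assoc, hh y, Scheme.homOfLE_ι_assoc]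
  refine ⟨𝒰.glueMorphisms h hcompat, ?_⟩
  apply Groth.Agent.H9.GLM.hom_ext_of_local
  intro x
  refine ⟨f₁ ⁻¹ᵁ W (f₁.base x), hyW (f₁.base x), ?_⟩
  rw [← hh (f₁.base x), ← Category.assoc, ← morphismRestrict_ι, Category.assoc]
  congr 1
  exact Scheme.Cover.ι_glueMorphisms 𝒰 h hcompat (f₁.base x)

end

end Groth.Agent.H5.ArS
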