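import Mathlib
import Groth.Agent.Lib.Helper5.ArS.ContrFactor
import Groth.Agent.Lib.Lead.Stein.Birational
import Groth.Agent.Lib.Helper6.HC2
import Groth.Agent.Lib.Helper1.PushO4
import Groth.Agent.Lib.Helper5.AG.ProjProper

/-!
# Uniqueness of contractions (S7909)
-/

set_option autoImplicit false
set_option linter.style.haveILetI false
universe u
open CategoryTheory CategoryTheory.Limits AlgebraicGeometry TopologicalSpace Opposite

namespace Groth.Agent.H5.ArS

/-- a preconnected subset of a finite set of closed points has at most one point. -/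
theorem subsingleton_of_isPreconnected_of_finite {α : Type*} [TopologicalSpace α] {S T : Set α}
    (hS : _root_.IsPreconnected S) (hT : T.Finite) (hcl : ∀ t ∈ T, IsClosed ({t} : Set α))
    (hST : S ⊆ T) : S.Subsingleton := by
  intro a ha b hb
  by_contra hab
  have hcl' : IsClosed (T \ {a}) := by
    have h1 : T \ {a} = ⋃ t ∈ T \ {a}, {t} := by
      ext s
      simp
    rw [h1]
    exact (hT.subset Set.sdiff_subset).isClosed_biUnion (fun t ht => hcl t ht.1)
  obtain ⟨z, -, hz1, hz2⟩ := isPreconnected_closed_iff.1 hS {a} (T \ {a}) (hcl a (hST ha)) hcl'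
    (fun s hs => by
      by_cases h : s = a
      · left; exact h
      · right; exact ⟨hST hs, h⟩)
    ⟨a, ha, rfl⟩ ⟨b, hb, hST hb, fun h => hab h.symm⟩
  exact hz2.2 hz1

/-- a proper birational morphism to a normal locally Noetherian integral scheme induces
isomorphisms `O_Y(U) ≅ O_X(f⁻¹U)` on nonempty affine opens. -/
theorem isIso_app_of_birational {X Y : Scheme.{u}} [IsIntegral X] [IsIntegral Y] (f : X ⟶ Y)
    [IsProper f] [IsLocallyNoetherian Y]
    (hnor : ∀ q : Y, IsIntegrallyClosed (Y.presheaf.stalk q))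
    (hgen : f.base (genericPoint X) = genericPoint Y)
    (hbir : IsIso (f.stalkMap (genericPoint X)))
    (U : Y.Opens) (hU : IsAffineOpen U) (hne : (U : Set Y).Nonempty) : IsIso (f.app U) := by
  obtain ⟨y, hyU⟩ := hne
  haveI : Nonempty U := ⟨⟨y, hyU⟩⟩
  have hY : Pi1.IsNormalScheme Y := fun q => ⟨inferInstance, hnor q⟩
  have hic := (Groth.Agent.H5.AG.isNormalScheme_iff_affine Y).1 hY U hU
  have hX : genericPoint X ∈ f ⁻¹ᵁ U := by
    change f.base (genericPoint X) ∈ U
    rw [hgen]
    exact ((genericPoint_spec Y).mem_open_set_iff U.isOpen).mpr ⟨y, trivial, hyU⟩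
  refine Groth.Agent.LD.Stein.isIso_app_of_range_le f Groth.Agent.H6.HC.finCoh hgen U hU hic hX
    fun b => ?_
  refine ⟨(Y.presheaf.stalkCongr (Inseparable.of_eq hgen)).hom.hom
    ((inv (f.stalkMap (genericPoint X))).hom
      (X.presheaf.germ (f ⁻¹ᵁ U) (genericPoint X) hX b)), ?_⟩
  have h1 : (Y.presheaf.stalkCongr (Inseparable.of_eq hgen)).inv.hom
      ((Y.presheaf.stalkCongr (Inseparable.of_eq hgen)).hom.hom
        ((inv (f.stalkMap (genericPoint X))).hom
          (X.presheaf.germ (f ⁻¹ᵁ U) (genericPoint X) hX b))) =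
      (inv (f.stalkMap (genericPoint X))).hom
          (X.presheaf.germ (f ⁻¹ᵁ U) (genericPoint X) hX b) := by
    have := (Y.presheaf.stalkCongr (Inseparable.of_eq hgen)).hom_inv_id
    exact congr($(this).hom _)
  rw [h1]
  have h2 := IsIso.inv_hom_id (f.stalkMap (genericPoint X))
  exact congr($(h2).hom _)

/-- **rigidity**: a morphism contracting the exceptional locus `E` of a contraction `f₁` to finitely
many closed points factors through `f₁`. -/
theorem exists_fac_of_contraction {X Y₁ Y₂ : Scheme.{u}} [IsIntegral X] [IsIntegral Y₁]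
    [IsLocallyNoetherian Y₁] [Y₂.IsSeparated]
    (hnor : ∀ q : Y₁, IsIntegrallyClosed (Y₁.presheaf.stalk q))
    (f₁ : X ⟶ Y₁) [IsProper f₁] (f₂ : X ⟶ Y₂)
    (E : Set X) (hE : IsClosed E)
    (hne : (f₁.base '' E)ᶜ.Nonempty)
    (hpre : f₁.base ⁻¹' (f₁.base '' E) = E)
    (hiso : ∀ V : Y₁.Opens, (V : Set Y₁) ∩ f₁.base '' E = ∅ → IsIso (f₁ ∣_ V))
    (T : Set Y₂) (hT : T.Finite) (hTcl : ∀ t ∈ T, IsClosed ({t} : Set Y₂))
    (hET : f₂.base '' E ⊆ T) :
    Function.Surjective f₁.base ∧ ∃ g : Y₁ ⟶ Y₂, f₁ ≫ g = f₂ := by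
  have hcl : IsClosedMap f₁.base := f₁.isClosedMap
  have hclE : IsClosed (f₁.base '' E) := hcl _ hE
  let V : Y₁.Opens := ⟨(f₁.base '' E)ᶜ, hclE.isOpen_compl⟩
  have hVE : (V : Set Y₁) ∩ f₁.base '' E = ∅ := Set.compl_inter_self _
  haveI hisoV : IsIso (f₁ ∣_ V) := hiso V hVE
  obtain ⟨hgen, hbirs⟩ := Groth.Agent.H1.PushO.birational_of_isIso_morphismRestrict f₁ V hne hisoV
  have hsurj : Function.Surjective f₁.base := by
    intro y
    by_cases hy : y ∈ f₁.base '' E
    · obtain ⟨x, -, hx⟩ := hy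
      exact ⟨x, hx⟩
    · obtain ⟨x, hx⟩ := (f₁ ∣_ V).homeomorph.surjective ⟨y, hy⟩
      refine ⟨x.1, ?_⟩
      have := congrArg Subtype.val hx
      rwa [Scheme.Hom.homeomorph_apply, morphismRestrict_base_coe] at this
  refine ⟨hsurj, ?_⟩
  apply exists_fac_of_const_on_fibres f₁ f₂ hcl hsurj
  · intro U hU hUne
    exact isIso_app_of_birational f₁ hnor hgen hbirs U hU hUne
  · intro y₁
    obtain ⟨x₀, hx₀⟩ := hsurj y₁
    refine ⟨f₂.base x₀, ?_⟩
    intro x hx
    rw [Set.mem_preimage, Set.mem_singleton_iff] at hx ⊢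
    by_cases hy : y₁ ∈ f₁.base '' E
    · -- the fibre is connected and contained in `E`
      have hY : Pi1.IsNormalScheme Y₁ := fun q => ⟨inferInstance, hnor q⟩
      haveI := Groth.Agent.LD.Stein.connectedSpace_fiber_of_birational (f := f₁)
        Groth.Agent.H6.HC.finCoh Groth.Agent.H6.HC.formalBij hY hgen hbirs y₁
      have hF : _root_.IsPreconnected (f₁.base ⁻¹' {y₁}) := by
        rw [← Scheme.Hom.range_fiberι]
        exact isPreconnected_range (f₁.fiberι y₁).continuous
      have hFE : f₁.base ⁻¹' {y₁} ⊆ E := by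
        rw [← hpre]
        intro z hz
        rw [Set.mem_preimage, Set.mem_singleton_iff] at hz
        rw [Set.mem_preimage, hz]
        exact hy
      have hS : _root_.IsPreconnected (f₂.base '' (f₁.base ⁻¹' {y₁})) :=
        hF.image _ f₂.continuous.continuousOn
      have hsub := subsingleton_of_isPreconnected_of_finite hS hT hTcl
        ((Set.image_mono hFE).trans hET)
      exact hsub ⟨x, hx, rfl⟩ ⟨x₀, hx₀, rfl⟩
    · -- the fibre is a single point
      have hxV : f₁.base x ∈ V := by rw [hx]; exact hy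
      have hx₀V : f₁.base x₀ ∈ V := by rw [hx₀]; exact hy
      have hinj := (f₁ ∣_ V).homeomorph.injective
      have : (⟨x, hxV⟩ : (f₁ ⁻¹ᵁ V : X.Opens)) = ⟨x₀, hx₀V⟩ := by
        apply hinj
        apply Subtype.ext
        rw [Scheme.Hom.homeomorph_apply, Scheme.Hom.homeomorph_apply, morphismRestrict_base_coe,
          morphismRestrict_base_coe]
        exact hx.trans hx₀.symm
      have h2 := congrArg Subtype.val this
      change x = x₀ at h2
      rw [h2]

end Groth.Agent.H5.ArS
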