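import Mathlib
import Groth.Agent.Lib.Helper5.ArS.ContrUniq

/-!
# Uniqueness of contractions (S7909), `Over (Spec R)` form
-/

set_option autoImplicit false
set_option linter.style.haveILetI false
universe u
open CategoryTheory CategoryTheory.Limits AlgebraicGeometry TopologicalSpace Opposite

namespace Groth.Agent.H5.ArS

/-- a morphism over `S` is determined by its restriction along a surjective morphism from a
reduced source, when the target is separated over `S`. -/
theorem over_hom_ext_of_surjective {S : Scheme.{u}} {X Y Z : Over S} (f : X ⟶ Y)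
    (hsurj : Function.Surjective f.left.base) [IsReduced Y.left] [IsSeparated Z.hom]
    (a b : Y ⟶ Z) (h : f ≫ a = f ≫ b) : a = b := by
  haveI : Surjective f.left := ⟨hsurj⟩
  apply Over.OverMorphism.ext
  apply ext_of_isDominant_of_isSeparated Z.hom (by rw [Over.w, Over.w]) f.left
  have := congrArg CommaMorphism.left h
  simpa using this

/-- subsingleton spaces have dimension `≤ 0`. -/
theorem topologicalKrullDim_le_zero_of_subsingleton (Z : Type u) [TopologicalSpace Z]
    [Subsingleton Z] : topologicalKrullDim Z ≤ 0 := by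
  haveI : Subsingleton (IrreducibleCloseds Z) := by
    refine ⟨fun s t => ?_⟩
    apply IrreducibleCloseds.ext
    have hs : (s : Set Z) = Set.univ := Subsingleton.eq_univ_of_nonempty s.isIrreducible'.nonempty
    have ht : (t : Set Z) = Set.univ := Subsingleton.eq_univ_of_nonempty t.isIrreducible'.nonempty
    rw [hs, ht]
  exact Order.krullDim_nonpos_of_subsingleton

variable {R : Type u} [CommRing R] [IsDomain R] [IsDiscreteValuationRing R]
  {X : Over (Spec (CommRingCat.of R))}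

/-- projective implies proper. -/
theorem isProper_of_isProjectiveOver (Y : Over (Spec (CommRingCat.of R)))
    (hproj : Neron.IsProjectiveOver R Y) : IsProper Y.hom := by
  obtain ⟨n, i, hi, hw⟩ := hproj
  haveI := hi
  haveI := Groth.Agent.H5.AG.isProper_toBase n (Spec (CommRingCat.of R))
  rw [← hw]
  infer_instance

/-- the hypotheses on a contraction `f : X ⟶ Y` of the `Γ i` in S7909. -/
def ContrHyp {r : ℕ} (Γ : Fin r → ArSurf.VertComp R X) (Y : Over (Spec (CommRingCat.of R)))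
    (f : X ⟶ Y) : Prop :=
  IsIntegral Y.left ∧ (∀ q : Y.left, IsIntegrallyClosed (Y.left.presheaf.stalk q)) ∧
    topologicalKrullDim Y.left = 2 ∧ Flat Y.hom ∧ Neron.IsProjectiveOver R Y ∧
    (∀ i, ∃ y : Y.left, Set.range (((Γ i).ι ≫ f.left).base : (Γ i).curve.left → Y.left) = {y}) ∧
    f.left.base ⁻¹' (f.left.base '' ⋃ i, Set.range (Γ i).ι.base) = ⋃ i, Set.range (Γ i).ι.base ∧
    (∀ V : Y.left.Opens, (V : Set Y.left) ∩ f.left.base '' (⋃ i, Set.range (Γ i).ι.base) = ∅ →
      IsIso (f.left ∣_ V))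

/-- existence of the factorization. -/
theorem exists_over_fac [IsIntegral X.left] (hproj : Neron.IsProjectiveOver R X)
    {r : ℕ} (Γ : Fin r → ArSurf.VertComp R X)
    (Y₁ Y₂ : Over (Spec (CommRingCat.of R))) (f₁ : X ⟶ Y₁) (f₂ : X ⟶ Y₂)
    (h₁ : ContrHyp Γ Y₁ f₁) (h₂ : ContrHyp Γ Y₂ f₂) :
    Function.Surjective f₁.left.base ∧ ∃ g : Y₁ ⟶ Y₂, f₁ ≫ g = f₂ := by
  obtain ⟨hint₁, hnor₁, hdim₁, -, hproj₁, hpt₁, hpre₁, hiso₁⟩ := h₁
  obtain ⟨-, -, -, -, hproj₂, hpt₂, -, -⟩ := h₂
  haveI := hint₁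
  haveI hpX : IsProper X.hom := isProper_of_isProjectiveOver X hproj
  haveI hp₁ : IsProper Y₁.hom := isProper_of_isProjectiveOver Y₁ hproj₁
  haveI hp₂ : IsProper Y₂.hom := isProper_of_isProjectiveOver Y₂ hproj₂
  haveI : IsLocallyNoetherian Y₁.left := LocallyOfFiniteType.isLocallyNoetherian Y₁.hom
  haveI : IsProper f₁.left := by
    haveI : IsProper (f₁.left ≫ Y₁.hom) := by
      rw [Over.w f₁]
      exact hpX
    exact IsProper.of_comp f₁.left Y₁.hom
  haveI : IsProper f₂.left := by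
    haveI : IsProper (f₂.left ≫ Y₂.hom) := by
      rw [Over.w f₂]
      exact hpX
    exact IsProper.of_comp f₂.left Y₂.hom
  haveI : Y₂.left.IsSeparated := by
    refine ⟨?_⟩
    rw [show terminal.from Y₂.left = Y₂.hom ≫ terminal.from _ from terminal.hom_ext _ _]
    infer_instance
  set E : Set X.left := ⋃ i, Set.range (Γ i).ι.base with hE
  have hEcl : IsClosed E :=
    isClosed_iUnion_of_finite fun i => (Γ i).ι.isClosedEmbedding.isClosed_range
  have himg : ∀ {Y : Over (Spec (CommRingCat.of R))} (f : X ⟶ Y) (i : Fin r),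
      Set.range (((Γ i).ι ≫ f.left).base : (Γ i).curve.left → Y.left) =
        f.left.base '' Set.range (Γ i).ι.base := by
    intro Y f i
    rw [← Set.range_comp]
    rfl
  -- the open complement is nonempty
  have hne : (f₁.left.base '' E)ᶜ.Nonempty := by
    by_contra hcon
    have huniv : f₁.left.base '' E = Set.univ := by
      rw [Set.not_nonempty_iff_eq_empty, Set.compl_empty_iff] at hcon
      exact hcon
    have hη : genericPoint Y₁.left ∈ f₁.left.base '' E := by rw [huniv]; trivial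
    obtain ⟨x, hx, hxη⟩ := hη
    obtain ⟨i, hi⟩ := Set.mem_iUnion.1 hx
    obtain ⟨y, hy⟩ := hpt₁ i
    have hycl : IsClosed ({y} : Set Y₁.left) := by
      rw [← hy, himg]
      exact f₁.left.isClosedMap _ (Γ i).ι.isClosedEmbedding.isClosed_range
    have hηy : genericPoint Y₁.left = y := by
      have : genericPoint Y₁.left ∈ ({y} : Set Y₁.left) := by
        rw [← hy, himg, ← hxη]
        exact ⟨x, hi, rfl⟩
      exact this
    have h1 : (Set.univ : Set Y₁.left) = {y} := by
      rw [← genericPoint_spec Y₁.left, hηy, hycl.closure_eq]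
    haveI : Subsingleton Y₁.left := by
      refine ⟨fun a b => ?_⟩
      have ha : a ∈ ({y} : Set Y₁.left) := h1 ▸ Set.mem_univ a
      have hb : b ∈ ({y} : Set Y₁.left) := h1 ▸ Set.mem_univ b
      exact ha.trans hb.symm
    have := topologicalKrullDim_le_zero_of_subsingleton Y₁.left
    rw [hdim₁] at this
    exact absurd this (by decide)
  choose z hz using hpt₂
  have hTcl : ∀ t ∈ Set.range z, IsClosed ({t} : Set Y₂.left) := by
    rintro _ ⟨i, rfl⟩
    rw [← hz i, himg]
    exact f₂.left.isClosedMap _ (Γ i).ι.isClosedEmbedding.isClosed_range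
  have hET : f₂.left.base '' E ⊆ Set.range z := by
    rintro _ ⟨x, hx, rfl⟩
    obtain ⟨i, hi⟩ := Set.mem_iUnion.1 hx
    refine ⟨i, ?_⟩
    have : f₂.left.base x ∈ ({z i} : Set Y₂.left) := by
      rw [← hz i, himg]
      exact ⟨x, hi, rfl⟩
    exact this.symm
  obtain ⟨hsurj, g, hg⟩ := exists_fac_of_contraction hnor₁ f₁.left f₂.left E hEcl hne hpre₁ hiso₁
    (Set.range z) (Set.finite_range z) hTcl hET
  refine ⟨hsurj, ?_⟩
  haveI : Surjective f₁.left := ⟨hsurj⟩
  have hw : g ≫ Y₂.hom = Y₁.hom := by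
    apply ext_of_isDominant (ι := f₁.left)
    rw [← Category.assoc, hg, Over.w f₂, Over.w f₁]
  refine ⟨Over.homMk g hw, ?_⟩
  apply Over.OverMorphism.ext
  simpa using hg

/-- **S7909**: the contraction is unique up to unique isomorphism. -/
theorem contraction_unique [IsIntegral X.left] (hproj : Neron.IsProjectiveOver R X)
    {r : ℕ} (Γ : Fin r → ArSurf.VertComp R X)
    (Y₁ Y₂ : Over (Spec (CommRingCat.of R))) (f₁ : X ⟶ Y₁) (f₂ : X ⟶ Y₂)
    (h₁ : ContrHyp Γ Y₁ f₁) (h₂ : ContrHyp Γ Y₂ f₂) :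
    (∃! g : Y₁ ⟶ Y₂, f₁ ≫ g = f₂) ∧ ∀ g : Y₁ ⟶ Y₂, f₁ ≫ g = f₂ → IsIso g := by
  obtain ⟨hs₁, g, hg⟩ := exists_over_fac hproj Γ Y₁ Y₂ f₁ f₂ h₁ h₂
  obtain ⟨hs₂, g', hg'⟩ := exists_over_fac hproj Γ Y₂ Y₁ f₂ f₁ h₂ h₁
  haveI := h₁.1
  haveI := h₂.1
  haveI hp₁ : IsProper Y₁.hom := isProper_of_isProjectiveOver Y₁ h₁.2.2.2.2.1
  haveI hp₂ : IsProper Y₂.hom := isProper_of_isProjectiveOver Y₂ h₂.2.2.2.2.1
  have huniq : ∀ a b : Y₁ ⟶ Y₂, f₁ ≫ a = f₂ → f₁ ≫ b = f₂ → a = b :=
    fun a b ha hb => over_hom_ext_of_surjective f₁ hs₁ a b (ha.trans hb.symm)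
  refine ⟨⟨g, hg, fun b hb => huniq b g hb hg⟩, fun a ha => ?_⟩
  refine ⟨g', ?_, ?_⟩
  · exact over_hom_ext_of_surjective f₁ hs₁ _ _
      (by rw [← Category.assoc, ha, hg', Category.comp_id])
  · exact over_hom_ext_of_surjective f₂ hs₂ _ _
      (by rw [← Category.assoc, hg', ha, Category.comp_id])

end Groth.Agent.H5.ArS
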