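import Mathlib
import Groth.Agent.Lib.Lead.CohLES.PushEquiv
import Groth.Agent.Lib.Lead.PN.ClosedSub
import Groth.Agent.Lib.Lead.Curve.Proper

/-!
# Cohomology and isomorphisms of schemes; change of the base field
-/

set_option autoImplicit false
set_option linter.style.haveILetI false
universe u
open CategoryTheory CategoryTheory.Limits AlgebraicGeometry TopologicalSpace Opposite

namespace Groth.Agent.H5.ArS

open Groth.Agent.LD

section iso

variable {Z Z' : Scheme.{u}} (e : Z ≅ Z')

/-- pushforward along an isomorphism of schemes is an equivalence. -/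
noncomputable def pushEquivIso : Z.Modules ≌ Z'.Modules :=
  CategoryTheory.Equivalence.mk (Scheme.Modules.pushforward e.hom)
    (Scheme.Modules.pushforward e.inv)
    ((Scheme.Modules.pushforwardId Z).symm ≪≫
      (Scheme.Modules.pushforwardCongr e.hom_inv_id).symm ≪≫
      (Scheme.Modules.pushforwardComp e.hom e.inv).symm)
    ((Scheme.Modules.pushforwardComp e.inv e.hom) ≪≫
      Scheme.Modules.pushforwardCongr e.inv_hom_id ≪≫ Scheme.Modules.pushforwardId Z')

/-- pullback along an isomorphism is pushforward along its inverse. -/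
noncomputable def pullbackIsoPushInv :
    Scheme.Modules.pullback e.hom ≅ Scheme.Modules.pushforward e.inv :=
  (Scheme.Modules.pullbackPushforwardAdjunction e.hom).leftAdjointUniq
    (pushEquivIso e).symm.toAdjunction

variable (k : Type u) [CommRing k] [Z'.Over (Spec (CommRingCat.of k))]

/-- the cohomology of a module and of its pullback along an isomorphism of schemes. -/
noncomputable def HHpullIsoEquiv (F : Z'.Modules) (j : ℕ) :
    letI : Z.Over (Spec (CommRingCat.of k)) := ⟨e.hom ≫ (Z' ↘ Spec (CommRingCat.of k))⟩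
    Coh.HH Z' F j ≃ₗ[k] Coh.HH Z ((Scheme.Modules.pullback e.hom).obj F) j := by
  letI : Z.Over (Spec (CommRingCat.of k)) := ⟨e.hom ≫ (Z' ↘ Spec (CommRingCat.of k))⟩
  haveI : e.inv.IsOver (Spec (CommRingCat.of k)) := ⟨by
    change e.inv ≫ e.hom ≫ (Z' ↘ Spec (CommRingCat.of k)) = _
    rw [Iso.inv_hom_id_assoc]⟩
  exact (CL.HHpushEquiv e.inv k F j).trans
    (CL.HHisoEquiv k ((pullbackIsoPushInv e).app F).symm j)

end iso

section tower

variable {k κ : Type u} [Field k] [Field κ] (X : Scheme.{u})
  [X.Over (Spec (CommRingCat.of k))] [X.Over (Spec (CommRingCat.of κ))]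
  (φ : k →+* κ)
  (hφ : Coh.toGlobal (X ↘ Spec (CommRingCat.of k)) =
    (Coh.toGlobal (X ↘ Spec (CommRingCat.of κ))).comp φ)
include hφ

theorem isScalarTower_HH_of_comp (F : X.Modules) (j : ℕ) :
    letI := φ.toAlgebra
    IsScalarTower k κ (Coh.HH X F j) := by
  letI := φ.toAlgebra
  refine ⟨fun a r x => ?_⟩
  rw [Algebra.smul_def, mul_smul]
  change _ = (Coh.toGlobal (X ↘ Spec (CommRingCat.of k)) a) • (r • x)
  rw [hφ]
  rfl

/-- the tower law for cohomology under a change of the base field. -/
theorem finrank_HH_tower (F : X.Modules) (j : ℕ) :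
    letI := φ.toAlgebra
    Module.finrank k (Coh.HH X F j) =
      Module.finrank k κ * Module.finrank κ (Coh.HH X F j) := by
  letI := φ.toAlgebra
  haveI := isScalarTower_HH_of_comp X φ hφ F j
  exact (Module.finrank_mul_finrank k κ (Coh.HH X F j)).symm

/-- the tower law for degrees on a curve under a change of the base field. -/
theorem deg_tower [IsProper (X ↘ Spec (CommRingCat.of k))] [IsProper (X ↘ Spec (CommRingCat.of κ))]
    (hdim : topologicalKrullDim X ≤ 1) (F : X.Modules) [F.IsQuasicoherent] :
    letI := φ.toAlgebra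
    Curv2.deg k X F 1 = (Module.finrank k κ : ℤ) * Curv2.deg κ X F 1 := by
  letI := φ.toAlgebra
  unfold Curv2.deg
  rw [Curve.euler_eq_sub k X hdim F, Curve.euler_eq_sub κ X hdim F,
    Curve.euler_eq_sub k X hdim (QC.unitMod X), Curve.euler_eq_sub κ X hdim (QC.unitMod X),
    finrank_HH_tower X φ hφ F 0, finrank_HH_tower X φ hφ F 1,
    finrank_HH_tower X φ hφ (QC.unitMod X) 0, finrank_HH_tower X φ hφ (QC.unitMod X) 1]
  push_cast
  ring

end tower

end Groth.Agent.H5.ArS
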