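import Mathlib
import Groth.Agent.Lib.Helper5.ArS.IsoCoh
import Groth.Agent.Lib.Helper5.ArS.Base
import Groth.Agent.Lib.Helper5.ArS.Vert
import Groth.Agent.Lib.Helper5.Curve6.P1Deg
import Groth.Agent.Lib.Lead.PN.GlobalFn
import Groth.Agent.Lib.Lead.PN.Euler
import Groth.Agent.Lib.Lead.QC.PullInv

/-!
# Exceptional curves of the first kind: the numerical conditions (S3326, direction ⇒)
-/

set_option autoImplicit false
set_option linter.style.haveILetI false
universe u
open CategoryTheory CategoryTheory.Limits AlgebraicGeometry TopologicalSpace Opposite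

namespace Groth.Agent.H5.ArS

open Groth.Agent.LD Groth.Agent.LD.QC

section P1

variable (κ : Type u) [Field κ]

theorem finrank_HH_twist_zero_P1 :
    Module.finrank κ (Coh.HH (CohB1.ProjSpace 1 κ) (Twist.twistProjSpace 1 κ 0) 0) = 1 ∧
      Module.finrank κ (Coh.HH (CohB1.ProjSpace 1 κ) (Twist.twistProjSpace 1 κ 0) 1) = 0 := by
  have h1 := PN.finrank_HH_eq_zero κ 1 0 1 (fun h => by omega) (fun h => by omega)
  refine ⟨?_, h1⟩
  have h := PN.euler_twist κ 1 one_pos 0
  rw [Ring.choose_one_right] at h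
  simp [Finset.sum_range_succ] at h
  omega

theorem finrank_HH_twist_one_P1 :
    Module.finrank κ (Coh.HH (CohB1.ProjSpace 1 κ) (Twist.twistProjSpace 1 κ 1) 0) = 2 ∧
      Module.finrank κ (Coh.HH (CohB1.ProjSpace 1 κ) (Twist.twistProjSpace 1 κ 1) 1) = 0 :=
  ⟨Curve6.finrank_H0_twist_one_P1 κ,
    PN.finrank_HH_eq_zero κ 1 1 1 (fun h => by omega) (fun h => by omega)⟩

end P1

section main

variable {R : Type u} [CommRing R] [IsDomain R] [IsDiscreteValuationRing R]
  {X : Over (Spec (CommRingCat.of R))} (hp : IsProper X.hom) (Γ' : ArSurf.VertComp R X)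
include hp

/-- **S3326 (⇒)**: an exceptional curve of the first kind has `H¹(O) = 0` and
self-intersection `-[κ : k]`. -/
theorem numerical_of_isExcCurve (L : X.left.Modules)
    (hL : ClSub.IsInverseOf L (ClSub.idealMod Γ'.ι.ker)) (hE : Models.IsExcCurve Γ'.ι) :
    Models.h1 R X Γ' = 0 ∧ ArSurf.inter R X L Γ' = -(Models.wdeg R X Γ' : ℤ) := by
  obtain ⟨hcart, κ, instκ, e, ⟨τ⟩⟩ := hE
  letI := instκ
  haveI : IsProper (Γ'.curve.left ↘ Spec (CommRingCat.of (IsLocalRing.ResidueField R))) :=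
    isProper_curve_hom hp Γ'
  letI instPk : (CohB1.ProjSpace 1 κ).Over (Spec (CommRingCat.of (IsLocalRing.ResidueField R))) :=
    ⟨e.hom ≫ (Γ'.curve.left ↘ Spec (CommRingCat.of (IsLocalRing.ResidueField R)))⟩
  have hbij := PN.toGlobal_bijective 1 κ
  let ψ := RingEquiv.ofBijective (Coh.toGlobal (CohB1.ProjSpace.toSpec 1 κ)) hbij
  let φ : IsLocalRing.ResidueField R →+* κ := ψ.symm.toRingHom.comp
    (Coh.toGlobal (CohB1.ProjSpace 1 κ ↘ Spec (CommRingCat.of (IsLocalRing.ResidueField R))))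
  have hφ : Coh.toGlobal (CohB1.ProjSpace 1 κ ↘ Spec (CommRingCat.of (IsLocalRing.ResidueField R))) =
      (Coh.toGlobal (CohB1.ProjSpace 1 κ ↘ Spec (CommRingCat.of κ))).comp φ := by
    ext a
    exact (ψ.apply_symm_apply _).symm
  letI := φ.toAlgebra
  have hF : ∀ (F : Γ'.curve.left.Modules) (G : (CohB1.ProjSpace 1 κ).Modules)
      (θ : (Scheme.Modules.pullback e.hom).obj F ≅ G) (j : ℕ),
      Module.finrank (IsLocalRing.ResidueField R) (Coh.HH Γ'.curve.left F j) =
        Module.finrank (IsLocalRing.ResidueField R) κ *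
          Module.finrank κ (Coh.HH (CohB1.ProjSpace 1 κ) G j) := by
    intro F G θ j
    rw [(HHpullIsoEquiv e (IsLocalRing.ResidueField R) F j).finrank_eq,
      finrank_HH_tower (CohB1.ProjSpace 1 κ) φ hφ _ j, (CL.HHisoEquiv κ θ j).finrank_eq]
  -- the structure module
  have θO : (Scheme.Modules.pullback e.hom).obj (Coh.structureModule Γ'.curve.left) ≅
      Twist.twistProjSpace 1 κ 0 :=
    pbUnitIso e.hom ≪≫ (TW.twistZeroIso (CohB1.polyGrading 1 κ)).symm
  have hO0 := hF _ _ θO 0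
  have hO1 := hF _ _ θO 1
  rw [(finrank_HH_twist_zero_P1 κ).1, mul_one] at hO0
  rw [(finrank_HH_twist_zero_P1 κ).2, mul_zero] at hO1
  -- the conormal module
  have θN : (Scheme.Modules.pullback e.hom).obj
      ((Scheme.Modules.pullback Γ'.ι).obj (ClSub.idealMod Γ'.ι.ker)) ≅
      Twist.twistProjSpace 1 κ 1 :=
    (Scheme.Modules.pullbackComp e.hom Γ'.ι).app _ ≪≫ τ
  have hN0 := hF _ _ θN 0
  have hN1 := hF _ _ θN 1
  rw [(finrank_HH_twist_one_P1 κ).1] at hN0
  rw [(finrank_HH_twist_one_P1 κ).2, mul_zero] at hN1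
  refine ⟨hO1, ?_⟩
  obtain ⟨hLinv, hpL, hpI, ⟨ε⟩⟩ := pullback_inverse_facts Γ'.ι Γ'.ι.ker hcart L hL
  unfold ArSurf.inter
  rw [curveDeg_of_inverse (IsLocalRing.ResidueField R) (dim_curve_le Γ') _ _ hpL hpI ε]
  unfold ArSurf.curveDeg FGA.eulerCharLE Models.wdeg
  simp only [Finset.sum_range_succ, Finset.sum_range_zero, zero_add, pow_zero, pow_one, one_mul]
  rw [hN0, hN1, hO0, hO1]
  push_cast
  ring

end main

end Groth.Agent.H5.ArS
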