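import Mathlib
import Groth.Agent.Lib.Helper5.ArS.IsoCoh
import Groth.Agent.Lib.Helper5.ArS.Base
import Groth.Agent.Lib.Helper5.ArS.Vert
import Groth.Agent.Lib.Helper5.Curve6.P1Core2
import Groth.Agent.Lib.Lead.FF.H0Const
import Groth.Agent.Lib.Lead.QC.PullInv

/-!
# Exceptional curves of the first kind: the numerical criterion (S3326, direction ⇐)
-/

set_option autoImplicit false
set_option linter.style.haveILetI false
universe u
open CategoryTheory CategoryTheory.Limits AlgebraicGeometry TopologicalSpace Opposite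

namespace Groth.Agent.H5.ArS

open Groth.Agent.LD Groth.Agent.LD.QC

section compat

theorem toGlobal_comp_specMap_hom {k κ : Type u} [CommRing k] [CommRing κ] {E : Scheme.{u}}
    (q : E ⟶ Spec (CommRingCat.of κ)) (φ : k →+* κ) :
    Coh.toGlobal (q ≫ Spec.map (CommRingCat.ofHom φ)) = (Coh.toGlobal q).comp φ := by
  ext a
  unfold Coh.toGlobal
  have h := Scheme.ΓSpecIso_inv_naturality (CommRingCat.ofHom φ)
  have h2 : ((Scheme.ΓSpecIso (CommRingCat.of k)).inv ≫
      (Spec.map (CommRingCat.ofHom φ)).appTop).hom a =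
      (CommRingCat.ofHom φ ≫ (Scheme.ΓSpecIso (CommRingCat.of κ)).inv).hom a := by rw [h]
  change (q ≫ Spec.map (CommRingCat.ofHom φ)).appTop.hom
    ((Scheme.ΓSpecIso (CommRingCat.of k)).inv.hom a) = _
  rw [Scheme.Hom.comp_appTop]
  exact congrArg q.appTop.hom h2

theorem finrank_HH0_eq_one_of_bijective (κ : Type u) [Field κ] (E : Scheme.{u})
    [E.Over (Spec (CommRingCat.of κ))]
    (hbij : Function.Bijective (Coh.toGlobal (E ↘ Spec (CommRingCat.of κ)))) :
    Module.finrank κ (Coh.HH E (Coh.structureModule E) 0) = 1 := by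
  rw [FF.finrank_HH0_eq]
  letI : Algebra κ Γ(E, ⊤) := (Coh.toGlobal (E ↘ Spec (CommRingCat.of κ))).toAlgebra
  have e : κ ≃ₗ[κ] Γ(E, ⊤) := LinearEquiv.ofBijective (Algebra.linearMap κ Γ(E, ⊤)) hbij
  rw [← e.finrank_eq, Module.finrank_self]

end compat

section main

variable {R : Type u} [CommRing R] [IsDomain R] [IsDiscreteValuationRing R]
  {X : Over (Spec (CommRingCat.of R))} (hp : IsProper X.hom) (Γ' : ArSurf.VertComp R X)
include hp

/-- **S3326 (⇐)**, with the field of constants abstracted: `κ` a field, `q : Γ ⟶ Spec κ`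
inducing a bijection `κ → Γ(Γ, O)`, compatible with the structure morphism to `Spec k`. -/
theorem isExcCurve_of_numerical_aux (hcart : BlowUp.IsEffCartierIdeal Γ'.ι.ker)
    (L : X.left.Modules) (hL : ClSub.IsInverseOf L (ClSub.idealMod Γ'.ι.ker))
    (h1 : Models.h1 R X Γ' = 0)
    (hself : ArSurf.inter R X L Γ' = -(Models.wdeg R X Γ' : ℤ))
    (hwpos : 0 < Models.wdeg R X Γ')
    (κ : Type u) [Field κ] (q : Γ'.curve.left ⟶ Spec (CommRingCat.of κ))
    (φ : IsLocalRing.ResidueField R →+* κ)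
    (hcomp : q ≫ Spec.map (CommRingCat.ofHom φ) = Γ'.curve.hom)
    (hbij : Function.Bijective (Coh.toGlobal q)) : Models.IsExcCurve Γ'.ι := by
  haveI hpk : IsProper (Γ'.curve.left ↘ Spec (CommRingCat.of (IsLocalRing.ResidueField R))) :=
    isProper_curve_hom hp Γ'
  letI instκ : Γ'.curve.left.Over (Spec (CommRingCat.of κ)) := ⟨q⟩
  haveI : IsProper (Γ'.curve.left ↘ Spec (CommRingCat.of κ)) := by
    change IsProper q
    haveI : IsProper (q ≫ Spec.map (CommRingCat.ofHom φ)) := by
      rw [hcomp]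
      exact hpk
    exact IsProper.of_comp q (Spec.map (CommRingCat.ofHom φ))
  have hφ : Coh.toGlobal (Γ'.curve.left ↘ Spec (CommRingCat.of (IsLocalRing.ResidueField R))) =
      (Coh.toGlobal (Γ'.curve.left ↘ Spec (CommRingCat.of κ))).comp φ := by
    change Coh.toGlobal Γ'.curve.hom = (Coh.toGlobal q).comp φ
    rw [← hcomp]
    exact toGlobal_comp_specMap_hom q φ
  letI := φ.toAlgebra
  have hdim := dim_curve_le Γ'
  -- `[κ : k] = wdeg`
  have h00 : Module.finrank κ (Coh.HH Γ'.curve.left (Coh.structureModule Γ'.curve.left) 0) = 1 :=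
    finrank_HH0_eq_one_of_bijective κ Γ'.curve.left hbij
  have hw : Models.wdeg R X Γ' = Module.finrank (IsLocalRing.ResidueField R) κ := by
    unfold Models.wdeg
    rw [finrank_HH_tower Γ'.curve.left φ hφ _ 0, h00, mul_one]
  -- `H¹(O) = 0`
  have hsub : Subsingleton (Coh.HH Γ'.curve.left (Coh.structureModule Γ'.curve.left) 1) := by
    have h2 : Module.finrank κ (Coh.HH Γ'.curve.left (Coh.structureModule Γ'.curve.left) 1) = 0 := by
      have h3 := finrank_HH_tower Γ'.curve.left φ hφ (Coh.structureModule Γ'.curve.left) 1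
      have h4 : Module.finrank (IsLocalRing.ResidueField R)
          (Coh.HH Γ'.curve.left (Coh.structureModule Γ'.curve.left) 1) = 0 := h1
      rw [h4, ← hw] at h3
      rcases Nat.eq_zero_or_pos (Module.finrank κ
        (Coh.HH Γ'.curve.left (Coh.structureModule Γ'.curve.left) 1)) with h5 | h5
      · exact h5
      · exact absurd h3 (Nat.mul_pos hwpos h5).ne
    haveI := Curve.isLocallyNoetherian κ Γ'.curve.left
    haveI : Module.Finite κ (Coh.HH Γ'.curve.left (Coh.structureModule Γ'.curve.left) 1) :=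
      Curve.finite_HH κ Γ'.curve.left _ (PF.isCoh_unitMod Γ'.curve.left) 1
    exact Module.finrank_zero_iff.mp h2
  -- the conormal module has degree one over `κ`
  obtain ⟨hLinv, hpL, hpI, ⟨ε⟩⟩ := pullback_inverse_facts Γ'.ι Γ'.ι.ker hcart L hL
  haveI := qc_of_isInvertible _ hpI
  have hdegk : Curv2.deg (IsLocalRing.ResidueField R) Γ'.curve.left
      ((Scheme.Modules.pullback Γ'.ι).obj (ClSub.idealMod Γ'.ι.ker)) 1 =
      (Models.wdeg R X Γ' : ℤ) := by
    rw [← curveDeg_eq_deg (IsLocalRing.ResidueField R) hdim _ hpI]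
    have h5 := curveDeg_of_inverse (IsLocalRing.ResidueField R) hdim _ _ hpL hpI ε
    have h6 : ArSurf.inter R X L Γ' = ArSurf.curveDeg (IsLocalRing.ResidueField R) Γ'.curve.left
      ((Scheme.Modules.pullback Γ'.ι).obj L) := rfl
    rw [h6, h5] at hself
    linarith
  have hdegκ : Curv2.deg κ Γ'.curve.left
      ((Scheme.Modules.pullback Γ'.ι).obj (ClSub.idealMod Γ'.ι.ker)) 1 = 1 := by
    have h7 := deg_tower Γ'.curve.left φ hφ hdim
      ((Scheme.Modules.pullback Γ'.ι).obj (ClSub.idealMod Γ'.ι.ker))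
    rw [hdegk, hw] at h7
    have hpos : (0 : ℤ) < (Module.finrank (IsLocalRing.ResidueField R) κ : ℤ) := by
      rw [← hw]; exact_mod_cast hwpos
    have h8 : (Module.finrank (IsLocalRing.ResidueField R) κ : ℤ) * 1 =
        (Module.finrank (IsLocalRing.ResidueField R) κ : ℤ) * Curv2.deg κ Γ'.curve.left
          ((Scheme.Modules.pullback Γ'.ι).obj (ClSub.idealMod Γ'.ι.ker)) 1 := by
      rw [mul_one]; exact h7
    exact (mul_left_cancel₀ hpos.ne' h8).symm
  -- the projective line
  obtain ⟨e, τ, -⟩ := Curve6.exists_iso_P1_of_h1_zero_of_deg_one' κ Γ'.curve.left Γ'.dim_eq hsub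
    _ hpI hdegκ
  refine ⟨hcart, κ, inferInstance, e.symm, ⟨?_⟩⟩
  refine ((Scheme.Modules.pullbackComp e.symm.hom Γ'.ι).app _).symm ≪≫
    (Scheme.Modules.pullback e.symm.hom).mapIso τ.symm ≪≫
    (Scheme.Modules.pullbackComp e.symm.hom e.hom).app _ ≪≫
    (Scheme.Modules.pullbackCongr (show e.symm.hom ≫ e.hom = 𝟙 _ from e.inv_hom_id)).app _ ≪≫
    (Scheme.Modules.pullbackId _).app _

end main

end Groth.Agent.H5.ArS
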