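import Mathlib
import Groth.Agent.Lib.Helper5.ArS.ChiGeo
import Groth.Agent.Lib.Helper5.DegC.H0Dvd

/-!
# The numerical type of a regular proper model (S3322)
-/

set_option autoImplicit false
set_option linter.style.haveILetI false
universe u
open CategoryTheory CategoryTheory.Limits AlgebraicGeometry TopologicalSpace Opposite

namespace Groth.Agent.H5.ArS

open Groth.Agent.LD Groth.Agent.LD.QC Groth.Agent.H5.DegC

variable {R : Type u} [CommRing R] [IsDomain R] [IsDiscreteValuationRing R]
  {X : Over (Spec (CommRingCat.of R))}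

section wdeg

variable (hp : IsProper X.hom) (Γ : ArSurf.VertComp R X)
include hp

/-- `w = dim_k H⁰(Γ, O_Γ)` as the degree of the field of constants. -/
theorem wdeg_eq_finrank_Γtop :
    Models.wdeg R X Γ = @Module.finrank (IsLocalRing.ResidueField R) (Coh.Γtop Γ.curve.left) _ _
      (algΓtop (IsLocalRing.ResidueField R) Γ.curve.left).toModule := by
  set k := IsLocalRing.ResidueField R with hk
  letI := algΓtop k Γ.curve.left
  let e : Coh.HH Γ.curve.left (Coh.structureModule Γ.curve.left) 0 ≃ₗ[k] Coh.Γtop Γ.curve.left :=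
    { CL.HH0Equiv (Coh.structureModule Γ.curve.left) with
      map_smul' := fun c x =>
        CL.HH0Equiv_smul (Coh.structureModule Γ.curve.left)
          (Coh.toGlobal (Γ.curve.left ↘ Spec (CommRingCat.of k)) c) x }
  exact e.finrank_eq

/-- `w` divides the `k`-dimension of every cohomology group on `Γ`. -/
theorem wdeg_dvd_finrank_HH (F : Γ.curve.left.Modules) (i : ℕ) :
    Models.wdeg R X Γ ∣ Module.finrank (IsLocalRing.ResidueField R) (Coh.HH Γ.curve.left F i) := by
  haveI : IsProper (Γ.curve.left ↘ Spec (CommRingCat.of (IsLocalRing.ResidueField R))) :=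
    isProper_curve_hom hp Γ
  rw [wdeg_eq_finrank_Γtop hp Γ]
  exact finrank_Γ_dvd_finrank_HH (IsLocalRing.ResidueField R) Γ.curve.left F i

theorem wdeg_dvd_h1 : Models.wdeg R X Γ ∣ Models.h1 R X Γ :=
  wdeg_dvd_finrank_HH hp Γ _ 1

theorem wdeg_dvd_inter (L : X.left.Modules) :
    (Models.wdeg R X Γ : ℤ) ∣ ArSurf.inter R X L Γ := by
  unfold ArSurf.inter ArSurf.curveDeg FGA.eulerCharLE
  refine dvd_sub (Finset.dvd_sum fun j _ => ?_) (Finset.dvd_sum fun j _ => ?_)
  · exact Dvd.dvd.mul_left (by exact_mod_cast wdeg_dvd_finrank_HH hp Γ _ j) _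
  · exact Dvd.dvd.mul_left (by exact_mod_cast wdeg_dvd_finrank_HH hp Γ _ j) _

theorem wdeg_pos : 0 < Models.wdeg R X Γ := by
  set k := IsLocalRing.ResidueField R with hk
  haveI : IsProper (Γ.curve.left ↘ Spec (CommRingCat.of k)) := isProper_curve_hom hp Γ
  haveI : Module.Finite k (Coh.HH Γ.curve.left (Coh.structureModule Γ.curve.left) 0) :=
    Curve.finite_HH k Γ.curve.left _ (Groth.Agent.LD.PF.isCoh_unitMod Γ.curve.left) 0
  haveI : Nonempty Γ.curve.left := inferInstance
  haveI : Nonempty (⊤ : Γ.curve.left.Opens) := ⟨⟨Classical.arbitrary Γ.curve.left, trivial⟩⟩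
  haveI : Nontrivial Γ(Γ.curve.left, ⊤) := Γ.curve.left.component_nontrivial ⊤
  haveI : Nontrivial Γ(Coh.structureModule Γ.curve.left, ⊤) :=
    ‹Nontrivial Γ(Γ.curve.left, ⊤)›
  haveI : Nontrivial (Coh.HH Γ.curve.left (Coh.structureModule Γ.curve.left) 0) :=
    (CL.HH0Equiv (Coh.structureModule Γ.curve.left)).toEquiv.nontrivial
  exact Module.finrank_pos

end wdeg

end Groth.Agent.H5.ArS
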