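import Mathlib
import Groth.Agent.Lib.Helper5.ArS.ExcA
import Groth.Agent.Lib.Helper5.ArS.ExcB
import Groth.Agent.Lib.Helper5.DegC.H0Dvd
import Groth.Agent.Lib.Helper5.ArS.NumType

/-!
# Exceptional curves of the first kind: the numerical criterion (S3326)
-/

set_option autoImplicit false
set_option linter.style.haveILetI false
universe u
open CategoryTheory CategoryTheory.Limits AlgebraicGeometry TopologicalSpace Opposite

namespace Groth.Agent.H5.ArS

open Groth.Agent.LD Groth.Agent.LD.QC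

section spec

variable {A : Type u} [CommRing A] {E : Scheme.{u}}

theorem eq_toSpecΓ_comp (f : E ⟶ Spec (CommRingCat.of A)) :
    f = E.toSpecΓ ≫ Spec.map (CommRingCat.ofHom (show A →+* Γ(E, ⊤) from Coh.toGlobal f)) := by
  have h1 := Scheme.toSpecΓ_naturality f
  have h2 : (Spec (CommRingCat.of A)).toSpecΓ = Spec.map (Scheme.ΓSpecIso (CommRingCat.of A)).hom :=
    (SpecMap_ΓSpecIso_hom _).symm
  have h3 : CommRingCat.ofHom (show A →+* Γ(E, ⊤) from Coh.toGlobal f) =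
      (Scheme.ΓSpecIso (CommRingCat.of A)).inv ≫ f.appTop := rfl
  rw [h3, Spec.map_comp, ← Category.assoc, ← h1]
  change f = (f ≫ (Spec (CommRingCat.of A)).toSpecΓ) ≫ _
  rw [h2, Category.assoc, ← Spec.map_comp, Iso.inv_hom_id, Spec.map_id]
  exact (Category.comp_id _).symm

theorem toGlobal_toSpecΓ_comp (ψ : A →+* Γ(E, ⊤)) :
    (show A →+* Γ(E, ⊤) from Coh.toGlobal (E.toSpecΓ ≫ Spec.map (CommRingCat.ofHom ψ))) = ψ := by
  have h : (Scheme.ΓSpecIso (CommRingCat.of A)).inv ≫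
      (E.toSpecΓ ≫ Spec.map (CommRingCat.ofHom ψ)).appTop = CommRingCat.ofHom ψ := by
    rw [Scheme.Hom.comp_appTop, Scheme.toSpecΓ_appTop, ← Category.assoc,
      ← Scheme.ΓSpecIso_inv_naturality, Category.assoc, Iso.inv_hom_id, Category.comp_id]
  exact congrArg CommRingCat.Hom.hom h

end spec

section main

variable {R : Type u} [CommRing R] [IsDomain R] [IsDiscreteValuationRing R]
  {X : Over (Spec (CommRingCat.of R))} (hp : IsProper X.hom) (Γ' : ArSurf.VertComp R X)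
include hp

/-- **S3326 (⇐)**. -/
theorem isExcCurve_of_numerical (hcart : BlowUp.IsEffCartierIdeal Γ'.ι.ker)
    (L : X.left.Modules) (hL : ClSub.IsInverseOf L (ClSub.idealMod Γ'.ι.ker))
    (h1 : Models.h1 R X Γ' = 0)
    (hself : ArSurf.inter R X L Γ' = -(Models.wdeg R X Γ' : ℤ))
    (hwpos : 0 < Models.wdeg R X Γ') : Models.IsExcCurve Γ'.ι := by
  haveI hpk : IsProper (Γ'.curve.left ↘ Spec (CommRingCat.of (IsLocalRing.ResidueField R))) :=
    isProper_curve_hom hp Γ'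
  have hF : IsField Γ(Γ'.curve.left, ⊤) := DegC.isField_Γ (IsLocalRing.ResidueField R) Γ'.curve.left
  letI : Field Γ(Γ'.curve.left, ⊤) := hF.toField
  let ψ₀ : Γ(Γ'.curve.left, ⊤) →+* Γ(Γ'.curve.left, ⊤) := RingHom.id _
  refine isExcCurve_of_numerical_aux hp Γ' hcart L hL h1 hself hwpos Γ(Γ'.curve.left, ⊤)
    (Γ'.curve.left.toSpecΓ ≫ Spec.map (CommRingCat.ofHom ψ₀))
    (show IsLocalRing.ResidueField R →+* Γ(Γ'.curve.left, ⊤) from Coh.toGlobal Γ'.curve.hom) ?_ ?_
  · rw [Category.assoc, ← Spec.map_comp]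
    exact (eq_toSpecΓ_comp Γ'.curve.hom).symm
  · have h := toGlobal_toSpecΓ_comp (E := Γ'.curve.left) ψ₀
    have h2 : ∀ a, Coh.toGlobal (Γ'.curve.left.toSpecΓ ≫ Spec.map (CommRingCat.ofHom ψ₀)) a = a :=
      fun a => congrArg (fun f : Γ(Γ'.curve.left, ⊤) →+* Γ(Γ'.curve.left, ⊤) => f a) h
    exact ⟨fun a b hab => by rw [h2 a, h2 b] at hab; exact hab, fun b => ⟨b, h2 b⟩⟩

/-- **S3326**: the numerical criterion for exceptional curves of the first kind. -/
theorem isExcCurve_iff (hcart : BlowUp.IsEffCartierIdeal Γ'.ι.ker)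
    (L : X.left.Modules) (hL : ClSub.IsInverseOf L (ClSub.idealMod Γ'.ι.ker)) :
    Models.IsExcCurve Γ'.ι ↔
      Models.h1 R X Γ' = 0 ∧ ArSurf.inter R X L Γ' = -(Models.wdeg R X Γ' : ℤ) :=
  ⟨fun hE => numerical_of_isExcCurve hp Γ' L hL hE,
    fun h => isExcCurve_of_numerical hp Γ' hcart L hL h.1 h.2 (wdeg_pos hp Γ')⟩

end main

end Groth.Agent.H5.ArS
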