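import Mathlib
import Groth.Agent.Lib.Helper5.ArS.ExcC
import Groth.Agent.Lib.Helper5.ArS.Symm
import Groth.Agent.Lib.Helper5.ArS.ChainGeo
import Groth.Agent.Lib.Helper5.ArS.FibDec
import Groth.Agent.Lib.Helper5.ArS.NegSemi

/-!
# Minimal models and the numerical type (S3347)
-/

set_option autoImplicit false
set_option linter.style.haveILetI false
universe u
open CategoryTheory CategoryTheory.Limits AlgebraicGeometry TopologicalSpace Opposite

namespace Groth.Agent.H5.ArS

open Groth.Agent.LD Groth.Agent.LD.QC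

section general

/-- being an exceptional curve of the first kind only depends on the closed subscheme. -/
theorem isExcCurve_of_ker_eq {E E' Y : Scheme.{u}} (ι : E ⟶ Y) (ι' : E' ⟶ Y)
    [IsClosedImmersion ι] [IsClosedImmersion ι'] (h : ι.ker = ι'.ker)
    (hE : Models.IsExcCurve ι) : Models.IsExcCurve ι' := by
  obtain ⟨hcart, κ, instκ, e, ⟨τ⟩⟩ := hE
  let φ : E ⟶ E' := IsClosedImmersion.lift ι' ι h.ge
  have hφ : φ ≫ ι' = ι := IsClosedImmersion.lift_fac ι' ι h.ge
  haveI : IsIso φ := IsClosedImmersion.isIso_of_ker_eq ι ι' φ hφ h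
  refine ⟨h ▸ hcart, κ, instκ, e ≪≫ asIso φ, ⟨?_⟩⟩
  have h1 : (e ≪≫ asIso φ).hom ≫ ι' = e.hom ≫ ι := by
    rw [Iso.trans_hom, asIso_hom, Category.assoc, hφ]
  exact (Scheme.Modules.pullbackCongr h1).app _ ≪≫
    (Scheme.Modules.pullback (e.hom ≫ ι)).mapIso (eqToIso (by rw [h])) ≪≫ τ

end general

section comp

variable {R : Type u} [CommRing R] [IsDomain R] [IsDiscreteValuationRing R]
  {X : Over (Spec (CommRingCat.of R))}
  {n : ℕ} (Γ : Fin n → ArSurf.VertComp R X) (hΓ : Models.IsComponentList R X Γ)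
include hΓ

/-- every vertical prime divisor is one of the listed components of the closed fibre. -/
theorem exists_ker_eq (Γ' : ArSurf.VertComp R X) : ∃ i, Γ'.ι.ker = (Γ i).ι.ker := by
  have hmem : Γ'.ι (genericPoint Γ'.curve.left) ∈ Models.specialFibreSet R X :=
    range_ι_subset_specialFibreSet Γ' ⟨_, rfl⟩
  obtain ⟨i, hi⟩ := exists_mem_range_of_mem_specialFibreSet Γ hΓ _ hmem
  refine ⟨i, ker_eq_of_range_eq _ _ ?_⟩
  by_contra hne
  have := genericPoint_notMem_of_ne Γ' (Γ i) hne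
  rw [support_ker_ι] at this
  exact this hi

end comp

section model

variable {R : Type u} [CommRing R] [IsDomain R] [IsDiscreteValuationRing R]
  {C Y : Scheme.{u}} (f : C ⟶ Spec (CommRingCat.of (FractionRing R)))
  (p : Y ⟶ Spec (CommRingCat.of R)) (hX : Models.IsRegularProperModel R Y p C f)
  {n : ℕ} (Γ : Fin n → ArSurf.VertComp R (Over.mk p))
  (hΓ : Models.IsComponentList R (Over.mk p) Γ)
  (L : Fin n → Y.Modules)
  (hL : ∀ j, ClSub.IsInverseOf (L j) (ClSub.idealMod (Γ j).ι.ker))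
include hX hΓ hL

/-- **S3347**. -/
theorem isMinimalModel_iff :
    Models.IsMinimalModel R Y p C f ↔
      ∀ i, ¬ (Models.h1 R (Over.mk p) (Γ i) = 0 ∧
        ArSurf.inter R (Over.mk p) (L i) (Γ i) = -(Models.wdeg R (Over.mk p) (Γ i) : ℤ)) := by
  have hp : IsProper (Over.mk p).hom := hX.2.1
  haveI : Flat (Over.mk p).hom := hX.1.1
  haveI : LocallyOfFiniteType p := hX.1.2.1
  haveI : IsLocallyNoetherian (Over.mk p).left := LocallyOfFiniteType.isLocallyNoetherian p
  have hiff : ∀ i, Models.IsExcCurve (Γ i).ι ↔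
      (Models.h1 R (Over.mk p) (Γ i) = 0 ∧
        ArSurf.inter R (Over.mk p) (L i) (Γ i) = -(Models.wdeg R (Over.mk p) (Γ i) : ℤ)) :=
    fun i => isExcCurve_iff hp (Γ i) (isEffCartierIdeal_ker hX.2.2 Γ hΓ i) (L i) (hL i)
  constructor
  · intro hmin i hnum
    exact hmin.2 (Γ i) ((hiff i).mpr hnum)
  · intro h
    refine ⟨hX, fun Γ' hE => ?_⟩
    obtain ⟨i, hi⟩ := exists_ker_eq Γ hΓ Γ'
    exact h i ((hiff i).mp (isExcCurve_of_ker_eq Γ'.ι (Γ i).ι hi hE))

end model

end Groth.Agent.H5.ArS
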