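import Mathlib
import Groth.Agent.Lib.Helper5.ArS.FibKer
import Groth.Agent.Lib.Helper9.Misc.RSF1
import Groth.Agent.Lib.Helper3.CA.ABufd2

/-!
# Points of the closed fibre where the closed fibre is integral (S7920)
-/

set_option autoImplicit false
set_option linter.style.haveILetI false
universe u
open CategoryTheory CategoryTheory.Limits AlgebraicGeometry TopologicalSpace Opposite

namespace Groth.Agent.H5.ArS

open Groth.Agent.LD Groth.Agent.LD.QC

variable {R : Type u} [CommRing R] [IsDomain R] [IsDiscreteValuationRing R]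
  {X : Over (Spec (CommRingCat.of R))}

section prime

variable [Flat X.hom] [IsLocallyNoetherian X.left] (hreg : Models.IsRegularScheme X.left)
  {n : ℕ} (Γ : Fin n → ArSurf.VertComp R X) (hΓ : Models.IsComponentList R X Γ)
include hreg hΓ

/-- at a point of the closed fibre where `𝔪_R O_{X,x}` is a prime ideal, exactly one component
passes, and it has multiplicity one. -/
theorem unique_component_of_isPrime (x : X.left) (hxF : x ∈ Models.specialFibreSet R X)
    (hprime : (Ideal.map (Models.stalkHom R X x) (IsLocalRing.maximalIdeal R)).IsPrime) :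
    (∃! i : Fin n, x ∈ Set.range (Γ i).ι) ∧
      ∀ i : Fin n, x ∈ Set.range (Γ i).ι → Models.mult R X (Γ i) = 1 := by
  obtain ⟨ϖ, hϖ⟩ := IsDiscreteValuationRing.exists_irreducible R
  obtain ⟨V, hV, hxV, -⟩ := exists_isAffineOpen_mem_and_subset (x := x) (U := (⊤ : X.left.Opens))
    trivial
  letI : Algebra Γ(X.left, V) (X.left.presheaf.stalk x) :=
    TopCat.Presheaf.algebra_section_stalk X.left.presheaf ⟨x, hxV⟩
  haveI := hV.isLocalization_stalk ⟨x, hxV⟩
  haveI := hreg x
  obtain ⟨hd, hu⟩ := Groth.Agent.H3.ABufd.main (X.left.presheaf.stalk x)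
  set Q := (hV.primeIdealOf ⟨x, hxV⟩).asIdeal with hQ
  set πV := toSec X V ϖ with hπV
  set πB := algebraMap Γ(X.left, V) (X.left.presheaf.stalk x) πV with hπBdef
  have hπB0 : πB ≠ 0 := by
    have := IsLocalization.map_nonZeroDivisors_le Q.primeCompl (X.left.presheaf.stalk x)
      (Submonoid.mem_map_of_mem _ (toSec_mem_nonZeroDivisors hV ϖ hϖ.ne_zero))
    exact nonZeroDivisors.ne_zero this
  have hspanπ : Ideal.map (Models.stalkHom R X x) (IsLocalRing.maximalIdeal R) =
      Ideal.span {πB} := by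
    rw [hϖ.maximalIdeal_eq, Ideal.map_span, Set.image_singleton]
    congr 2
    change (X.left.presheaf.germ ⊤ _ trivial).hom (Coh.toGlobal X.hom ϖ) =
      (X.left.presheaf.germ V _ hxV).hom
        ((X.left.presheaf.map (homOfLE le_top).op).hom (Coh.toGlobal X.hom ϖ))
    exact (TopCat.Presheaf.germ_res_apply X.left.presheaf (homOfLE le_top) _ hxV _).symm
  have hπBprime : Prime πB := by
    rw [hspanπ] at hprime
    exact (Ideal.span_singleton_prime hπB0).mp hprime
  have hπmem : ∀ i, πV ∈ (Γ i).ι.ker.ideal ⟨V, hV⟩ := fun i =>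
    toSec_mem_ker (Γ i) ⟨V, hV⟩ ϖ (by
      rw [hϖ.maximalIdeal_eq]
      exact Ideal.mem_span_singleton_self ϖ)
  -- the local picture at a component through `x`
  have hloc : ∀ i, x ∈ Set.range (Γ i).ι →
      ((Γ i).ι.ker.ideal ⟨V, hV⟩).IsPrime ∧ (Γ i).ι.ker.ideal ⟨V, hV⟩ ≤ Q ∧
      ((Γ i).ι.ker.ideal ⟨V, hV⟩).map (algebraMap Γ(X.left, V) (X.left.presheaf.stalk x)) =
        Ideal.span {πB} := by
    intro i hxi
    have hxs : x ∈ (Γ i).ι.ker.support := by
      change x ∈ ((Γ i).ι.ker.support : Set _)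
      rw [support_ker_ι]
      exact hxi
    have hle : (Γ i).ι.ker.ideal ⟨V, hV⟩ ≤ Q := (mem_support_iff hV _ x hxV).mp hxs
    have hP : ((Γ i).ι.ker.ideal ⟨V, hV⟩).IsPrime := by
      rcases ker_ideal_top_or_prime (Γ i) ⟨V, hV⟩ with h | h
      · exfalso
        rw [h] at hle
        exact (hV.primeIdealOf ⟨x, hxV⟩).isPrime.ne_top (top_le_iff.mp hle)
      · exact h
    obtain ⟨q, hq, hqπ, hspan⟩ := exists_prime_map_eq_span Q (X.left.presheaf.stalk x) πV hπB0
      ((Γ i).ι.ker.ideal ⟨V, hV⟩) hle (hπmem i)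
      (fun P' hP' hπ hle' => ker_minimal Γ hΓ ⟨V, hV⟩ ϖ hϖ i hP P' hP' hπ hle')
    refine ⟨hP, hle, ?_⟩
    rw [hspan]
    exact Ideal.span_singleton_eq_span_singleton.mpr (hq.associated_of_dvd hπBprime hqπ)
  have hdisj : ∀ i, (Γ i).ι.ker.ideal ⟨V, hV⟩ ≤ Q →
      Disjoint (Q.primeCompl : Set Γ(X.left, V)) ((Γ i).ι.ker.ideal ⟨V, hV⟩ : Set _) := by
    intro i hle
    rw [Set.disjoint_left]
    intro a ha haP
    exact ha (hle haP)
  have huniq : ∀ i j, x ∈ Set.range (Γ i).ι → x ∈ Set.range (Γ j).ι → i = j := by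
    intro i j hi hj
    obtain ⟨hPi, hlei, hmi⟩ := hloc i hi
    obtain ⟨hPj, hlej, hmj⟩ := hloc j hj
    refine ker_injective Γ hΓ ⟨V, hV⟩ i j hPi ?_
    rw [← IsLocalization.under_map_of_isPrime_disjoint Q.primeCompl (X.left.presheaf.stalk x)
      hPi (hdisj i hlei),
      ← IsLocalization.under_map_of_isPrime_disjoint Q.primeCompl (X.left.presheaf.stalk x)
      hPj (hdisj j hlej), hmi, hmj]
  have hex : ∃ i, x ∈ Set.range (Γ i).ι := by
    have hπQ : πV ∈ Q := (mem_specialFibreSet_iff hV x hxV ϖ hϖ).mp hxF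
    obtain ⟨i, hPi, hle⟩ := exists_ker_le Γ hΓ ⟨V, hV⟩ ϖ hϖ Q (hV.primeIdealOf ⟨x, hxV⟩).isPrime hπQ
    refine ⟨i, ?_⟩
    rw [← support_ker_ι]
    exact (mem_support_iff hV _ x hxV).mpr hle
  refine ⟨?_, ?_⟩
  · obtain ⟨i, hi⟩ := hex
    exact ⟨i, hi, fun j hj => huniq j i hj hi⟩
  · intro i hi
    obtain ⟨hPi, hlei, hmi⟩ := hloc i hi
    -- localise the product formula at `x`
    have hprod := specialFibreIdeal_eq_prod hreg Γ hΓ
    have h1 : (Models.specialFibreIdeal R X).ideal ⟨V, hV⟩ = Ideal.span {πV} := by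
      rw [specialFibreIdeal_ideal, hϖ.maximalIdeal_eq, Ideal.map_span, Set.image_singleton]
    have h2 : Ideal.span {πV} = ∏ j, (Γ j).ι.ker.ideal ⟨V, hV⟩ ^ Models.mult R X (Γ j) := by
      rw [← h1, hprod, ideal_prod_pow]
    have h3 := congrArg (Ideal.map (algebraMap Γ(X.left, V) (X.left.presheaf.stalk x))) h2
    rw [Ideal.map_span, Set.image_singleton, ← Ideal.mapHom_apply, map_prod] at h3
    have h4 : ∀ j ∈ Finset.univ, j ≠ i →
        Ideal.mapHom (algebraMap Γ(X.left, V) (X.left.presheaf.stalk x))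
          ((Γ j).ι.ker.ideal ⟨V, hV⟩ ^ Models.mult R X (Γ j)) = 1 := by
      intro j _ hji
      rw [Ideal.mapHom_apply, Ideal.map_pow]
      have hnot : ¬ (Γ j).ι.ker.ideal ⟨V, hV⟩ ≤ Q := by
        intro hle
        apply hji
        have hxj : x ∈ Set.range (Γ j).ι := by
          rw [← support_ker_ι]
          exact (mem_support_iff hV _ x hxV).mpr hle
        exact huniq j i hxj hi
      rw [IsLocalization.AtPrime.map_eq_top_of_not_le (X.left.presheaf.stalk x) hnot,
        Ideal.top_pow, Ideal.one_eq_top]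
    rw [Finset.prod_eq_single_of_mem i (Finset.mem_univ i) h4, Ideal.mapHom_apply, Ideal.map_pow,
      hmi, Ideal.span_singleton_pow, Ideal.span_singleton_eq_span_singleton] at h3
    -- `πB ~ πB ^ m` with `πB` prime forces `m = 1`
    obtain ⟨u, hu⟩ := h3
    rcases Nat.lt_trichotomy (Models.mult R X (Γ i)) 1 with hlt | heq | hgt
    · exfalso
      have h0 : Models.mult R X (Γ i) = 0 := by omega
      rw [h0, pow_zero] at hu
      exact hπBprime.not_isUnit (IsUnit.of_mul_eq_one _ hu)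
    · exact heq
    · exfalso
      obtain ⟨m, hm⟩ : ∃ m, Models.mult R X (Γ i) = m + 2 := ⟨Models.mult R X (Γ i) - 2, by omega⟩
      rw [hm] at hu
      have h5 : πB * (1 - πB ^ (m + 1) * (↑u⁻¹ : X.left.presheaf.stalk x)) = 0 := by
        have : πB ^ (m + 2) = πB * ↑u := hu.symm
        have h6 : πB ^ (m + 2) * (↑u⁻¹ : X.left.presheaf.stalk x) = πB := by
          rw [this, mul_assoc, Units.mul_inv, mul_one]
        calc πB * (1 - πB ^ (m + 1) * (↑u⁻¹ : X.left.presheaf.stalk x))
            = πB - πB ^ (m + 2) * ↑u⁻¹ := by ring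
          _ = 0 := by rw [h6, sub_self]
      rcases mul_eq_zero.mp h5 with h | h
      · exact hπB0 h
      · have h7 : πB ^ (m + 1) * (↑u⁻¹ : X.left.presheaf.stalk x) = 1 := by
          rw [sub_eq_zero] at h
          exact h.symm
        have h8 : IsUnit (πB ^ (m + 1)) := IsUnit.of_mul_eq_one _ h7
        exact hπBprime.not_isUnit ((isUnit_pow_iff (Nat.succ_ne_zero m)).mp h8)

end prime

end Groth.Agent.H5.ArS
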