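import Mathlib
import Groth.Agent.Lib.Helper5.ArS.FibSec
import Groth.Agent.Lib.Helper5.ArS.ChainGeo
import Groth.Agent.Lib.Helper5.ArS.ChiGeo
import Groth.Agent.Lib.Helper5.ArS.ExcB
import Groth.Agent.Lib.Helper5.ArS.CohFlat
import Groth.Agent.Lib.Helper5.ArS.FibConn
import Groth.Agent.S19912

/-!
# Consequences of a rational point on the generic fibre (S3344)
-/

set_option autoImplicit false
set_option linter.style.haveILetI false
universe u
open CategoryTheory CategoryTheory.Limits AlgebraicGeometry TopologicalSpace Opposite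

namespace Groth.Agent.H5.ArS

open Groth.Agent.LD Groth.Agent.LD.QC

variable {R : Type u} [CommRing R] [IsDomain R] [IsDiscreteValuationRing R]

section lift

variable {C Y : Scheme.{u}} (f : C ⟶ Spec (CommRingCat.of (FractionRing R)))
  (p : Y ⟶ Spec (CommRingCat.of R))

/-- a rational point of the generic fibre of a proper model extends to a section. -/
theorem exists_section_of_rational_point [IsProper p] (g : C ⟶ Y)
    (hg : IsPullback g f p (Spec.map (CommRingCat.ofHom (algebraMap R (FractionRing R)))))
    (s : Spec (CommRingCat.of (FractionRing R)) ⟶ C) (hs : s ≫ f = 𝟙 _) :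
    ∃ σ : Spec (CommRingCat.of R) ⟶ Y, σ ≫ p = 𝟙 _ ∧
      Spec.map (CommRingCat.ofHom (algebraMap R (FractionRing R))) ≫ σ = s ≫ g := by
  have hex : ValuativeCriterion.Existence p := by
    have h : UniversallyClosed p := inferInstance
    rw [UniversallyClosed.eq_valuativeCriterion] at h
    exact h.1
  let S : ValuativeCommSq p :=
    { R := R
      K := FractionRing R
      i₁ := s ≫ g
      i₂ := 𝟙 _
      commSq := ⟨by
        rw [Category.assoc, hg.w, ← Category.assoc, hs, Category.id_comp, Category.comp_id]⟩ }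
  obtain ⟨⟨l⟩⟩ := hex S
  exact ⟨l.l, l.fac_right, l.fac_left⟩

end lift

section sec

variable {X : Over (Spec (CommRingCat.of R))}
  [Flat X.hom] [IsLocallyNoetherian X.left] (hreg : Models.IsRegularScheme X.left)
  {n : ℕ} (Γ : Fin n → ArSurf.VertComp R X) (hΓ : Models.IsComponentList R X Γ)
  (σ : Spec (CommRingCat.of R) ⟶ X.left) (hσ : σ ≫ X.hom = 𝟙 _)
include hreg hΓ hσ

/-- **S7920** in general form: a section meets the closed fibre in a rational point at which the
closed fibre is regular, lying on exactly one component, which has multiplicity one. -/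
theorem section_facts :
    σ.base (IsLocalRing.closedPoint R) ∈ Models.specialFibreSet R X ∧
    Function.Surjective ((X.left.residue (σ.base (IsLocalRing.closedPoint R))).hom.comp
        (Models.stalkHom R X (σ.base (IsLocalRing.closedPoint R)))) ∧
      IsRegularLocalRing (X.left.presheaf.stalk (σ.base (IsLocalRing.closedPoint R)) ⧸
        Ideal.map (Models.stalkHom R X (σ.base (IsLocalRing.closedPoint R)))
          (IsLocalRing.maximalIdeal R)) ∧
      (∃! i : Fin n, σ.base (IsLocalRing.closedPoint R) ∈ Set.range (Γ i).ι) ∧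
      ∀ i : Fin n, σ.base (IsLocalRing.closedPoint R) ∈ Set.range (Γ i).ι →
        Models.mult R X (Γ i) = 1 := by
  have hσ' : σ ≫ X.hom = Spec.map (CommRingCat.ofHom (algebraMap R R)) := by
    rw [hσ]
    exact Spec.map_id _ |>.symm
  have hcomp := Groth.Agent.H9.RSF.geom R R X.hom σ hσ'
  have h1 : (Scheme.stalkClosedPointTo σ).hom.comp
      (Models.stalkHom R X (σ.base (IsLocalRing.closedPoint R))) = RingHom.id R := hcomp
  haveI : IsLocalHom (Scheme.stalkClosedPointTo σ).hom := inferInstance
  have hregq := Groth.Agent.S19912.result R X R (by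
    rw [Algebra.algebraMap_self, Ideal.map_id]) σ hσ' (σ.base (IsLocalRing.closedPoint R)) rfl
    (hreg _)
  have hxF : σ.base (IsLocalRing.closedPoint R) ∈ Models.specialFibreSet R X := by
    change X.hom.base (σ.base (IsLocalRing.closedPoint R)) ∈ ({IsLocalRing.closedPoint R} : Set _)
    have : (σ ≫ X.hom).base (IsLocalRing.closedPoint R) = IsLocalRing.closedPoint R := by
      rw [hσ]; rfl
    exact this
  have hprime : (Ideal.map (Models.stalkHom R X (σ.base (IsLocalRing.closedPoint R)))
      (IsLocalRing.maximalIdeal R)).IsPrime := by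
    haveI := hregq
    have hd := (Groth.Agent.H3.ABufd.main (X.left.presheaf.stalk (σ.base (IsLocalRing.closedPoint R)) ⧸
      Ideal.map (Models.stalkHom R X (σ.base (IsLocalRing.closedPoint R)))
        (IsLocalRing.maximalIdeal R))).1
    exact (Ideal.Quotient.isDomain_iff_prime _).mp hd
  obtain ⟨h3, h4⟩ := unique_component_of_isPrime hreg Γ hΓ _ hxF hprime
  refine ⟨hxF, ?_, hregq, h3, h4⟩
  intro c
  obtain ⟨b, rfl⟩ := IsLocalRing.residue_surjective (R := X.left.presheaf.stalk
    (σ.base (IsLocalRing.closedPoint R))) c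
  refine ⟨(Scheme.stalkClosedPointTo σ).hom b, ?_⟩
  change IsLocalRing.residue _ (Models.stalkHom R X (σ.base (IsLocalRing.closedPoint R))
    ((Scheme.stalkClosedPointTo σ).hom b)) = IsLocalRing.residue _ b
  rw [← sub_eq_zero, ← map_sub, IsLocalRing.residue_eq_zero_iff]
  by_contra hnot
  have hu : IsUnit (Models.stalkHom R X (σ.base (IsLocalRing.closedPoint R))
    ((Scheme.stalkClosedPointTo σ).hom b) - b) := by
    by_contra h
    exact hnot ((IsLocalRing.mem_maximalIdeal _).mpr h)
  have hu2 := hu.map (Scheme.stalkClosedPointTo σ).hom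
  rw [map_sub] at hu2
  have h5 : (Scheme.stalkClosedPointTo σ).hom (Models.stalkHom R X (σ.base (IsLocalRing.closedPoint R))
    ((Scheme.stalkClosedPointTo σ).hom b)) = (Scheme.stalkClosedPointTo σ).hom b :=
    congrArg (fun g => g ((Scheme.stalkClosedPointTo σ).hom b)) h1
  rw [h5, sub_self] at hu2
  exact not_isUnit_zero hu2

omit hreg hΓ [Flat X.hom] [IsLocallyNoetherian X.left] in
/-- the image of the closed point under a section of a separated morphism is a closed point. -/
theorem isClosed_section_closedPoint [IsSeparated X.hom] :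
    IsClosed ({σ.base (IsLocalRing.closedPoint R)} : Set X.left) := by
  haveI : IsClosedImmersion (σ ≫ X.hom) := by
    rw [hσ]
    infer_instance
  haveI : IsClosedImmersion σ := IsClosedImmersion.of_comp σ X.hom
  have h := (Scheme.Hom.isClosedEmbedding σ).isClosedMap _
    (IsLocalRing.isClosed_singleton_closedPoint R)
  convert h using 1
  exact Set.image_singleton.symm

end sec

section ev

variable {X : Over (Spec (CommRingCat.of R))}

/-- a closed subscheme through a rational point whose ring of global functions is a field has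
only the constants of `R` as global functions. -/
theorem toGlobal_surjective_of_isField {Z : Scheme.{u}} (ι : Z ⟶ X.left) [IsClosedImmersion ι]
    (z : Z)
    (hsurj : Function.Surjective ((X.left.residue (ι.base z)).hom.comp
      (Models.stalkHom R X (ι.base z))))
    (hfield : IsField Γ(Z, ⊤)) : Function.Surjective (Coh.toGlobal (ι ≫ X.hom)) := by
  have hinj : Function.Injective (Z.Γevaluation z).hom := by
    rw [injective_iff_map_eq_zero]
    intro a ha
    by_contra ha0
    obtain ⟨b, hb⟩ := hfield.mul_inv_cancel ha0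
    have := congrArg (Z.Γevaluation z).hom hb
    rw [map_mul, ha, zero_mul, map_one] at this
    exact zero_ne_one this
  have hres : Function.Surjective (ι.residueFieldMap z).hom := by
    intro c
    obtain ⟨b, rfl⟩ := Z.residue_surjective z c
    obtain ⟨b', rfl⟩ := ι.stalkMap_surjective z b
    refine ⟨(X.left.residue (ι.base z)).hom b', ?_⟩
    have := Scheme.residue_residueFieldMap ι z
    exact congr($this b')
  intro a
  obtain ⟨c, hc⟩ := hres ((Z.Γevaluation z).hom a)
  obtain ⟨r, hr⟩ := hsurj c
  refine ⟨r, hinj ?_⟩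
  rw [← hc, ← hr]
  have h1 : Coh.toGlobal (ι ≫ X.hom) r = ι.appTop.hom (Coh.toGlobal X.hom r) := by
    unfold Coh.toGlobal
    rw [Scheme.Hom.comp_appTop]
    rfl
  rw [h1]
  exact (Scheme.Γevaluation_naturality_apply ι z (Coh.toGlobal X.hom r)).symm

/-- a vertical prime divisor through a rational point has `H⁰(Γ, O_Γ) = k`. -/
theorem wdeg_eq_one_of_rational_point (hp : IsProper X.hom) (Γ' : ArSurf.VertComp R X)
    (z : Γ'.curve.left) (x : X.left) (hzx : Γ'.ι.base z = x)
    (hsurj : Function.Surjective ((X.left.residue x).hom.comp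
      (Models.stalkHom R X x))) : Models.wdeg R X Γ' = 1 := by
  subst hzx
  haveI hpk : IsProper (Γ'.curve.left ↘ Spec (CommRingCat.of (IsLocalRing.ResidueField R))) :=
    isProper_curve_hom hp Γ'
  have hF : IsField Γ(Γ'.curve.left, ⊤) :=
    DegC.isField_Γ (IsLocalRing.ResidueField R) Γ'.curve.left
  have hs := toGlobal_surjective_of_isField Γ'.ι z hsurj hF
  have h1 : Coh.toGlobal (Γ'.ι ≫ X.hom) =
      (Coh.toGlobal Γ'.curve.hom).comp (IsLocalRing.residue R) := by
    rw [Γ'.w]
    exact toGlobal_comp_specMap_hom _ _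
  have hbij : Function.Bijective
      (Coh.toGlobal (Γ'.curve.left ↘ Spec (CommRingCat.of (IsLocalRing.ResidueField R)))) := by
    refine ⟨?_, ?_⟩
    · haveI : Nontrivial Γ(Γ'.curve.left, ⊤) := hF.nontrivial
      exact RingHom.injective
        (show IsLocalRing.ResidueField R →+* Γ(Γ'.curve.left, ⊤) from Coh.toGlobal Γ'.curve.hom)
    · intro a
      obtain ⟨r, hr⟩ := hs a
      refine ⟨IsLocalRing.residue R r, ?_⟩
      rw [← hr, h1]
      rfl
  exact finrank_HH0_eq_one_of_bijective (IsLocalRing.ResidueField R) Γ'.curve.left hbij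

/-- a closed subscheme through a rational point whose ring of global functions is a field has
`H⁰` of `R`-length one. -/
theorem lengthH_quotMod_eq_one (J : X.left.IdealSheafData) (z : J.subscheme)
    (x : X.left) (hzx : J.subschemeι.base z = x)
    (hsurj : Function.Surjective ((X.left.residue x).hom.comp
      (Models.stalkHom R X x)))
    (hfield : IsField Γ(J.subscheme, ⊤)) : Models.lengthH R X (ClSub.quotMod J) 0 = 1 := by
  subst hzx
  have hs := toGlobal_surjective_of_isField J.subschemeι z hsurj hfield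
  letI oZ : J.subscheme.Over (Spec (CommRingCat.of R)) := ⟨J.subschemeι ≫ X.hom⟩
  haveI : J.subschemeι.IsOver (Spec (CommRingCat.of R)) := ⟨rfl⟩
  let e1 := CL.HHpushEquiv J.subschemeι R (Coh.structureModule J.subscheme) 0
  letI algA : Algebra R Γ(J.subscheme, ⊤) :=
    (Coh.toGlobal (J.subscheme ↘ Spec (CommRingCat.of R))).toAlgebra
  let e2 : Coh.HH J.subscheme (Coh.structureModule J.subscheme) 0 ≃ₗ[R] Γ(J.subscheme, ⊤) :=
    { CL.HH0Equiv (Coh.structureModule J.subscheme) with
      map_smul' := fun c x =>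
        CL.HH0Equiv_smul (Coh.structureModule J.subscheme)
          (Coh.toGlobal (J.subscheme ↘ Spec (CommRingCat.of R)) c) x }
  have hlen : Module.length R Γ(J.subscheme, ⊤) = 1 := by
    letI : Field Γ(J.subscheme, ⊤) := hfield.toField
    have hs' : Function.Surjective (algebraMap R Γ(J.subscheme, ⊤)) := hs
    rw [Module.length_eq_of_surjective hs']
    exact Module.length_eq_one _ _
  unfold Models.lengthH
  rw [(e1.symm ≪≫ₗ e2).length_eq, hlen]
  rfl

end ev

section model

variable {C Y : Scheme.{u}} (f : C ⟶ Spec (CommRingCat.of (FractionRing R)))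
  (p : Y ⟶ Spec (CommRingCat.of R)) (hX : Models.IsRegularProperModel R Y p C f)
  {n : ℕ} (Γ : Fin n → ArSurf.VertComp R (Over.mk p))
  (hΓ : Models.IsComponentList R (Over.mk p) Γ)
include hX hΓ

/-- **S3344**. -/
theorem rational_point_consequences (hH0 : IsIso f.appTop)
    (s : Spec (CommRingCat.of (FractionRing R)) ⟶ C) (hs : s ≫ f = 𝟙 _) :
    (∃ (i : Fin n) (x : Y), x ∈ Set.range ((Γ i).ι.base : (Γ i).curve.left → Y) ∧
        IsClosed ({x} : Set Y) ∧
        Function.Surjective ((Y.residue x).hom.comp (Models.stalkHom R (Over.mk p) x)) ∧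
        IsRegularLocalRing (Y.presheaf.stalk x ⧸
          Ideal.map (Models.stalkHom R (Over.mk p) x) (IsLocalRing.maximalIdeal R)) ∧
        Models.wdeg R (Over.mk p) (Γ i) = 1 ∧ Models.mult R (Over.mk p) (Γ i) = 1) ∧
      Models.lengthH R (Over.mk p)
        (ClSub.quotMod (Models.specialFibreIdeal R (Over.mk p))) 0 = 1 ∧
      Models.lengthH R (Over.mk p)
        (ClSub.quotMod (Models.specialFibreIdeal R (Over.mk p))) 1 =
        Models.curveGenus (FractionRing R) C f := by
  classical
  have hp : IsProper (Over.mk p).hom := hX.2.1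
  haveI : IsProper p := hX.2.1
  haveI : Flat (Over.mk p).hom := hX.1.1
  haveI : LocallyOfFiniteType p := hX.1.2.1
  haveI : IsLocallyNoetherian (Over.mk p).left := LocallyOfFiniteType.isLocallyNoetherian p
  have hreg := hX.2.2
  obtain ⟨g, hpb⟩ := hX.1.2.2.2
  obtain ⟨σ, hσ, -⟩ := exists_section_of_rational_point f p g hpb s hs
  obtain ⟨hxF, hsurj, hregq, ⟨i, hi, -⟩, hmult⟩ :=
    section_facts (X := Over.mk p) hreg Γ hΓ σ hσ
  have hcl := isClosed_section_closedPoint (X := Over.mk p) σ hσ
  obtain ⟨z, hz⟩ := hi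
  have hw : Models.wdeg R (Over.mk p) (Γ i) = 1 :=
    wdeg_eq_one_of_rational_point hp (Γ i) z _ hz hsurj
  have hm : Models.mult R (Over.mk p) (Γ i) = 1 := hmult i ⟨z, hz⟩
  have hgcd : Models.multGcd R (Over.mk p) Γ = 1 := by
    have h1 : Models.multGcd R (Over.mk p) Γ ∣ Models.mult R (Over.mk p) (Γ i) :=
      Finset.gcd_dvd (Finset.mem_univ i)
    rw [hm] at h1
    exact Nat.dvd_one.mp h1
  have hconn := isConnected_specialFibreSet_of_model f p hX hH0
  obtain ⟨t, a, -, hl, -, hF⟩ := exists_chain_fields (X := Over.mk p) hp hreg Γ hΓ hconn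
  have hprod := specialFibreIdeal_eq_prod hreg Γ hΓ
  have hfield : IsField Γ((Models.specialFibreIdeal R (Over.mk p)).subscheme, ⊤) := by
    have ha : a (Fin.last t) = fun j => Models.mult R (Over.mk p) (Γ j) := by
      rw [hl]
      funext j
      rw [hgcd, Nat.div_one]
    rw [hprod]
    have h := hF (Fin.last t)
    rw [ha] at h
    exact h
  have hxsupp : σ.base (IsLocalRing.closedPoint R) ∈
      Set.range (Models.specialFibreIdeal R (Over.mk p)).subschemeι := by
    rw [Scheme.IdealSheafData.range_subschemeι, support_specialFibreIdeal]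
    exact hxF
  obtain ⟨z', hz'⟩ := hxsupp
  have hh0 := lengthH_quotMod_eq_one (X := Over.mk p) (Models.specialFibreIdeal R (Over.mk p))
    z' _ hz' hsurj hfield
  have hI : ∀ j, BlowUp.IsEffCartierIdeal (Γ j).ι.ker :=
    fun j => isEffCartierIdeal_ker hreg Γ hΓ j
  have hex : ∀ j, ∃ L : Y.Modules, ClSub.IsInverseOf L (ClSub.idealMod (Γ j).ι.ker) := by
    intro j
    obtain ⟨L', -, ⟨e⟩⟩ := Groth.Agent.H5.Glue.exists_inverse (ClSub.idealMod (Γ j).ι.ker)
      ((isInvertible_idealMod_iff _).mpr (hI j))
    exact ⟨L', ⟨tensorCommGen _ _ ≪≫ e⟩⟩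
  choose L hL using hex
  have hchi := one_sub_genus_eq_of_proportional f p hX hH0 Γ hΓ L hL
    (fun j => Models.mult R (Over.mk p) (Γ j)) 1 (fun j => Nat.one_mul _)
  rw [← hprod, hh0] at hchi
  refine ⟨⟨i, _, ⟨z, hz⟩, hcl, hsurj, hregq, hw, hm⟩, hh0, ?_⟩
  push_cast at hchi
  omega

end model

end Groth.Agent.H5.ArS
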