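import Mathlib
import Groth.Agent.Lib.Helper5.ArS.RatPt
import Groth.Agent.Lib.Helper5.ArS.ExcD
import Groth.Agent.Lib.Helper5.ArS.NumType
import Groth.Agent.Lib.Helper5.Curve6.Rat
import Groth.Agent.Lib.Helper5.ArS.ExcC

/-!
# Two exceptional curves of the first kind which meet (S3327)
-/

set_option autoImplicit false
set_option linter.style.haveILetI false
universe u
open CategoryTheory CategoryTheory.Limits AlgebraicGeometry TopologicalSpace Opposite

namespace Groth.Agent.H5.ArS

open Groth.Agent.LD Groth.Agent.LD.QC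

variable {R : Type u} [CommRing R] [IsDomain R] [IsDiscreteValuationRing R]

section point

variable {X : Over (Spec (CommRingCat.of R))}

/-- on an affine scheme whose ring of global functions is a field, evaluation at a point is
surjective. -/
theorem Γevaluation_surjective_of_isField {Z : Scheme.{u}} [IsAffine Z] (hfield : IsField Γ(Z, ⊤))
    (z : Z) : Function.Surjective (Z.Γevaluation z).hom := by
  have hV : IsAffineOpen (⊤ : Z.Opens) := isAffineOpen_top Z
  have hz : z ∈ (⊤ : Z.Opens) := trivial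
  letI : Algebra Γ(Z, ⊤) (Z.presheaf.stalk z) :=
    TopCat.Presheaf.algebra_section_stalk Z.presheaf ⟨z, hz⟩
  haveI := hV.isLocalization_stalk ⟨z, hz⟩
  intro c
  obtain ⟨b, rfl⟩ := Z.residue_surjective z c
  obtain ⟨a, t, rfl⟩ := IsLocalization.exists_mk'_eq
    (hV.primeIdealOf ⟨z, hz⟩).asIdeal.primeCompl b
  have ht0 : (t : Γ(Z, ⊤)) ≠ 0 := by
    intro h
    exact t.2 (by rw [h]; exact Ideal.zero_mem _)
  obtain ⟨s, hs⟩ := hfield.mul_inv_cancel ht0
  refine ⟨a * s, ?_⟩
  have h1 : IsLocalization.mk' (Z.presheaf.stalk z) a t =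
      algebraMap Γ(Z, ⊤) (Z.presheaf.stalk z) (a * s) := by
    rw [IsLocalization.mk'_eq_iff_eq_mul, ← map_mul, mul_assoc, mul_comm s, hs, mul_one]
  rw [h1]
  rfl

/-- surjectivity of `R → κ(x)` can be tested on a closed subscheme through `x`. -/
theorem residue_stalkHom_surjective_of {Z : Scheme.{u}} (ι : Z ⟶ X.left) (z : Z)
    (h : ∀ c : Z.residueField z, ∃ r : R,
      (Z.Γevaluation z).hom (Coh.toGlobal (ι ≫ X.hom) r) = c) :
    Function.Surjective ((X.left.residue (ι.base z)).hom.comp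
      (Models.stalkHom R X (ι.base z))) := by
  intro c
  obtain ⟨r, hr⟩ := h ((ι.residueFieldMap z).hom c)
  refine ⟨r, ?_⟩
  have hinj : Function.Injective (ι.residueFieldMap z).hom := RingHom.injective _
  apply hinj
  rw [← hr]
  have h1 : Coh.toGlobal (ι ≫ X.hom) r = ι.appTop.hom (Coh.toGlobal X.hom r) := by
    unfold Coh.toGlobal
    rw [Scheme.Hom.comp_appTop]
    rfl
  rw [h1]
  exact Scheme.Γevaluation_naturality_apply ι z (Coh.toGlobal X.hom r)

/-- a closed subscheme of dimension zero whose `H⁰` has `R`-length one is a reduced rational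
point. -/
theorem exists_point_of_lengthH_eq_one [IsLocallyNoetherian X.left] [CompactSpace X.left]
    (K : X.left.IdealSheafData) (hdim : topologicalKrullDim K.subscheme ≤ 0)
    (hlen : Models.lengthH R X (ClSub.quotMod K) 0 = 1) :
    ∃ x : X.left, (K.support : Set X.left) = {x} ∧
      K = Scheme.IdealSheafData.vanishingIdeal ⟨closure {x}, isClosed_closure⟩ ∧
      Function.Surjective ((X.left.residue x).hom.comp (Models.stalkHom R X x)) := by
  classical
  haveI : IsLocallyNoetherian K.subscheme := LocallyOfFiniteType.isLocallyNoetherian K.subschemeι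
  haveI : CompactSpace K.subscheme := K.subschemeι.isClosedEmbedding.compactSpace
  haveI : IsLocallyArtinian K.subscheme := .of_topologicalKrullDim_le_zero hdim
  haveI : DiscreteTopology K.subscheme := inferInstance
  haveI : Finite K.subscheme := finite_of_compact_of_discrete
  haveI : IsAffine K.subscheme := inferInstance
  letI oZ : K.subscheme.Over (Spec (CommRingCat.of R)) := ⟨K.subschemeι ≫ X.hom⟩
  haveI : K.subschemeι.IsOver (Spec (CommRingCat.of R)) := ⟨rfl⟩
  let e1 := CL.HHpushEquiv K.subschemeι R (Coh.structureModule K.subscheme) 0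
  letI algA : Algebra R Γ(K.subscheme, ⊤) :=
    (Coh.toGlobal (K.subscheme ↘ Spec (CommRingCat.of R))).toAlgebra
  let e2 : Coh.HH K.subscheme (Coh.structureModule K.subscheme) 0 ≃ₗ[R] Γ(K.subscheme, ⊤) :=
    { CL.HH0Equiv (Coh.structureModule K.subscheme) with
      map_smul' := fun c x =>
        CL.HH0Equiv_smul (Coh.structureModule K.subscheme)
          (Coh.toGlobal (K.subscheme ↘ Spec (CommRingCat.of R)) c) x }
  have hlen' : Module.length R (Coh.HH X.left (ClSub.quotMod K) 0) = 1 := by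
    unfold Models.lengthH at hlen
    have h1 := (ENat.toNat_eq_iff (by norm_num : (1 : ℕ) ≠ 0)).mp hlen
    exact_mod_cast h1
  have hlenA : Module.length R Γ(K.subscheme, ⊤) = 1 := by
    rw [← (e1.symm ≪≫ₗ e2).length_eq]
    exact hlen'
  haveI hsimple : IsSimpleModule R Γ(K.subscheme, ⊤) := Module.length_eq_one_iff.mp hlenA
  haveI : Nontrivial Γ(K.subscheme, ⊤) := IsSimpleModule.nontrivial R _
  have hsurjA : Function.Surjective (algebraMap R Γ(K.subscheme, ⊤)) := by
    have h1 : LinearMap.range (Algebra.linearMap R Γ(K.subscheme, ⊤)) = ⊤ := by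
      rcases eq_bot_or_eq_top (LinearMap.range (Algebra.linearMap R Γ(K.subscheme, ⊤))) with h | h
      · exfalso
        have h2 : (1 : Γ(K.subscheme, ⊤)) ∈
            LinearMap.range (Algebra.linearMap R Γ(K.subscheme, ⊤)) :=
          ⟨1, by rw [Algebra.linearMap_apply, map_one]⟩
        rw [h] at h2
        exact one_ne_zero ((Submodule.mem_bot R).mp h2)
      · exact h
    exact LinearMap.range_eq_top.mp h1
  have hfield : IsField Γ(K.subscheme, ⊤) := by
    rw [Ring.isField_iff_isSimpleOrder_ideal]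
    refine { exists_pair_ne := ⟨⊥, ⊤, bot_ne_top⟩, eq_bot_or_eq_top := fun I => ?_ }
    rcases eq_bot_or_eq_top (I.restrictScalars R) with h | h
    · left
      rw [eq_bot_iff]
      intro a ha
      have : a ∈ I.restrictScalars R := ha
      rw [h] at this
      exact this
    · right
      rw [eq_top_iff]
      intro a _
      have : a ∈ I.restrictScalars R := by rw [h]; trivial
      exact this
  -- the unique point
  have hsub : ∀ z z' : K.subscheme, z = z' := by
    letI : Field Γ(K.subscheme, ⊤) := hfield.toField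
    intro z z'
    have hinj : Function.Injective K.subscheme.isoSpec.hom.base :=
      K.subscheme.isoSpec.hom.homeomorph.injective
    apply hinj
    exact Subsingleton.elim (α := PrimeSpectrum Γ(K.subscheme, ⊤)) _ _
  obtain ⟨q⟩ : Nonempty (PrimeSpectrum Γ(K.subscheme, ⊤)) := inferInstance
  let z : K.subscheme := K.subscheme.isoSpec.inv.base q
  have hrange : Set.range K.subschemeι = {K.subschemeι.base z} := by
    ext y
    simp only [Set.mem_range, Set.mem_singleton_iff]
    constructor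
    · rintro ⟨z', rfl⟩
      rw [hsub z' z]
    · rintro rfl
      exact ⟨z, rfl⟩
  haveI : _root_.IsReduced Γ(K.subscheme, ⊤) := by
    letI : Field Γ(K.subscheme, ⊤) := hfield.toField
    infer_instance
  haveI : IsReduced K.subscheme := isReduced_of_isAffine_isReduced _
  refine ⟨K.subschemeι.base z, ?_, ?_, ?_⟩
  · rw [← K.range_subschemeι]
    exact hrange
  · calc K = K.subschemeι.ker := K.ker_subschemeι.symm
      _ = Scheme.IdealSheafData.vanishingIdeal (Closeds.closure (Set.range K.subschemeι)) :=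
          Curve6.ker_eq_vanishingIdeal_of_isReduced _
      _ = _ := by
          congr 1
          apply Closeds.ext
          rw [Closeds.coe_closure, hrange]
          rfl
  · refine residue_stalkHom_surjective_of K.subschemeι z (fun c => ?_)
    obtain ⟨a, ha⟩ := Γevaluation_surjective_of_isField hfield z c
    obtain ⟨r, hr⟩ := hsurjA a
    refine ⟨r, ?_⟩
    rw [← ha, ← hr]
    rfl

end point

section two

variable {X : Over (Spec (CommRingCat.of R))}

theorem withBot_enat_le_zero_of_lt_one (d : WithBot ℕ∞) (h : d < 1) : d ≤ 0 := by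
  induction d using WithBot.recBotCoe with
  | bot => exact bot_le
  | coe n =>
    have h3 : ((n : ℕ∞) : WithBot ℕ∞) < ((1 : ℕ∞) : WithBot ℕ∞) := h
    have h' : n < 1 := WithBot.coe_lt_coe.mp h3
    have h2 : n = 0 := ENat.lt_one_iff_eq_zero.mp h'
    rw [h2]
    rfl

/-- two distinct vertical prime divisors meet in a scheme of dimension at most zero. -/
theorem dim_subscheme_sup_le_zero (Γ₁ Γ₂ : ArSurf.VertComp R X)
    (hne : Set.range Γ₁.ι ≠ Set.range Γ₂.ι) :
    topologicalKrullDim (Γ₁.ι.ker ⊔ Γ₂.ι.ker).subscheme ≤ 0 := by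
  set K := Γ₁.ι.ker ⊔ Γ₂.ι.ker with hK
  obtain ⟨hc₁, hi₁, hd₁, -⟩ := range_ι_facts Γ₁
  obtain ⟨hc₂, hi₂, hd₂, -⟩ := range_ι_facts Γ₂
  have hsupp : (K.support : Set X.left) = Set.range Γ₁.ι ∩ Set.range Γ₂.ι := by
    rw [hK, Scheme.IdealSheafData.support_sup]
    change (Γ₁.ι.ker.support : Set X.left) ∩ (Γ₂.ι.ker.support : Set X.left) = _
    rw [support_ker_ι, support_ker_ι]
  have h1 : topologicalKrullDim K.subscheme = topologicalKrullDim ↥(K.support : Set X.left) := by
    rw [← K.range_subschemeι]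
    exact (Groth.Agent.H1.UOVal.dim_range_eq_of_isEmbedding
      K.subschemeι.isClosedEmbedding.isEmbedding).symm
  rw [h1, hsupp]
  apply withBot_enat_le_zero_of_lt_one
  have hss : Set.range Γ₁.ι ∩ Set.range Γ₂.ι ⊂ Set.range Γ₁.ι := by
    refine lt_of_le_of_ne Set.inter_subset_left ?_
    intro heq
    have hsub : Set.range Γ₁.ι ⊆ Set.range Γ₂.ι := by
      rw [← heq]
      exact Set.inter_subset_right
    have hss' : Set.range Γ₁.ι ⊂ Set.range Γ₂.ι := lt_of_le_of_ne hsub hne
    have hlt := Groth.Agent.H6.ConnDim.dim_lt_of_ssubset hc₁ hi₂ hss' (by rw [hd₂]; decide)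
    rw [hd₁, hd₂] at hlt
    exact lt_irrefl _ hlt
  have hlt := Groth.Agent.H6.ConnDim.dim_lt_of_ssubset (hc₁.inter hc₂) hi₁ hss
    (by rw [hd₁]; decide)
  rw [hd₁] at hlt
  exact hlt

/-- the intersection number of two distinct vertical prime divisors is the length of their
scheme-theoretic intersection. -/
theorem lengthH_quotMod_sup_eq_inter (hp : IsProper X.hom) (Γ₁ Γ₂ : ArSurf.VertComp R X)
    (hne : Set.range Γ₁.ι ≠ Set.range Γ₂.ι) (hI₂ : BlowUp.IsEffCartierIdeal Γ₂.ι.ker)
    (L₂ : X.left.Modules) (hL₂ : ClSub.IsInverseOf L₂ (ClSub.idealMod Γ₂.ι.ker)) :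
    (Models.lengthH R X (ClSub.quotMod (Γ₂.ι.ker ⊔ Γ₁.ι.ker)) 0 : ℤ) =
      ArSurf.inter R X L₂ Γ₁ := by
  rw [lengthH_quotMod_sup hp Γ₁ Γ₂.ι.ker,
    inter_eq_finrank hp Γ₁ Γ₂.ι.ker hI₂ (genericPoint_notMem_of_ne Γ₁ Γ₂ hne) L₂ hL₂]

/-- a vertical prime divisor with `H¹(O) = 0`, `H⁰(O) = k` and self-intersection `-1` is a
projective line over `k`. -/
theorem exists_iso_P1_of_numerical (hp : IsProper X.hom) (Γ' : ArSurf.VertComp R X)
    (hcart : BlowUp.IsEffCartierIdeal Γ'.ι.ker)
    (L : X.left.Modules) (hL : ClSub.IsInverseOf L (ClSub.idealMod Γ'.ι.ker))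
    (h1 : Models.h1 R X Γ' = 0)
    (hself : ArSurf.inter R X L Γ' = -(Models.wdeg R X Γ' : ℤ))
    (hw : Models.wdeg R X Γ' = 1) :
    ∃ e : Γ'.curve.left ≅ CohB1.ProjSpace 1 (IsLocalRing.ResidueField R),
      e.hom ≫ CohB1.ProjSpace.toSpec 1 (IsLocalRing.ResidueField R) = Γ'.curve.hom := by
  haveI hpk : IsProper (Γ'.curve.left ↘ Spec (CommRingCat.of (IsLocalRing.ResidueField R))) :=
    isProper_curve_hom hp Γ'
  have hdim := dim_curve_le Γ'
  have hsub : Subsingleton (Coh.HH Γ'.curve.left (Coh.structureModule Γ'.curve.left) 1) := by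
    haveI := Curve.isLocallyNoetherian (IsLocalRing.ResidueField R) Γ'.curve.left
    haveI : Module.Finite (IsLocalRing.ResidueField R)
        (Coh.HH Γ'.curve.left (Coh.structureModule Γ'.curve.left) 1) :=
      Curve.finite_HH (IsLocalRing.ResidueField R) Γ'.curve.left _
        (PF.isCoh_unitMod Γ'.curve.left) 1
    exact Module.finrank_zero_iff.mp h1
  obtain ⟨hLinv, hpL, hpI, ⟨ε⟩⟩ := pullback_inverse_facts Γ'.ι Γ'.ι.ker hcart L hL
  haveI := qc_of_isInvertible _ hpI
  have hdegk : Curv2.deg (IsLocalRing.ResidueField R) Γ'.curve.left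
      ((Scheme.Modules.pullback Γ'.ι).obj (ClSub.idealMod Γ'.ι.ker)) 1 = 1 := by
    rw [← curveDeg_eq_deg (IsLocalRing.ResidueField R) hdim _ hpI]
    have h5 := curveDeg_of_inverse (IsLocalRing.ResidueField R) hdim _ _ hpL hpI ε
    have h6 : ArSurf.inter R X L Γ' = ArSurf.curveDeg (IsLocalRing.ResidueField R) Γ'.curve.left
      ((Scheme.Modules.pullback Γ'.ι).obj L) := rfl
    rw [h6, h5, hw] at hself
    push_cast at hself
    linarith
  obtain ⟨e, -, he⟩ := Curve6.exists_iso_P1_of_h1_zero_of_deg_one' (IsLocalRing.ResidueField R)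
    Γ'.curve.left Γ'.dim_eq hsub _ hpI hdegk
  exact ⟨e, he⟩

end two

section model

variable {C Y : Scheme.{u}} (f : C ⟶ Spec (CommRingCat.of (FractionRing R)))
  (p : Y ⟶ Spec (CommRingCat.of R)) (hX : Models.IsRegularProperModel R Y p C f)
  (hH0 : IsIso f.appTop) {n : ℕ} (Γ : Fin n → ArSurf.VertComp R (Over.mk p))
  (hΓ : Models.IsComponentList R (Over.mk p) Γ)
  (L : Fin n → Y.Modules)
  (hL : ∀ j, ClSub.IsInverseOf (L j) (ClSub.idealMod (Γ j).ι.ker))
include hX hH0 hΓ hL

/-- the numerical consequences of two exceptional curves meeting. -/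
theorem excCurves_meet_numeric (i j : Fin n) (hij : i ≠ j)
    (hi : Models.IsExcCurve (Γ i).ι) (hj : Models.IsExcCurve (Γ j).ι)
    (hmeet : ¬ Disjoint (Set.range (Γ i).ι) (Set.range (Γ j).ι)) :
    (∀ l, l = i ∨ l = j) ∧
      Models.mult R (Over.mk p) (Γ i) = 1 ∧ Models.mult R (Over.mk p) (Γ j) = 1 ∧
      Models.wdeg R (Over.mk p) (Γ i) = 1 ∧ Models.wdeg R (Over.mk p) (Γ j) = 1 ∧
      ArSurf.inter R (Over.mk p) (L j) (Γ i) = 1 ∧
      Models.curveGenus (FractionRing R) C f = 0 := by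
  classical
  have hp : IsProper (Over.mk p).hom := hX.2.1
  haveI : Flat (Over.mk p).hom := hX.1.1
  haveI : LocallyOfFiniteType p := hX.1.2.1
  haveI : IsLocallyNoetherian (Over.mk p).left := LocallyOfFiniteType.isLocallyNoetherian p
  have hreg := hX.2.2
  have hI : ∀ l, BlowUp.IsEffCartierIdeal (Γ l).ι.ker := fun l => isEffCartierIdeal_ker hreg Γ hΓ l
  have hconn := isConnected_specialFibreSet_of_model f p hX hH0
  obtain ⟨h1i, hsi⟩ := (isExcCurve_iff hp (Γ i) (hI i) (L i) (hL i)).mp hi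
  obtain ⟨h1j, hsj⟩ := (isExcCurve_iff hp (Γ j) (hI j) (L j) (hL j)).mp hj
  obtain ⟨hsym, hnn, hzero⟩ := inter_offdiag hp Γ hΓ L hL i j hij
  set c := ArSurf.inter R (Over.mk p) (L j) (Γ i) with hc
  set wi := Models.wdeg R (Over.mk p) (Γ i) with hwi
  set wj := Models.wdeg R (Over.mk p) (Γ j) with hwj
  have hwipos : 0 < wi := wdeg_pos hp (Γ i)
  have hwjpos : 0 < wj := wdeg_pos hp (Γ j)
  have hcpos : 0 < c := lt_of_le_of_ne hnn (fun h => hmeet (hzero.mp h.symm))
  have hdi : (wi : ℤ) ∣ c := wdeg_dvd_inter hp (Γ i) (L j)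
  have hdj : (wj : ℤ) ∣ c := by
    rw [hsym]
    exact wdeg_dvd_inter hp (Γ j) (L i)
  have hci : (wi : ℤ) ≤ c := Int.le_of_dvd hcpos hdi
  have hcj : (wj : ℤ) ≤ c := Int.le_of_dvd hcpos hdj
  -- Zariski's lemma for `Γ_i + Γ_j`
  set a : Fin n → ℤ := fun l => (if l = i then 1 else 0) + (if l = j then 1 else 0) with ha
  obtain ⟨hle, hiff, -⟩ := zariski_fibre hp hreg Γ hΓ L hL hconn.isPreconnected a
  have hQ : ∑ l, ∑ l', a l * a l' * ArSurf.inter R (Over.mk p) (L l') (Γ l) =
      ArSurf.inter R (Over.mk p) (L i) (Γ i) + ArSurf.inter R (Over.mk p) (L j) (Γ i) +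
        (ArSurf.inter R (Over.mk p) (L i) (Γ j) + ArSurf.inter R (Over.mk p) (L j) (Γ j)) := by
    simp only [ha, add_mul, mul_add, ite_mul, one_mul, zero_mul, mul_ite, mul_one, mul_zero,
      Finset.sum_add_distrib, Finset.sum_ite_eq', Finset.mem_univ, if_true]
    ring
  rw [hQ, hsi, hsj, ← hsym] at hle hiff
  have hwc : (wi : ℤ) = c ∧ (wj : ℤ) = c := by constructor <;> omega
  have hQ0 : -(wi : ℤ) + c + (c + -(wj : ℤ)) = 0 := by omega
  obtain ⟨q, hq⟩ := hiff.mp hQ0
  have hmpos : ∀ l, 0 < Models.mult R (Over.mk p) (Γ l) := fun l => mult_pos hreg Γ hΓ l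
  have hai : a i = 1 := by
    simp only [ha, if_true, if_neg hij, add_zero]
  have haj : a j = 1 := by
    simp only [ha, if_true, if_neg (Ne.symm hij), zero_add]
  have hq0 : q ≠ 0 := by
    intro h
    have := hq i
    rw [hai, h, zero_mul] at this
    norm_num at this
  have hall : ∀ l, l = i ∨ l = j := by
    intro l
    by_contra hl
    push Not at hl
    have hal : a l = 0 := by
      simp only [ha, if_neg hl.1, if_neg hl.2, add_zero]
    have := hq l
    rw [hal] at this
    have hm : (Models.mult R (Over.mk p) (Γ l) : ℚ) ≠ 0 := by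
      exact_mod_cast (hmpos l).ne'
    push_cast at this
    exact (mul_ne_zero hq0 hm) this.symm
  have hmm : Models.mult R (Over.mk p) (Γ i) = Models.mult R (Over.mk p) (Γ j) := by
    have h1 := hq i
    have h2 := hq j
    rw [hai] at h1
    rw [haj] at h2
    have h3 : q * (Models.mult R (Over.mk p) (Γ i) : ℚ) = q * (Models.mult R (Over.mk p) (Γ j) : ℚ) := by
      rw [← h1, ← h2]
    exact_mod_cast mul_left_cancel₀ hq0 h3
  have huniv : (Finset.univ : Finset (Fin n)) = {i, j} := by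
    ext l
    simp only [Finset.mem_univ, Finset.mem_insert, Finset.mem_singleton, true_iff]
    exact hall l
  have hgen := two_sub_two_genus_eq f p hX hH0 Γ hΓ L hL
  rw [huniv, Finset.sum_pair hij, Finset.sum_pair hij, h1i, h1j, hsi, hsj, ← hmm] at hgen
  obtain ⟨hw1, hw2⟩ := hwc
  rw [← hwi, ← hwj, hw1, hw2] at hgen
  push_cast at hgen
  have hmc : (1 : ℤ) - (Models.curveGenus (FractionRing R) C f : ℤ) =
      (Models.mult R (Over.mk p) (Γ i) : ℤ) * c := by linarith
  have hm1 : (1 : ℤ) ≤ (Models.mult R (Over.mk p) (Γ i) : ℤ) := by exact_mod_cast hmpos i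
  have hmc1 : (1 : ℤ) ≤ (Models.mult R (Over.mk p) (Γ i) : ℤ) * c := by nlinarith
  have hg0 : (Models.curveGenus (FractionRing R) C f : ℤ) = 0 := by
    have : (0 : ℤ) ≤ (Models.curveGenus (FractionRing R) C f : ℤ) := Int.natCast_nonneg _
    omega
  rw [hg0, sub_zero] at hmc
  have hm : (Models.mult R (Over.mk p) (Γ i) : ℤ) = 1 :=
    Int.eq_one_of_mul_eq_one_right (by omega) hmc.symm
  have hc1 : c = 1 := by rw [hm, one_mul] at hmc; exact hmc.symm
  refine ⟨hall, by exact_mod_cast hm, ?_, ?_, ?_, hc1, by exact_mod_cast hg0⟩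
  · rw [← hmm]; exact_mod_cast hm
  · have : (wi : ℤ) = 1 := by rw [hw1, hc1]
    exact_mod_cast this
  · have : (wj : ℤ) = 1 := by rw [hw2, hc1]
    exact_mod_cast this

end model

section model2

variable {C Y : Scheme.{u}} (f : C ⟶ Spec (CommRingCat.of (FractionRing R)))
  (p : Y ⟶ Spec (CommRingCat.of R)) (hX : Models.IsRegularProperModel R Y p C f)
  (hH0 : IsIso f.appTop) {n : ℕ} (Γ : Fin n → ArSurf.VertComp R (Over.mk p))
  (hΓ : Models.IsComponentList R (Over.mk p) Γ)
include hX hH0 hΓ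

/-- **S3327**. -/
theorem excCurves_meet (i j : Fin n) (hij : i ≠ j)
    (hi : Models.IsExcCurve (Γ i).ι) (hj : Models.IsExcCurve (Γ j).ι)
    (hmeet : ¬ Disjoint (Set.range ((Γ i).ι.base : (Γ i).curve.left → Y))
      (Set.range ((Γ j).ι.base : (Γ j).curve.left → Y))) :
    n = 2 ∧ (∀ l, Models.mult R (Over.mk p) (Γ l) = 1) ∧
      (∀ l, ∃ e : (Γ l).curve.left ≅ CohB1.ProjSpace 1 (IsLocalRing.ResidueField R),
        e.hom ≫ CohB1.ProjSpace.toSpec 1 (IsLocalRing.ResidueField R) = (Γ l).curve.hom) ∧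
      (∃ x : Y, Set.range ((Γ i).ι.base : (Γ i).curve.left → Y) ∩
          Set.range ((Γ j).ι.base : (Γ j).curve.left → Y) = {x} ∧
        (Γ i).ι.ker ⊔ (Γ j).ι.ker =
          Scheme.IdealSheafData.vanishingIdeal ⟨closure {x}, isClosed_closure⟩ ∧
        Function.Surjective ((Y.residue x).hom.comp (Models.stalkHom R (Over.mk p) x))) ∧
      Models.curveGenus (FractionRing R) C f = 0 := by
  classical
  have hp : IsProper (Over.mk p).hom := hX.2.1
  haveI : IsProper p := hX.2.1
  haveI : Flat (Over.mk p).hom := hX.1.1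
  haveI : LocallyOfFiniteType p := hX.1.2.1
  haveI : IsLocallyNoetherian (Over.mk p).left := LocallyOfFiniteType.isLocallyNoetherian p
  haveI : CompactSpace (Over.mk p).left := QuasiCompact.compactSpace_of_compactSpace p
  have hreg := hX.2.2
  have hI : ∀ l, BlowUp.IsEffCartierIdeal (Γ l).ι.ker := fun l => isEffCartierIdeal_ker hreg Γ hΓ l
  have hex : ∀ l, ∃ L : Y.Modules, ClSub.IsInverseOf L (ClSub.idealMod (Γ l).ι.ker) := by
    intro l
    obtain ⟨L', -, ⟨e⟩⟩ := Groth.Agent.H5.Glue.exists_inverse (ClSub.idealMod (Γ l).ι.ker)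
      ((isInvertible_idealMod_iff _).mpr (hI l))
    exact ⟨L', ⟨tensorCommGen _ _ ≪≫ e⟩⟩
  choose L hL using hex
  obtain ⟨hall, hmi, hmj, hwi, hwj, hc, hg⟩ :=
    excCurves_meet_numeric f p hX hH0 Γ hΓ L hL i j hij hi hj hmeet
  obtain ⟨h1i, hsi⟩ := (isExcCurve_iff hp (Γ i) (hI i) (L i) (hL i)).mp hi
  obtain ⟨h1j, hsj⟩ := (isExcCurve_iff hp (Γ j) (hI j) (L j) (hL j)).mp hj
  have hne : Set.range (Γ i).ι ≠ Set.range (Γ j).ι := fun h => hij (hΓ.1 h)
  refine ⟨?_, ?_, ?_, ?_, hg⟩
  · have huniv : (Finset.univ : Finset (Fin n)) = {i, j} := by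
      ext l
      simp only [Finset.mem_univ, Finset.mem_insert, Finset.mem_singleton, true_iff]
      exact hall l
    have h1 : (Finset.univ : Finset (Fin n)).card = 2 := by
      rw [huniv, Finset.card_pair hij]
    rw [Finset.card_univ, Fintype.card_fin] at h1
    exact h1
  · intro l
    rcases hall l with rfl | rfl
    · exact hmi
    · exact hmj
  · intro l
    rcases hall l with rfl | rfl
    · exact exists_iso_P1_of_numerical hp (Γ l) (hI l) (L l) (hL l) h1i hsi hwi
    · exact exists_iso_P1_of_numerical hp (Γ l) (hI l) (L l) (hL l) h1j hsj hwj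
  · have hdim := dim_subscheme_sup_le_zero (Γ j) (Γ i) hne.symm
    have hlen : Models.lengthH R (Over.mk p) (ClSub.quotMod ((Γ j).ι.ker ⊔ (Γ i).ι.ker)) 0 = 1 := by
      have h := lengthH_quotMod_sup_eq_inter hp (Γ i) (Γ j) hne (hI j) (L j) (hL j)
      rw [hc] at h
      exact_mod_cast h
    obtain ⟨x, hsupp, hK, hsurj⟩ := exists_point_of_lengthH_eq_one (X := Over.mk p)
      ((Γ j).ι.ker ⊔ (Γ i).ι.ker) hdim hlen
    refine ⟨x, ?_, ?_, hsurj⟩
    · rw [← hsupp, Scheme.IdealSheafData.support_sup]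
      change _ = ((Γ j).ι.ker.support : Set (Over.mk p).left) ∩
        ((Γ i).ι.ker.support : Set (Over.mk p).left)
      rw [support_ker_ι, support_ker_ι, Set.inter_comm]
    · rw [sup_comm]
      exact hK

end model2

end Groth.Agent.H5.ArS
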