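import Mathlib
import Groth.Agent.Lib.Helper5.ArS.FibSum
import Groth.Agent.Lib.Lead.PD.NegAmple

/-!
# The divisor `D = Σ (m_i/d) Γ_i` has order dividing `d` in the Picard group (S7326)
-/

set_option autoImplicit false
set_option linter.style.haveILetI false
universe u
open CategoryTheory CategoryTheory.Limits AlgebraicGeometry TopologicalSpace Opposite

namespace Groth.Agent.H5.ArS

open Groth.Agent.LD Groth.Agent.LD.QC

section general

variable {X : Scheme.{u}}

theorem isEffCartierIdeal_mul (I J : X.IdealSheafData) (hI : BlowUp.IsEffCartierIdeal I)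
    (hJ : BlowUp.IsEffCartierIdeal J) : BlowUp.IsEffCartierIdeal (I * J) := by
  have hI' : PicF.IsInvertible (ClSub.idealMod I) := (isInvertible_idealMod_iff I).mpr hI
  have hJ' : PicF.IsInvertible (ClSub.idealMod J) := (isInvertible_idealMod_iff J).mpr hJ
  haveI := isIso_idealMulLift I J hJ'
  exact (isInvertible_idealMod_iff (I * J)).mp
    (isInvertible_of_iso (asIso (idealMulLift I J)) (isInvertible_tensorMod hI' hJ'))

theorem nonempty_unit_iso_idealMod_one :
    Nonempty (unitMod X ≅ ClSub.idealMod (1 : X.IdealSheafData)) :=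
  nonempty_unit_iso_idealMod_of_principal (1 : X.IdealSheafData) 1
    (fun U => by
      rw [map_one, Ideal.span_singleton_one]
      rfl)
    (fun U => by
      rw [map_one]
      exact Submonoid.one_mem _)

theorem isEffCartierIdeal_one : BlowUp.IsEffCartierIdeal (1 : X.IdealSheafData) := by
  obtain ⟨e⟩ := nonempty_unit_iso_idealMod_one (X := X)
  exact (isInvertible_idealMod_iff _).mp (isInvertible_of_iso e (isInvertible_unit X))

theorem isEffCartierIdeal_pow (I : X.IdealSheafData) (hI : BlowUp.IsEffCartierIdeal I) (n : ℕ) :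
    BlowUp.IsEffCartierIdeal (I ^ n) := by
  induction n with
  | zero =>
    rw [pow_zero]
    exact isEffCartierIdeal_one
  | succ n ih =>
    rw [pow_succ]
    exact isEffCartierIdeal_mul _ _ ih hI

theorem isEffCartierIdeal_prod_pow {ι : Type*} (s : Finset ι) (I : ι → X.IdealSheafData)
    (hI : ∀ j, BlowUp.IsEffCartierIdeal (I j)) (m : ι → ℕ) :
    BlowUp.IsEffCartierIdeal (∏ j ∈ s, I j ^ m j) := by
  classical
  induction s using Finset.induction_on with
  | empty =>
    rw [Finset.prod_empty]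
    exact isEffCartierIdeal_one
  | insert a s ha ih =>
    rw [Finset.prod_insert ha]
    exact isEffCartierIdeal_mul _ _ (isEffCartierIdeal_pow _ (hI a) _) ih

/-- `𝓘^{⊗ d} ≅ 𝓘^d` for an effective Cartier divisor, all `d`. -/
theorem nonempty_tensorPow_idealMod_iso (I : X.IdealSheafData) (hI : BlowUp.IsEffCartierIdeal I)
    (d : ℕ) : Nonempty (CohB1.tensorPow (ClSub.idealMod I) d ≅ ClSub.idealMod (I ^ d)) := by
  cases d with
  | zero =>
    rw [pow_zero]
    exact nonempty_unit_iso_idealMod_one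
  | succ d =>
    exact nonempty_tensorPow_iso_idealMod_pow I ((isInvertible_idealMod_iff I).mpr hI) d

/-- if `N^{⊗ d}` is trivial and `L ⊗ N ≅ O` then `L^{⊗ d}` is trivial. -/
theorem nonempty_tensorPow_iso_unit_of_inverse (L N : X.Modules) (hL : PicF.IsInvertible L)
    (hN : PicF.IsInvertible N) (ε : CohB1.tensorMod L N ≅ unitMod X) (d : ℕ)
    (eN : CohB1.tensorPow N d ≅ unitMod X) : Nonempty (CohB1.tensorPow L d ≅ unitMod X) := by
  obtain ⟨φ⟩ := Groth.Agent.LD.PD.nonempty_pow_inverse L N hL hN ε d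
  exact ⟨(SecTwist.unitorR _).symm ≪≫ tensorIso' (Iso.refl _) eN.symm ≪≫ φ⟩

end general

variable {R : Type u} [CommRing R] [IsDomain R] [IsDiscreteValuationRing R]
  {X : Over (Spec (CommRingCat.of R))}

section gcd

variable [Flat X.hom] [IsLocallyNoetherian X.left] (hreg : Models.IsRegularScheme X.left)
  {n : ℕ} (Γ : Fin n → ArSurf.VertComp R X) (hΓ : Models.IsComponentList R X Γ)
include hreg hΓ

theorem prod_pow_div_gcd_pow :
    (∏ i, (Γ i).ι.ker ^ (Models.mult R X (Γ i) / Models.multGcd R X Γ)) ^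
      Models.multGcd R X Γ = Models.specialFibreIdeal R X := by
  rw [specialFibreIdeal_eq_prod hreg Γ hΓ, ← Finset.prod_pow]
  refine Finset.prod_congr rfl (fun i _ => ?_)
  rw [← pow_mul]
  congr 1
  exact Nat.div_mul_cancel (Finset.gcd_dvd (Finset.mem_univ i))

/-- the ideal module of `D = Σ (m_i/d) Γ_i` has trivial `d`-th tensor power. -/
theorem gcd_divisor_facts :
    BlowUp.IsEffCartierIdeal
      (∏ i, (Γ i).ι.ker ^ (Models.mult R X (Γ i) / Models.multGcd R X Γ)) ∧
    Nonempty (CohB1.tensorPow (ClSub.idealMod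
      (∏ i, (Γ i).ι.ker ^ (Models.mult R X (Γ i) / Models.multGcd R X Γ)))
        (Models.multGcd R X Γ) ≅ unitMod X.left) := by
  have hI : ∀ j, BlowUp.IsEffCartierIdeal (Γ j).ι.ker :=
    fun j => isEffCartierIdeal_ker hreg Γ hΓ j
  have hD := isEffCartierIdeal_prod_pow Finset.univ (fun j => (Γ j).ι.ker) hI
    (fun i => Models.mult R X (Γ i) / Models.multGcd R X Γ)
  refine ⟨hD, ?_⟩
  obtain ⟨e1⟩ := nonempty_tensorPow_idealMod_iso _ hD (Models.multGcd R X Γ)
  rw [prod_pow_div_gcd_pow hreg Γ hΓ] at e1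
  obtain ⟨e2⟩ := nonempty_unit_iso_idealMod_specialFibreIdeal (X := X)
  exact ⟨e1 ≪≫ e2.symm⟩

end gcd

end Groth.Agent.H5.ArS
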