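import Mathlib
import Groth.Agent.Lib.Helper6.FlatHartogs
import Groth.Prelude.Def_ModelsG

/-!
# Going down for integral dominant morphisms onto normal integral schemes, and lifting of
fibre components (S16551, S7932)
-/

set_option autoImplicit false
set_option linter.style.haveILetI false
universe u
open CategoryTheory CategoryTheory.Limits AlgebraicGeometry TopologicalSpace Opposite

namespace Groth.Agent.H5.ArS

section goingdown

variable {W Z : Scheme.{u}} (ψ : W ⟶ Z)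

/-- **going down**: an integral dominant morphism from an integral scheme to a normal integral
scheme is generalizing. -/
theorem generalizingMap_of_integral_of_normal [IsIntegral W] [IsIntegral Z] [IsIntegralHom ψ]
    [IsDominant ψ] (hZ : ∀ q : Z, IsIntegrallyClosed (Z.presheaf.stalk q)) :
    GeneralizingMap ψ.base := by
  have := HasRingHomProperty.of_isZariskiLocalAtSource_of_isZariskiLocalAtTarget.{u}
    (topologically GeneralizingMap)
  change topologically GeneralizingMap ψ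
  rw [HasRingHomProperty.iff_appLE (P := topologically GeneralizingMap)]
  intro U V e
  by_cases hV : Nonempty (V : W.Opens)
  · haveI := hV
    obtain ⟨v⟩ := hV
    haveI hU' : Nonempty ↥(ψ ⁻¹ᵁ (U : Z.Opens)) := ⟨⟨v.1, e v.2⟩⟩
    haveI hU : Nonempty (U : Z.Opens) := ⟨⟨ψ.base v.1, e v.2⟩⟩
    haveI : IsSchemeTheoreticallyDominant ψ := IsSchemeTheoreticallyDominant.of_isDominant ψ
    have haff : IsAffineOpen (ψ ⁻¹ᵁ (U : Z.Opens)) := U.2.preimage ψ
    letI algAB : Algebra Γ(Z, (U : Z.Opens)) Γ(W, ψ ⁻¹ᵁ (U : Z.Opens)) :=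
      (ψ.app U).hom.toAlgebra
    letI algBC : Algebra Γ(W, ψ ⁻¹ᵁ (U : Z.Opens)) Γ(W, (V : W.Opens)) :=
      (W.presheaf.map (homOfLE e).op).hom.toAlgebra
    letI algAC : Algebra Γ(Z, (U : Z.Opens)) Γ(W, (V : W.Opens)) :=
      (ψ.appLE U V e).hom.toAlgebra
    haveI : IsScalarTower Γ(Z, (U : Z.Opens)) Γ(W, ψ ⁻¹ᵁ (U : Z.Opens)) Γ(W, (V : W.Opens)) :=
      IsScalarTower.of_algebraMap_eq' rfl
    haveI : IsIntegrallyClosed Γ(Z, (U : Z.Opens)) :=
      Groth.Agent.H6.FlatHartogs.intClosed_sections hZ U.2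
    haveI : FaithfulSMul Γ(Z, (U : Z.Opens)) Γ(W, ψ ⁻¹ᵁ (U : Z.Opens)) :=
      (faithfulSMul_iff_algebraMap_injective _ _).mpr (ψ.app_injective U)
    haveI : Algebra.IsIntegral Γ(Z, (U : Z.Opens)) Γ(W, ψ ⁻¹ᵁ (U : Z.Opens)) :=
      ⟨IsIntegralHom.isIntegral_app ψ U U.2⟩
    haveI hdB : IsDomain Γ(W, ψ ⁻¹ᵁ (U : Z.Opens)) :=
      @IsIntegral.component_integral W _ (ψ ⁻¹ᵁ (U : Z.Opens)) hU'
    haveI hdA : IsDomain Γ(Z, (U : Z.Opens)) :=
      @IsIntegral.component_integral Z _ (U : Z.Opens) hU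
    haveI h1 : Algebra.HasGoingDown Γ(Z, (U : Z.Opens)) Γ(W, ψ ⁻¹ᵁ (U : Z.Opens)) :=
      inferInstance
    haveI : Module.Flat Γ(W, ψ ⁻¹ᵁ (U : Z.Opens)) Γ(W, (V : W.Opens)) := by
      have h := HasRingHomProperty.appLE @Flat (𝟙 W) inferInstance
        ⟨ψ ⁻¹ᵁ (U : Z.Opens), haff⟩ V e
      have h' : (𝟙 W : W ⟶ W).appLE (ψ ⁻¹ᵁ (U : Z.Opens)) (V : W.Opens) e =
          W.presheaf.map (homOfLE e).op := by
        simp only [Scheme.Hom.appLE, Scheme.Hom.id_app]
        exact Category.id_comp _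
      rw [h'] at h
      exact h
    haveI h2 : Algebra.HasGoingDown Γ(W, ψ ⁻¹ᵁ (U : Z.Opens)) Γ(W, (V : W.Opens)) :=
      Algebra.HasGoingDown.of_flat
    have h3 : Algebra.HasGoingDown Γ(Z, (U : Z.Opens)) Γ(W, (V : W.Opens)) :=
      Algebra.HasGoingDown.trans _ Γ(W, ψ ⁻¹ᵁ (U : Z.Opens)) _
    exact Algebra.HasGoingDown.iff_generalizingMap_primeSpectrumComap.mp h3
  · have hbot : (V : W.Opens) = ⊥ := by
      ext x
      simp only [Opens.coe_bot, Set.mem_empty_iff_false, iff_false]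
      intro hx
      exact hV ⟨⟨x, hx⟩⟩
    haveI : Subsingleton Γ(W, (V : W.Opens)) := by
      rw [hbot]; infer_instance
    haveI : IsEmpty (PrimeSpectrum Γ(W, (V : W.Opens))) := inferInstance
    intro a
    exact (IsEmpty.false (show PrimeSpectrum Γ(W, (V : W.Opens)) from a)).elim

end goingdown

section top

variable {X : Type*} [TopologicalSpace X]

/-- every irreducible subset of `F` is contained in a maximal one. -/
theorem exists_maximal_irreducible_subset (F S : Set X) (hS : IsIrreducible S) (hSF : S ⊆ F) :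
    ∃ T, Maximal (fun S : Set X => IsIrreducible S ∧ S ⊆ F) T ∧ S ⊆ T := by
  have hchain : ∀ c ⊆ {t : Set X | IsPreirreducible t ∧ t ⊆ F}, IsChain (· ⊆ ·) c → c.Nonempty →
      ∃ ub ∈ {t : Set X | IsPreirreducible t ∧ t ⊆ F}, ∀ s ∈ c, s ⊆ ub := by
    intro c hc hcc _
    refine ⟨⋃₀ c, ⟨?_, Set.sUnion_subset fun t ht => (hc ht).2⟩,
      fun _ hxc => Set.subset_sUnion_of_mem hxc⟩
    intro u v hu hv ⟨y, hy, hyu⟩ ⟨x, hx, hxv⟩
    obtain ⟨p, hpc, hyp⟩ := Set.mem_sUnion.1 hy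
    obtain ⟨q, hqc, hxq⟩ := Set.mem_sUnion.1 hx
    rcases hcc.total hpc hqc with hpq | hqp
    · obtain ⟨x, hxp, hxuv⟩ := (hc hqc).1 u v hu hv ⟨y, hpq hyp, hyu⟩ ⟨x, hxq, hxv⟩
      exact ⟨x, Set.mem_sUnion_of_mem hxp hqc, hxuv⟩
    · obtain ⟨x, hxp, hxuv⟩ := (hc hpc).1 u v hu hv ⟨y, hyp, hyu⟩ ⟨x, hqp hxq, hxv⟩
      exact ⟨x, Set.mem_sUnion_of_mem hxp hpc, hxuv⟩
  obtain ⟨m, hsm, hm⟩ := zorn_subset_nonempty {t : Set X | IsPreirreducible t ∧ t ⊆ F} hchain S
    ⟨hS.isPreirreducible, hSF⟩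
  refine ⟨m, ⟨⟨⟨hS.nonempty.mono hsm, hm.prop.1⟩, hm.prop.2⟩, fun T hT hmT => ?_⟩, hsm⟩
  exact hm.2 ⟨hT.1.isPreirreducible, hT.2⟩ hmT

/-- a maximal irreducible subset of a closed set is closed. -/
theorem isClosed_of_maximal_irreducible_subset {F T : Set X} (hF : IsClosed F)
    (hT : Maximal (fun S : Set X => IsIrreducible S ∧ S ⊆ F) T) : IsClosed T := by
  rw [← closure_eq_iff_isClosed]
  exact (hT.2 ⟨hT.1.1.closure, hF.closure_subset_iff.mpr hT.1.2⟩ subset_closure).antisymm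
    subset_closure

/-- in a Noetherian space, a closed set has finitely many maximal irreducible subsets. -/
theorem finite_maximal_irreducible_subsets [NoetherianSpace X] {F : Set X} (hF : IsClosed F) :
    {T : Set X | Maximal (fun S : Set X => IsIrreducible S ∧ S ⊆ F) T}.Finite := by
  obtain ⟨S, hSfin, hScl, hSirr, hSU⟩ :=
    NoetherianSpace.exists_finite_set_isClosed_irreducible (s := F) hF
  refine hSfin.subset ?_
  intro T hT
  have hT' : Maximal (fun S : Set X => IsIrreducible S ∧ S ⊆ F) T := hT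
  have h1 : T ⊆ ⋃₀ S := hSU ▸ hT'.1.2
  obtain ⟨t, htS, hTt⟩ := (isIrreducible_iff_sUnion_isClosed.mp hT'.1.1) hSfin.toFinset
    (fun z hz => hScl z (hSfin.mem_toFinset.mp hz)) (by simpa using h1)
  have htS' : t ∈ S := hSfin.mem_toFinset.mp htS
  have htF : t ⊆ F := by rw [hSU]; exact Set.subset_sUnion_of_mem htS'
  have := hT'.2 ⟨hSirr t htS', htF⟩ hTt
  rw [Set.Subset.antisymm hTt this]
  exact htS'

end top

section lift

variable (R : Type u) [CommRing R] [IsDomain R] [IsDiscreteValuationRing R]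

/-- **lifting fibre components along a closed generalizing morphism.** -/
theorem exists_fibreComponent_over (W Z : Over (Spec (CommRingCat.of R))) (ψ : W ⟶ Z)
    (hgen : GeneralizingMap ψ.left.base) (hcl : IsClosedMap ψ.left.base)
    (z : Z.left) (w : W.left) (hw : ψ.left.base w = z)
    (Δ : Set Z.left) (hΔ : Δ ∈ Models.fibreComponents R Z) (hzΔ : z ∈ Δ) :
    ∃ Γ ∈ Models.fibreComponents R W, w ∈ Γ ∧ ψ.left.base '' Γ = Δ := by
  have hΔ' : Maximal (fun S : Set Z.left => IsIrreducible S ∧ S ⊆ Models.specialFibreSet R Z) Δ :=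
    hΔ
  have hFZ : IsClosed (Models.specialFibreSet R Z) := Models.isClosed_specialFibreSet R Z
  have hFW : IsClosed (Models.specialFibreSet R W) := Models.isClosed_specialFibreSet R W
  have hΔcl : IsClosed Δ := isClosed_of_maximal_irreducible_subset hFZ hΔ'
  obtain ⟨ζ, hζ⟩ := QuasiSober.sober hΔ'.1.1 hΔcl
  have hζz : ζ ⤳ ψ.left.base w := by
    rw [hw]
    exact specializes_iff_mem_closure.mpr (hζ.def.symm ▸ hzΔ)
  obtain ⟨ξ, hξw, hξζ⟩ := hgen hζz
  have hpre : ∀ a : W.left, a ∈ Models.specialFibreSet R W ↔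
      ψ.left.base a ∈ Models.specialFibreSet R Z := by
    intro a
    unfold Models.specialFibreSet
    rw [Set.mem_preimage, Set.mem_preimage, ← Scheme.Hom.comp_apply, Over.w ψ]
  have hζΔ : ζ ∈ Δ := hζ.mem
  have hζF : ζ ∈ Models.specialFibreSet R Z := hΔ'.1.2 hζΔ
  have hξF : ξ ∈ Models.specialFibreSet R W := (hpre ξ).mpr (hξζ ▸ hζF)
  have hirr : IsIrreducible (closure {ξ}) := isIrreducible_singleton.closure
  have hsub : closure {ξ} ⊆ Models.specialFibreSet R W :=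
    hFW.closure_subset_iff.mpr (Set.singleton_subset_iff.mpr hξF)
  obtain ⟨Γ, hΓ, hΓsub⟩ := exists_maximal_irreducible_subset _ _ hirr hsub
  refine ⟨Γ, hΓ, hΓsub (specializes_iff_mem_closure.mp hξw), ?_⟩
  have hΓcl : IsClosed Γ := isClosed_of_maximal_irreducible_subset hFW hΓ
  have himg_irr : IsIrreducible (ψ.left.base '' Γ) :=
    hΓ.1.1.image _ ψ.left.base.hom.continuous.continuousOn
  have himg_cl : IsClosed (ψ.left.base '' Γ) := hcl Γ hΓcl
  have himg_sub : ψ.left.base '' Γ ⊆ Models.specialFibreSet R Z := by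
    rintro _ ⟨a, ha, rfl⟩
    exact (hpre a).mp (hΓ.1.2 ha)
  have hζimg : ζ ∈ ψ.left.base '' Γ := ⟨ξ, hΓsub (subset_closure rfl), hξζ⟩
  have hΔsub : Δ ⊆ ψ.left.base '' Γ := by
    rw [← hζ.def]
    exact himg_cl.closure_subset_iff.mpr (Set.singleton_subset_iff.mpr hζimg)
  exact (hΔ'.2 ⟨himg_irr, himg_sub⟩ hΔsub).antisymm hΔsub

end lift

end Groth.Agent.H5.ArS
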