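import Mathlib
import Groth.Agent.Lib.Lead.QC.Extend
import Groth.Agent.Lib.Lead.QC.InvBasis
import Groth.Agent.Lib.Lead.QC.RestrictOpen
import Groth.Agent.Lib.Lead.QC.SubExt
import Groth.Agent.Lib.Lead.QC.ZeroScheme
import Groth.Agent.Lib.Lead.QC.AmpleBasis
import Groth.Agent.Lib.Lead.PD.ConnZeroInt
import Groth.Agent.Lib.Helper5.ArS.FibConn
import Groth.Agent.Lib.Helper5.ArS.FibDec

/-!
# Invertible modules trivial on the generic fibre have a section with vertical divisor
-/

set_option autoImplicit false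
set_option linter.style.haveILetI false
universe u
open CategoryTheory CategoryTheory.Limits AlgebraicGeometry TopologicalSpace Opposite

namespace Groth.Agent.H5.ArS

open Groth.Agent.LD Groth.Agent.LD.QC

section general

variable {X : Scheme.{u}}

theorem isBasisOver_of_iso {L L' : X.Modules} (φ : L ≅ L') {W : X.Opens}
    {e : Γ(L, W)} (he : IsBasisOver L W e) : IsBasisOver L' W (φ.hom.app W e) := by
  intro W' hW'
  have h1 := he W' hW'
  have hb : Function.Bijective (φ.hom.app W') := app_bijective_of_isIso φ.hom W'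
  have h2 : (fun a : Γ(X, W') => a • L'.presheaf.map (homOfLE hW').op (φ.hom.app W e)) =
      ⇑(ConcreteCategory.hom (φ.hom.app W')) ∘
        (fun a : Γ(X, W') => a • L.presheaf.map (homOfLE hW').op e) := by
    funext a
    rw [Function.comp_apply, Scheme.Modules.Hom.app_smul, app_res]
  rw [h2]
  exact hb.comp h1

/-- a module with a basis over `X_a` has a global section generating it over `X_a`. -/
theorem exists_section_basicOpen_le_genLocus [CompactSpace X] [QuasiSeparatedSpace X]
    (M : X.Modules) [M.IsQuasicoherent] (a : Γ(X, ⊤)) (t : Γ(M, X.basicOpen a))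
    (ht : IsBasisOver M (X.basicOpen a) t) :
    ∃ σ : unitMod X ⟶ M, X.basicOpen a ≤ CohB1.genLocus M σ := by
  obtain ⟨n, s, hs⟩ := compact_qs_surj' M ⊤ isCompact_univ isQuasiSeparated_univ a t
  refine ⟨homOfSection M s, ?_⟩
  rw [le_genLocus_iff_isBasisOver, val_homOfSection]
  have h1 : M.presheaf.map (homOfLE (le_top : X.basicOpen a ≤ ⊤)).op s =
      (X.presheaf.map (homOfLE (X.basicOpen_le a)).op a) ^ n • t := hs
  rw [h1]
  exact (ht.smul_iff _).mpr (IsUnit.pow n (isUnit_res_of_le_basicOpen a le_top le_rfl))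

/-- a section generating over `X_a`, `a` a nonzerodivisor on affine opens, is a monomorphism. -/
theorem mono_of_basicOpen_le_genLocus (M : X.Modules) (σ : unitMod X ⟶ M) (a : Γ(X, ⊤))
    (ha : ∀ V : X.affineOpens, (X.presheaf.map (homOfLE (le_top : V.1 ≤ ⊤)).op).hom a ∈
      nonZeroDivisors Γ(X, V.1))
    (h : X.basicOpen a ≤ CohB1.genLocus M σ) : Mono σ := by
  have hbij := (le_genLocus_iff M σ (X.basicOpen a)).mp h
  have key : ∀ (W : X.Opens) (b : Γ(X, W)), σ.app W b = 0 → b = 0 := by
    intro W b hb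
    apply X.IsSheaf.section_ext
    intro x hx
    obtain ⟨V, hV, hxV, hVW⟩ := exists_isAffineOpen_mem_and_subset (x := x) (U := W) hx
    have hVW' : V ≤ W := hVW
    refine ⟨V, hVW', hxV, ?_⟩
    change (X.presheaf.map (homOfLE hVW').op).hom b = (X.presheaf.map (homOfLE hVW').op).hom 0
    rw [map_zero]
    set b' : Γ(X, V) := (X.presheaf.map (homOfLE hVW').op).hom b with hb'
    set a' : Γ(X, V) := (X.presheaf.map (homOfLE (le_top : V ≤ ⊤)).op).hom a with ha'
    have h1 : σ.app V b' = 0 := by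
      have := app_res σ hVW' b
      rw [hb, map_zero] at this
      exact this
    have hD : X.basicOpen a' ≤ X.basicOpen a := by
      rw [ha', Scheme.basicOpen_res]
      exact inf_le_right
    have hDV : X.basicOpen a' ≤ V := X.basicOpen_le a'
    have h2 : (X.presheaf.map (homOfLE hDV).op).hom b' = 0 := by
      apply (hbij _ hD).1
      have := app_res σ hDV b'
      rw [h1, map_zero] at this
      refine this.trans ?_
      exact (map_zero (ConcreteCategory.hom (σ.app (X.basicOpen a')))).symm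
    obtain ⟨k, hk⟩ :=
      exists_pow_mul_eq_zero_of_res_basicOpen_eq_zero_of_isAffineOpen X hV b' a' h2
    have hnz : a' ^ k ∈ nonZeroDivisors Γ(X, V) := pow_mem (ha ⟨V, hV⟩) k
    exact (mul_left_mem_nonZeroDivisors_eq_zero_iff hnz).mp hk
  apply mono_of_injective_app
  intro W
  rw [injective_iff_map_eq_zero]
  intro b hb
  exact key W b hb

end general

variable {R : Type u} [CommRing R] [IsDomain R] [IsDiscreteValuationRing R]

/-- the fraction field of a discrete valuation ring is obtained by inverting a uniformizer. -/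
theorem isLocalization_away_fractionRing (ϖ : R) (hϖ : Irreducible ϖ) :
    IsLocalization.Away ϖ (FractionRing R) := by
  have h1 : Submonoid.powers ϖ ≤ nonZeroDivisors R := by
    rintro _ ⟨n, rfl⟩
    exact pow_mem (mem_nonZeroDivisors_of_ne_zero hϖ.ne_zero) n
  have h2 : ∀ n ∈ nonZeroDivisors R, ∃ m ∈ Submonoid.powers ϖ, n ∣ m := by
    intro x hx
    have hx0 : x ≠ 0 := nonZeroDivisors.ne_zero hx
    obtain ⟨k, u, rfl⟩ := IsDiscreteValuationRing.eq_unit_mul_pow_irreducible hx0 hϖ
    exact ⟨ϖ ^ k, ⟨k, rfl⟩, ⟨↑u⁻¹, by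
      rw [mul_comm (↑u : R) _, mul_assoc, Units.mul_inv, mul_one]⟩⟩
  haveI : IsLocalization (nonZeroDivisors R) (Localization.Away ϖ) :=
    IsLocalization.of_le_of_exists_dvd (Submonoid.powers ϖ) (nonZeroDivisors R) h1 h2
  let e : Localization.Away ϖ ≃ₐ[R] FractionRing R :=
    IsLocalization.algEquiv (nonZeroDivisors R) _ _
  exact IsLocalization.isLocalization_of_algEquiv (Submonoid.powers ϖ) e

section model

variable {C X : Scheme.{u}} (f : C ⟶ Spec (CommRingCat.of (FractionRing R)))
  (p : X ⟶ Spec (CommRingCat.of R)) (g : C ⟶ X)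

/-- the complement of the closed fibre is the locus where a uniformizer is invertible. -/
theorem mem_basicOpen_toGlobal_iff (ϖ : R) (hϖ : Irreducible ϖ) (x : X) :
    x ∈ X.basicOpen (show Γ(X, ⊤) from Coh.toGlobal p ϖ) ↔
      x ∉ Models.specialFibreSet R (Over.mk p) := by
  obtain ⟨V, hV, hxV, -⟩ := exists_isAffineOpen_mem_and_subset (x := x) (U := (⊤ : X.Opens)) trivial
  rw [mem_specialFibreSet_iff (X := Over.mk p) hV x hxV ϖ hϖ, mem_primeIdealOf_iff hV x hxV,
    not_not]
  have h1 : X.basicOpen (toSec (Over.mk p) V ϖ) =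
      V ⊓ X.basicOpen (show Γ(X, ⊤) from Coh.toGlobal p ϖ) :=
    Scheme.basicOpen_res X (show Γ(X, ⊤) from Coh.toGlobal p ϖ) (homOfLE (le_top : V ≤ ⊤)).op
  rw [h1]
  exact ⟨fun h => ⟨hxV, h⟩, fun h => h.2⟩

variable (hpb : IsPullback g f p (Spec.map (CommRingCat.ofHom (algebraMap R (FractionRing R)))))
include hpb

theorem isOpenImmersion_of_isPullback : IsOpenImmersion g := by
  obtain ⟨ϖ, hϖ⟩ := IsDiscreteValuationRing.exists_irreducible R
  haveI := isLocalization_away_fractionRing ϖ hϖ
  haveI : IsOpenImmersion (Spec.map (CommRingCat.ofHom (algebraMap R (FractionRing R)))) :=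
    IsOpenImmersion.of_isLocalization ϖ
  exact MorphismProperty.of_isPullback hpb.flip ‹_›

variable [CompactSpace X] [QuasiSeparatedSpace X] [Flat p]

/-- **an invertible module trivial on the generic fibre has a regular section generating it away
from the closed fibre.** -/
theorem exists_vertical_section (M : X.Modules) (hM : PicF.IsInvertible M)
    (htriv : Nonempty ((Scheme.Modules.pullback g).obj M ≅ Coh.structureModule C)) :
    ∃ σ : unitMod X ⟶ M, Mono σ ∧
      ∀ x : X, x ∉ Models.specialFibreSet R (Over.mk p) → x ∈ CohB1.genLocus M σ := by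
  obtain ⟨ϖ, hϖ⟩ := IsDiscreteValuationRing.exists_irreducible R
  haveI := isOpenImmersion_of_isPullback f p g hpb
  obtain ⟨e⟩ := htriv
  haveI := qc_of_isInvertible M hM
  let e' : unitMod C ≅ M.restrict g :=
    e.symm ≪≫ ((Scheme.Modules.restrictFunctorIsoPullback g).app M).symm
  have hb1 : IsBasisOver (M.restrict g) ⊤ (e'.hom.app ⊤ (1 : Γ(C, ⊤))) :=
    isBasisOver_of_iso e' (isBasisOver_one ⊤)
  have hb2 : IsBasisOver M (g ''ᵁ ⊤) (show Γ(M, g ''ᵁ ⊤) from e'.hom.app ⊤ (1 : Γ(C, ⊤))) :=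
    (isBasisOver_restrict_iff g M ⊤ _).mp hb1
  have hle : X.basicOpen (show Γ(X, ⊤) from Coh.toGlobal p ϖ) ≤ g ''ᵁ ⊤ := by
    intro x hx
    obtain ⟨c, rfl⟩ := mem_range_of_notMem_specialFibreSet f p g hpb x
      ((mem_basicOpen_toGlobal_iff p ϖ hϖ x).mp hx)
    exact ⟨c, trivial, rfl⟩
  obtain ⟨σ, hσ⟩ := exists_section_basicOpen_le_genLocus M _ _ (hb2.mono hle)
  haveI : Flat (Over.mk p).hom := ‹Flat p›
  refine ⟨σ, mono_of_basicOpen_le_genLocus M σ _ (fun V =>
    toSec_mem_nonZeroDivisors (X := Over.mk p) V.2 ϖ hϖ.ne_zero) hσ,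
    fun x hx => hσ ((mem_basicOpen_toGlobal_iff p ϖ hϖ x).mpr hx)⟩

/-- **an invertible module trivial on the generic fibre is inverse to the ideal of an effective
Cartier divisor supported in the closed fibre.** -/
theorem exists_vertical_ideal (M : X.Modules) (hM : PicF.IsInvertible M)
    (htriv : Nonempty ((Scheme.Modules.pullback g).obj M ≅ Coh.structureModule C)) :
    ∃ J : X.IdealSheafData, BlowUp.IsEffCartierIdeal J ∧
      (J.support : Set X) ⊆ Models.specialFibreSet R (Over.mk p) ∧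
      ClSub.IsInverseOf M (ClSub.idealMod J) := by
  obtain ⟨σ, hσm, hσ⟩ := exists_vertical_section f p g hpb M hM htriv
  obtain ⟨M', hM', ⟨ε⟩⟩ := Groth.Agent.H5.Glue.exists_inverse M hM
  haveI := qc_of_isInvertible M' hM'
  haveI := hσm
  obtain ⟨φ⟩ := nonempty_iso_idealMod_zeroScheme M M' ε σ hM hM'
  refine ⟨PicF2.zeroScheme M σ, ?_, ?_, ⟨tensorIso' (Iso.refl M) φ.symm ≪≫ ε⟩⟩
  · rw [← isInvertible_idealMod_iff]
    intro x
    obtain ⟨U, hxU, ⟨ψ⟩⟩ := hM' x
    exact ⟨U, hxU, ⟨(Scheme.Modules.restrictFunctor U.ι).mapIso φ.symm ≪≫ ψ⟩⟩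
  · intro x hx
    rw [support_zeroScheme M hM σ] at hx
    by_contra hcon
    exact hx (hσ x hcon)

end model

end Groth.Agent.H5.ArS
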