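import Mathlib
import Groth.Agent.Lib.Helper5.PicLaw.Hom
import Groth.Agent.Lib.Helper5.ArS.GenTriv
import Groth.Agent.Lib.Helper5.ArS.FibKer
import Groth.Agent.Lib.Lead.QC.IdealMod
import Groth.Agent.Lib.Lead.QC.HomAffine

/-!
# Pullback of vertical ideal modules to the generic fibre
-/

set_option autoImplicit false
set_option linter.style.haveILetI false
universe u
open CategoryTheory CategoryTheory.Limits AlgebraicGeometry TopologicalSpace Opposite

namespace Groth.Agent.H5.ArS

open Groth.Agent.LD Groth.Agent.LD.QC Groth.Agent.H5.PicLaw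
open scoped Groth.Agent.H5.PicLaw

section general

variable {C Y : Scheme.{u}}

theorem ideal_eq_top_of_disjoint_support (I : Y.IdealSheafData) (U : Y.affineOpens)
    (h : (I.support : Set Y) ∩ U.1 = ∅) : I.ideal U = ⊤ := by
  rw [Scheme.IdealSheafData.coe_support_inter, ← U.2.fromSpec_image_zeroLocus,
    Set.image_eq_empty] at h
  exact (PrimeSpectrum.zeroLocus_empty_iff_eq_top (R := Γ(Y, U.1))).mp h

/-- the pullback of an ideal module along an open immersion missing the support is trivial. -/
theorem nonempty_pullback_idealMod_iso_unit (g : C ⟶ Y) [IsOpenImmersion g]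
    (I : Y.IdealSheafData) (hdisj : ∀ c : C, g c ∉ (I.support : Set Y)) :
    Nonempty ((Scheme.Modules.pullback g).obj (ClSub.idealMod I) ≅ unitMod C) := by
  let ψ : (ClSub.idealMod I).restrict g ⟶ (unitMod Y).restrict g :=
    (Scheme.Modules.restrictFunctor g).map (ClSub.idealModι I)
  haveI : IsIso ψ := by
    apply isIso_of_bijective_affine
    intro V
    have hV : IsAffineOpen (g ''ᵁ V.1) := V.2.image_of_isOpenImmersion g
    have htop : I.ideal ⟨g ''ᵁ V.1, hV⟩ = ⊤ := by
      apply ideal_eq_top_of_disjoint_support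
      rw [Set.eq_empty_iff_forall_notMem]
      rintro x ⟨hx1, c, -, rfl⟩
      exact hdisj c hx1
    change Function.Bijective ((ClSub.idealModι I).app (g ''ᵁ V.1))
    refine ⟨idealModι_app_injective I _, fun s => ?_⟩
    exact (exists_idealModι_app_eq_iff I ⟨g ''ᵁ V.1, hV⟩ s).mpr (htop ▸ Submodule.mem_top)
  exact ⟨((Scheme.Modules.restrictFunctorIsoPullback g).app _).symm ≪≫ asIso ψ ≪≫
    (Scheme.Modules.restrictFunctorIsoPullback g).app _ ≪≫ pbUnitIso g⟩

/-- a module inverse to an ideal module whose support misses the image of the open immersion `g`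
has trivial pullback class. -/
theorem pbHom_clsOf_eq_one_of_inverse (g : C ⟶ Y) [IsOpenImmersion g]
    (I : Y.IdealSheafData) (hdisj : ∀ c : C, g c ∉ (I.support : Set Y)) (L : Y.Modules)
    (hL : ClSub.IsInverseOf L (ClSub.idealMod I)) :
    pbHom g (clsOf L) = 1 := by
  obtain ⟨hI, hIinv, hLinv⟩ := inverse_facts I L hL
  obtain ⟨e⟩ := nonempty_pullback_idealMod_iso_unit g I hdisj
  rw [clsOf_eq_inv hLinv hIinv hL, map_inv, inv_eq_one, pbHom_clsOf g _ hIinv,
    clsOf_iso e (isInvertible_pullback g hIinv)]
  exact clsOf_unit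

end general

section model

variable {R : Type u} [CommRing R] [IsDomain R] [IsDiscreteValuationRing R]
  {C X : Scheme.{u}} (f : C ⟶ Spec (CommRingCat.of (FractionRing R)))
  (p : X ⟶ Spec (CommRingCat.of R)) (g : C ⟶ X)
  (hpb : IsPullback g f p (Spec.map (CommRingCat.ofHom (algebraMap R (FractionRing R)))))
include hpb

/-- the generic fibre misses the closed fibre. -/
theorem map_notMem_specialFibreSet (c : C) : g c ∉ Models.specialFibreSet R (Over.mk p) := by
  intro h
  have h1 : p.base (g.base c) = IsLocalRing.closedPoint R := h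
  have h2 : p.base (g.base c) =
      (Spec.map (CommRingCat.ofHom (algebraMap R (FractionRing R)))).base (f.base c) := by
    rw [← Scheme.Hom.comp_apply, ← Scheme.Hom.comp_apply, hpb.w]
  rw [h2] at h1
  have h3 : ((Spec.map (CommRingCat.ofHom (algebraMap R (FractionRing R)))).base
      (f.base c)).asIdeal = ⊥ := by
    change Ideal.comap (algebraMap R (FractionRing R)) (f.base c).asIdeal = ⊥
    have h4 : (f.base c).asIdeal = ⊥ := by
      have := (f.base c).isPrime
      rcases Ideal.eq_bot_or_top (f.base c).asIdeal with h5 | h5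
      · exact h5
      · exact absurd h5 this.ne_top
    rw [h4, ← RingHom.ker_eq_comap_bot]
    exact (RingHom.injective_iff_ker_eq_bot _).mp (IsFractionRing.injective R (FractionRing R))
  rw [h1] at h3
  exact IsDiscreteValuationRing.not_a_field R h3

/-- `O(Γ)` for a vertical prime divisor `Γ` is trivial on the generic fibre. -/
theorem pbHom_clsOf_vertComp (Γ : ArSurf.VertComp R (Over.mk p)) (L : X.Modules)
    (hL : ClSub.IsInverseOf L (ClSub.idealMod Γ.ι.ker)) :
    pbHom g (clsOf L) = 1 := by
  haveI := isOpenImmersion_of_isPullback f p g hpb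
  refine pbHom_clsOf_eq_one_of_inverse g Γ.ι.ker (fun c hc => ?_) L hL
  rw [support_ker_ι] at hc
  exact map_notMem_specialFibreSet f p g hpb c (range_ι_subset_specialFibreSet Γ hc)

end model

end Groth.Agent.H5.ArS
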