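import Mathlib
import Groth.Agent.Lib.Helper5.ArS.ChainGeo
import Groth.Agent.Lib.Helper3.PLenSch2

/-!
# Global functions of a proper scheme over a field with connected geometric fibre
-/

set_option autoImplicit false
set_option linter.style.haveILetI false
universe u
open CategoryTheory CategoryTheory.Limits AlgebraicGeometry TopologicalSpace Opposite TensorProduct

namespace Groth.Agent.H5.ArS

section alg

/-- a ring with a single prime at which its localization is a field is a field. -/
theorem isField_of_subsingleton_primeSpectrum (Λ : Type u) [CommRing Λ]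
    [Subsingleton (PrimeSpectrum Λ)] (p : PrimeSpectrum Λ)
    (h : IsField ((Spec (CommRingCat.of Λ)).presheaf.stalk p)) : IsField Λ := by
  letI : Algebra Λ ((Spec (CommRingCat.of Λ)).presheaf.stalk p) :=
    StructureSheaf.stalkAlgebra Λ p
  haveI : IsLocalization.AtPrime ((Spec (CommRingCat.of Λ)).presheaf.stalk p) p.asIdeal :=
    StructureSheaf.IsLocalization.to_stalk Λ p
  have hunits : p.asIdeal.primeCompl ≤ IsUnit.submonoid Λ := by
    intro x hx
    change IsUnit x
    by_contra hxu
    obtain ⟨m, hm, hxm⟩ := exists_max_ideal_of_mem_nonunits hxu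
    have : (⟨m, hm.isPrime⟩ : PrimeSpectrum Λ) = p := Subsingleton.elim _ _
    apply hx
    rw [← this]
    exact hxm
  have e := IsLocalization.atUnits Λ p.asIdeal.primeCompl
    (S := (Spec (CommRingCat.of Λ)).presheaf.stalk p) hunits
  exact e.toRingEquiv.toMulEquiv.isField h

end alg

section geo

variable {k kb : Type u} [Field k] [Field kb] [Algebra k kb] [IsAlgClosed kb]

/-- **global functions of a proper `k`-scheme with a field of global functions, connected
geometric fibre and geometric local rings of coprime lengths**: the field of global functions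
is `k`. -/
theorem bijective_appTop_of_geometric {Z Zb : Scheme.{u}} (q : Z ⟶ Spec (CommRingCat.of k))
    [IsProper q] (vb : Zb ⟶ Z) (qb : Zb ⟶ Spec (CommRingCat.of kb))
    (hpb : IsPullback vb qb q (Spec.map (CommRingCat.ofHom (algebraMap k kb))))
    (hA : IsField Γ(Z, ⊤)) [ConnectedSpace Zb]
    (hd : ∀ ℓ : ℕ, ℓ.Prime → ∃ w : Zb,
      ¬ ℓ ∣ (Module.length (Zb.presheaf.stalk w) (Zb.presheaf.stalk w)).toNat) :
    Function.Bijective q.appTop.hom := by
  -- the algebra structure
  set φ : k →+* Γ(Z, ⊤) := q.appTop.hom.comp (Scheme.ΓSpecIso (CommRingCat.of k)).inv.hom with hφ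
  letI : Algebra k Γ(Z, ⊤) := φ.toAlgebra
  haveI : Module.Finite k Γ(Z, ⊤) := finite_toGlobal Z q
  haveI : IsDomain Γ(Z, ⊤) := hA.isDomain
  haveI : Nontrivial Γ(Z, ⊤) := hA.nontrivial
  have hsub : Subsingleton (PrimeSpectrum Γ(Z, ⊤)) := by
    letI := hA.toField
    infer_instance
  haveI : Subsingleton (Spec Γ(Z, ⊤)) := hsub
  have hTq : Z.toSpecΓ ≫ Spec.map (CommRingCat.ofHom (algebraMap k Γ(Z, ⊤))) = q := by
    have h1 : CommRingCat.ofHom (algebraMap k Γ(Z, ⊤)) =
        (Scheme.ΓSpecIso (CommRingCat.of k)).inv ≫ q.appTop := rfl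
    rw [h1, Spec.map_comp, ← Scheme.toSpecΓ_naturality_assoc, toSpecΓ_SpecMap_ΓSpecIso_inv,
      Category.comp_id]
  -- the geometric algebra
  let Λ := kb ⊗[k] Γ(Z, ⊤)
  have hP : IsPullback
      (Spec.map (CommRingCat.ofHom (S := Λ) Algebra.TensorProduct.includeLeftRingHom))
      (Spec.map (CommRingCat.ofHom (S := Λ) (Algebra.TensorProduct.includeRight
        (R := k) (A := kb) (B := Γ(Z, ⊤))).toRingHom))
      (Spec.map (CommRingCat.ofHom (algebraMap k kb)))
      (Spec.map (CommRingCat.ofHom (algebraMap k Γ(Z, ⊤)))) :=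
    isPullback_SpecMap_of_isPushout _ _ _ _ (CommRingCat.isPushout_tensorProduct k kb Γ(Z, ⊤))
  have hcond : qb ≫ Spec.map (CommRingCat.ofHom (algebraMap k kb)) =
      (vb ≫ Z.toSpecΓ) ≫ Spec.map (CommRingCat.ofHom (algebraMap k Γ(Z, ⊤))) := by
    rw [Category.assoc, hTq, hpb.w]
  set g : Zb ⟶ Spec (CommRingCat.of Λ) := hP.lift qb (vb ≫ Z.toSpecΓ) hcond with hg
  have hg1 : g ≫ Spec.map (CommRingCat.ofHom (S := Λ)
      Algebra.TensorProduct.includeLeftRingHom) = qb := hP.lift_fst _ _ _
  have hg2 : g ≫ Spec.map (CommRingCat.ofHom (S := Λ) (Algebra.TensorProduct.includeRight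
      (R := k) (A := kb) (B := Γ(Z, ⊤))).toRingHom) = vb ≫ Z.toSpecΓ := hP.lift_snd _ _ _
  have hsq : IsPullback g vb (Spec.map (CommRingCat.ofHom (S := Λ)
      (Algebra.TensorProduct.includeRight (R := k) (A := kb) (B := Γ(Z, ⊤))).toRingHom))
      Z.toSpecΓ := by
    refine IsPullback.of_right ?_ hg2 hP
    rw [hg1, hTq]
    exact hpb.flip
  haveI : Flat Z.toSpecΓ := inferInstance
  obtain ⟨w0⟩ : Nonempty Zb := inferInstance
  haveI : Surjective Z.toSpecΓ := ⟨fun y => ⟨vb w0, Subsingleton.elim _ _⟩⟩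
  haveI : Flat g := MorphismProperty.of_isPullback hsq.flip inferInstance
  haveI : Surjective g := MorphismProperty.of_isPullback hsq.flip inferInstance
  -- `Spec Λ` is a point
  haveI : Module.Finite kb Λ := inferInstance
  haveI : IsArtinianRing Λ := IsArtinianRing.of_finite kb Λ
  haveI : DiscreteTopology (PrimeSpectrum Λ) := inferInstance
  have hPsub : Subsingleton (PrimeSpectrum Λ) := by
    have hconn : ConnectedSpace (Spec (CommRingCat.of Λ)) := by
      have := g.surjective
      exact this.connectedSpace g.continuous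
    haveI : ConnectedSpace (PrimeSpectrum Λ) := hconn
    exact PreconnectedSpace.trivial_of_discrete
  haveI := hPsub
  -- lengths
  set p0 : Spec (CommRingCat.of Λ) := g w0 with hp0
  have hlen : ∀ ℓ : ℕ, ℓ.Prime → ¬ ℓ ∣ (Module.length
      ((Spec (CommRingCat.of Λ)).presheaf.stalk p0)
      ((Spec (CommRingCat.of Λ)).presheaf.stalk p0)).toNat := by
    intro ℓ hℓ hdvd
    obtain ⟨w, hw⟩ := hd ℓ hℓ
    apply hw
    have hmul := Groth.Agent.H3.PLenSch2.length_stalk_eq_mul_fiber g w
    have hgw : g w = p0 := Subsingleton.elim (α := PrimeSpectrum Λ) _ _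
    have key : ∀ p : Spec (CommRingCat.of Λ), g w = p →
        ℓ ∣ (Module.length ((Spec (CommRingCat.of Λ)).presheaf.stalk p)
          ((Spec (CommRingCat.of Λ)).presheaf.stalk p)).toNat →
        ℓ ∣ (Module.length (Zb.presheaf.stalk w) (Zb.presheaf.stalk w)).toNat := by
      rintro _ rfl hdvd'
      rw [hmul, ENat.toNat_mul]
      exact Dvd.dvd.mul_right hdvd' _
    exact key p0 hgw hdvd
  have hone : Module.length ((Spec (CommRingCat.of Λ)).presheaf.stalk p0)
      ((Spec (CommRingCat.of Λ)).presheaf.stalk p0) = 1 := by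
    have h1 : (Module.length ((Spec (CommRingCat.of Λ)).presheaf.stalk p0)
        ((Spec (CommRingCat.of Λ)).presheaf.stalk p0)).toNat = 1 := by
      by_contra hne
      obtain ⟨ℓ, hℓ, hdvd⟩ := Nat.exists_prime_and_dvd hne
      exact hlen ℓ hℓ hdvd
    exact (ENat.toNat_eq_iff (by norm_num)).mp h1
  have hstalk : IsField ((Spec (CommRingCat.of Λ)).presheaf.stalk p0) := by
    have hsimple := Module.length_eq_one_iff.mp hone
    obtain ⟨hnt, hunit⟩ := isSimpleModule_self_iff_isUnit.mp hsimple
    exact ⟨exists_pair_ne _, mul_comm, fun {a} ha => (hunit a ha).exists_right_inv⟩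
  have hΛ : IsField Λ := isField_of_subsingleton_primeSpectrum Λ p0 hstalk
  -- conclusion
  haveI : IsDomain Λ := hΛ.isDomain
  haveI : Algebra.IsIntegral kb Λ := Algebra.IsIntegral.of_finite kb Λ
  have hbij : Function.Bijective (algebraMap kb Λ) :=
    IsAlgClosed.algebraMap_bijective_of_isIntegral
  have hrank : Module.finrank kb Λ = 1 := by
    let e : kb ≃ₗ[kb] Λ := LinearEquiv.ofBijective (Algebra.linearMap kb Λ) hbij
    rw [← e.finrank_eq, Module.finrank_self]
  have hrankA : Module.finrank k Γ(Z, ⊤) = 1 := by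
    rw [← Module.finrank_baseChange (R := kb) (S := k) (M' := Γ(Z, ⊤))]
    exact hrank
  have hsurjφ : Function.Surjective φ := by
    intro a
    obtain ⟨c, hc⟩ := (finrank_eq_one_iff_of_nonzero' (1 : Γ(Z, ⊤)) one_ne_zero).mp hrankA a
    refine ⟨c, ?_⟩
    rw [← hc, Algebra.smul_def, mul_one]
    rfl
  have hinjφ : Function.Injective φ := φ.injective
  have hq : q.appTop.hom = φ.comp (Scheme.ΓSpecIso (CommRingCat.of k)).hom.hom := by
    rw [hφ, RingHom.comp_assoc, ← CommRingCat.hom_comp, Iso.hom_inv_id]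
    rfl
  have hiso : Function.Bijective (Scheme.ΓSpecIso (CommRingCat.of k)).hom.hom :=
    ConcreteCategory.bijective_of_isIso _
  rw [hq]
  exact ⟨hinjφ.comp hiso.1, hsurjφ.comp hiso.2⟩

end geo

end Groth.Agent.H5.ArS
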