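import Mathlib
import Groth.Agent.Lib.Helper5.ArS.GraphLA

/-!
# The equality case for symmetric matrices with non-positive weighted row sums
-/

set_option autoImplicit false

namespace Groth.Agent.H5.ArS

section LA

variable {ι : Type*} [Fintype ι]

/-- a symmetric integer matrix with non-negative off-diagonal entries and non-positive weighted
row sums (for positive weights): if the quadratic form vanishes at `a` then `a` is proportional to
the weights along every edge, and vanishes wherever the row sum is negative. -/
theorem quad_eq_zero_facts (x : ι → ι → ℤ) (n : ι → ℤ)
    (hsymm : ∀ i j, x i j = x j i) (hoff : ∀ i j, i ≠ j → 0 ≤ x i j)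
    (hn : ∀ i, 0 < n i) (hrow : ∀ i, ∑ j, n j * x i j ≤ 0) (a : ι → ℤ)
    (h0 : ∑ i, ∑ j, a i * a j * x i j = 0) :
    (∀ i j, i ≠ j → x i j ≠ 0 → a i * n j = a j * n i) ∧
      (∀ i, ∑ j, n j * x i j ≠ 0 → a i = 0) := by
  classical
  set r : ι → ℤ := fun i => ∑ j, n j * x i j with hr
  let x' : Option ι → Option ι → ℤ := fun o o' =>
    match o, o' with
    | some i, some j => x i j
    | some i, none => - r i
    | none, some j => - r j
    | none, none => ∑ i, n i * r i
  let n' : Option ι → ℤ := fun o => match o with
    | some i => n i
    | none => 1
  let a' : Option ι → ℤ := fun o => match o with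
    | some i => a i
    | none => 0
  have h := (quad_nonpos_and_eq x' n' ?_ ?_ ?_ ?_ a').2
  · have e1 : a' none = 0 := rfl
    have e2 : ∀ i, a' (some i) = a i := fun i => rfl
    have e3 : ∀ i j, x' (some i) (some j) = x i j := fun i j => rfl
    have hq : ∑ i, ∑ j, a' i * a' j * x' i j = 0 := by
      rw [Fintype.sum_option]
      simp only [Fintype.sum_option]
      simp only [e1, e2, e3, zero_mul, mul_zero, Finset.sum_const_zero, zero_add, add_zero]
      exact h0
    have h' := h hq
    refine ⟨?_, ?_⟩
    · intro i j hij hx
      exact h' (some i) (some j) (fun hh => hij (Option.some.inj hh)) hx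
    · intro i hi
      have h2 := h' (some i) none (by simp) (by
        change - r i ≠ 0
        simpa [hr] using hi)
      change a i * 1 = 0 * n i at h2
      simpa using h2
  · intro o o'
    cases o <;> cases o' <;> simp [x', hsymm]
  · intro o o' hne
    cases o with
    | none =>
      cases o' with
      | none => exact absurd rfl hne
      | some j =>
        change 0 ≤ - r j
        have := hrow j
        simp only [hr]
        linarith
    | some i =>
      cases o' with
      | none =>
        change 0 ≤ - r i
        have := hrow i
        simp only [hr]
        linarith
      | some j =>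
        exact hoff i j (fun h => hne (congrArg some h))
  · intro o
    cases o with
    | none => exact one_pos
    | some i => exact hn i
  · intro o
    rw [Fintype.sum_option]
    cases o with
    | none =>
      change 1 * (∑ i, n i * r i) + ∑ j, n j * (- r j) = 0
      simp only [mul_neg, Finset.sum_neg_distrib]
      ring
    | some i =>
      change 1 * (- r i) + ∑ j, n j * x i j = 0
      simp only [hr]
      ring

end LA

end Groth.Agent.H5.ArS
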