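import Mathlib
import Groth.Agent.Lib.Helper5.ArS.FibConn
import Groth.Agent.Lib.Lead.FF.H0Const
import Groth.Prelude.Def_Neron

/-!
# `H⁰(X, O_X) = R` for an integral flat proper scheme over an integrally closed Noetherian domain
with geometrically connected and reduced generic fibre (S7915)
-/

set_option autoImplicit false
set_option linter.style.haveILetI false
universe u
open CategoryTheory CategoryTheory.Limits AlgebraicGeometry TopologicalSpace Opposite

namespace Groth.Agent.H5.ArS

open Groth.Agent.LD Groth.Agent.LD.QC

section

variable {R : Type u} [CommRing R] [IsDomain R]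
variable {C X : Scheme.{u}} (f : C ⟶ Spec (CommRingCat.of (FractionRing R)))
  (p : X ⟶ Spec (CommRingCat.of R)) (g : C ⟶ X)
  (hpb : IsPullback g f p (Spec.map (CommRingCat.ofHom (algebraMap R (FractionRing R)))))

/-- the generic point of an integral flat scheme over a domain lies over the generic point. -/
theorem base_genericPoint_of_flat [IsIntegral X] [Flat p] :
    (p.base (genericPoint X)).asIdeal = ⊥ := by
  have hgen : (⟨⊥, Ideal.isPrime_bot⟩ : PrimeSpectrum R) ⤳ p.base (genericPoint X) := by
    rw [← PrimeSpectrum.le_iff_specializes]
    exact bot_le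
  obtain ⟨a, ha, hpa⟩ := (Flat.generalizingMap p) hgen
  have : a = genericPoint X := ((genericPoint_specializes a).antisymm ha).eq.symm
  rw [← this, hpa]

include hpb

/-- the generic point of an integral flat scheme over a domain lies on the generic fibre. -/
theorem genericPoint_mem_range [IsIntegral X] [Flat p] : genericPoint X ∈ Set.range g := by
  have h2 := base_genericPoint_of_flat p
  have h3 : p.base (genericPoint X) ∈ Set.range (Spec.map (CommRingCat.ofHom
      (algebraMap R (FractionRing R)))) := by
    refine ⟨⟨⊥, Ideal.isPrime_bot⟩, ?_⟩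
    apply PrimeSpectrum.ext
    rw [h2]
    change Ideal.comap (algebraMap R (FractionRing R)) ⊥ = ⊥
    rw [← RingHom.ker_eq_comap_bot]
    exact (RingHom.injective_iff_ker_eq_bot _).mp (IsFractionRing.injective R (FractionRing R))
  have h4 : genericPoint X ∈ Set.range (pullback.fst p (Spec.map (CommRingCat.ofHom
      (algebraMap R (FractionRing R))))) := by
    rw [Scheme.Pullback.range_fst]
    exact h3
  obtain ⟨z, hz⟩ := h4
  refine ⟨hpb.isoPullback.inv.base z, ?_⟩
  rw [← Scheme.Hom.comp_apply, hpb.isoPullback_inv_fst]
  exact hz

/-- restriction to the generic fibre is injective on global functions of an integral flat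
scheme over a domain. -/
theorem appTop_injective_of_isIntegral [IsIntegral X] [Flat p] :
    Function.Injective g.appTop.hom := by
  rw [injective_iff_map_eq_zero]
  intro d hd
  obtain ⟨c, hc⟩ := genericPoint_mem_range f p g hpb
  have hbot : X.basicOpen d = ⊥ := by
    by_contra hne
    have hne' : ((Set.univ : Set X) ∩ (X.basicOpen d : Set X)).Nonempty := by
      rw [Set.univ_inter]
      by_contra hemp
      apply hne
      ext x
      simp only [Opens.coe_bot, Set.mem_empty_iff_false, iff_false]
      intro hx
      exact hemp ⟨x, hx⟩
    have hη : genericPoint X ∈ (X.basicOpen d : Set X) :=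
      ((genericPoint_spec X).mem_open_set_iff (X.basicOpen d).2).mpr hne'
    rw [← hc] at hη
    have h1 : c ∈ g ⁻¹ᵁ X.basicOpen d := hη
    rw [Scheme.preimage_basicOpen] at h1
    have h2 : (g.app ⊤).hom d = 0 := hd
    rw [h2, Scheme.basicOpen_zero] at h1
    exact h1
  exact (basicOpen_eq_bot_iff _).mp hbot

/-- `H⁰(X, O_X) = R` for a proper scheme over an integrally closed Noetherian domain whose
generic fibre has `H⁰ = K` and such that restriction to the generic fibre is injective. -/
theorem bijective_toGlobal_of_generic [IsNoetherianRing R] [IsIntegrallyClosed R] [IsProper p]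
    (hginj : Function.Injective g.appTop.hom) (hfbij : Function.Bijective (Coh.toGlobal f)) :
    Function.Bijective (Coh.toGlobal p) := by
  have hcomp : ∀ r : R, g.appTop.hom (Coh.toGlobal p r) =
      Coh.toGlobal f (algebraMap R (FractionRing R) r) := by
    intro r
    have h1 : g.appTop.hom (Coh.toGlobal p r) = Coh.toGlobal (g ≫ p) r := rfl
    rw [h1, hpb.w, toGlobal_comp_specMap]
  constructor
  · intro r r' h
    have := congrArg g.appTop.hom h
    rw [hcomp, hcomp] at this
    exact IsFractionRing.injective R (FractionRing R) (hfbij.1 this)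
  · intro b
    obtain ⟨κ, hκ⟩ := hfbij.2 (g.appTop.hom b)
    obtain ⟨P, hPm, hPb⟩ := isIntegralElem_toGlobal X p b
    have hκint : IsIntegral R κ := by
      refine ⟨P, hPm, ?_⟩
      apply hfbij.1
      rw [map_zero, Polynomial.hom_eval₂, hκ]
      have h2 : (Coh.toGlobal f).comp (algebraMap R (FractionRing R)) =
          g.appTop.hom.comp (Coh.toGlobal p) := by
        ext r
        exact (hcomp r).symm
      have h3 := Polynomial.hom_eval₂ P (Coh.toGlobal p) g.appTop.hom b
      rw [h2]
      refine h3.symm.trans ?_
      rw [hPb]
      exact map_zero _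
    obtain ⟨r, hr⟩ := IsIntegrallyClosed.algebraMap_eq_of_integral hκint
    refine ⟨r, hginj ?_⟩
    rw [hcomp, hr, hκ]

end

section field

variable (k : Type u) [Field k] {C : Scheme.{u}} (f : C ⟶ Spec (CommRingCat.of k))

/-- a proper geometrically reduced and geometrically connected scheme over a field `k` has
`k → Γ(C, O_C)` bijective. -/
theorem bijective_toGlobal_of_geometrically [IsProper f] [GeometricallyReduced f]
    [GeometricallyConnected f] : Function.Bijective (Coh.toGlobal f) := by
  letI : C.Over (Spec (CommRingCat.of k)) := ⟨f⟩
  haveI : IsProper (C ↘ Spec (CommRingCat.of k)) := ‹IsProper f›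
  haveI : GeometricallyReduced (C ↘ Spec (CommRingCat.of k)) := ‹GeometricallyReduced f›
  haveI : GeometricallyConnected (C ↘ Spec (CommRingCat.of k)) := ‹GeometricallyConnected f›
  have h1 := Groth.Agent.LD.FF.finrank_HH0_eq_one k C
  rw [Groth.Agent.LD.FF.finrank_HH0_eq] at h1
  letI : Algebra k Γ(C, ⊤) := (Coh.toGlobal f).toAlgebra
  exact Algebra.finrank_eq_one_iff_bijective_algebraMap.mp h1

/-- geometrically irreducible morphisms are geometrically connected. -/
theorem geometricallyConnected_of_geometricallyIrreducible {X Y : Scheme.{u}} (f : X ⟶ Y)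
    [GeometricallyIrreducible f] : GeometricallyConnected f :=
  ⟨fun K _ y Z fst snd h => by
    haveI : IrreducibleSpace Z :=
      GeometricallyIrreducible.geometrically_irreducibleSpace (f := f) y fst snd h
    infer_instance⟩

end field

end Groth.Agent.H5.ArS
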