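import Mathlib
import Groth.Agent.Lib.Helper5.ArS.ChainGeo
import Groth.Agent.Lib.Helper5.ArS.CohFlat
import Groth.Agent.Lib.Helper5.ArS.Symm
import Groth.Agent.Lib.Helper3.PLenSch2
import Groth.Agent.Lib.Helper1.RegImmGeo
import Groth.Agent.Lib.Helper1.CartierKit

/-!
# Multiplicities of the closed fibre and lengths of local rings of a flat cover of it
-/

set_option autoImplicit false
set_option linter.style.haveILetI false
universe u
open CategoryTheory CategoryTheory.Limits AlgebraicGeometry TopologicalSpace Opposite

namespace Groth.Agent.H5.ArS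

section

variable {R : Type u} [CommRing R] [IsDomain R] [IsDiscreteValuationRing R]
  {X : Over (Spec (CommRingCat.of R))}

/-- the length of the local ring of the closed fibre (as the closed subscheme of the special fibre
ideal) at a point is the length of `O_{X,ξ} / 𝔪_R O_{X,ξ}`. -/
theorem length_stalk_specialFibre (d : (Models.specialFibreIdeal R X).subscheme) :
    Module.length ((Models.specialFibreIdeal R X).subscheme.presheaf.stalk d)
        ((Models.specialFibreIdeal R X).subscheme.presheaf.stalk d) =
      Module.length (X.left.presheaf.stalk ((Models.specialFibreIdeal R X).subschemeι d))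
        (X.left.presheaf.stalk ((Models.specialFibreIdeal R X).subschemeι d) ⧸
          Ideal.map (Models.stalkHom R X ((Models.specialFibreIdeal R X).subschemeι d))
            (IsLocalRing.maximalIdeal R)) := by
  obtain ⟨V, hV, hξV, -⟩ := exists_isAffineOpen_mem_and_subset
    (x := (Models.specialFibreIdeal R X).subschemeι d) (U := (⊤ : X.left.Opens)) trivial
  have hker := Groth.Agent.H1.CartierKit.ker_stalkMap_subschemeι (Models.specialFibreIdeal R X)
    ⟨V, hV⟩ d hξV
  have hideal : (Models.specialFibreIdeal R X).ideal ⟨V, hV⟩ =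
      (IsLocalRing.maximalIdeal R).map (toSec X V) := specialFibreIdeal_ideal X ⟨V, hV⟩
  rw [hideal, Ideal.map_map] at hker
  have hcomp : (X.left.presheaf.germ V ((Models.specialFibreIdeal R X).subschemeι d) hξV).hom.comp
      (toSec X V) = Models.stalkHom R X ((Models.specialFibreIdeal R X).subschemeι d) := by
    unfold toSec Models.stalkHom
    rw [← RingHom.comp_assoc]
    congr 1
    rw [← CommRingCat.hom_comp]
    congr 1
    exact TopCat.Presheaf.germ_res X.left.presheaf (homOfLE le_top) _ hξV
  rw [hcomp] at hker
  rw [← hker]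
  have e := Groth.Agent.H1.RegImm.quotKerEquiv (Models.specialFibreIdeal R X).subschemeι d
  rw [← Groth.Agent.H3.PLen.length_eq_of_ringEquiv e]
  exact (Module.length_eq_of_surjective Ideal.Quotient.mk_surjective).symm

/-- **the multiplicities of the closed fibre have gcd one** as soon as a flat cover of the closed
fibre has, for each prime `ℓ`, a maximal point whose local ring has length prime to `ℓ`. -/
theorem multGcd_eq_one_of_flat {n : ℕ} (Γ : Fin n → ArSurf.VertComp R X)
    (hΓ : Models.IsComponentList R X Γ)
    {W : Scheme.{u}} (v : W ⟶ (Models.specialFibreIdeal R X).subscheme) [Flat v]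
    (hd : ∀ ℓ : ℕ, ℓ.Prime → ∃ w : W, (∀ y : W, y ⤳ w → y = w) ∧
      ¬ ℓ ∣ (Module.length (W.presheaf.stalk w) (W.presheaf.stalk w)).toNat) :
    Models.multGcd R X Γ = 1 := by
  by_contra hne
  obtain ⟨ℓ, hℓ, hdvd⟩ := Nat.exists_prime_and_dvd hne
  obtain ⟨w, hw, hnd⟩ := hd ℓ hℓ
  apply hnd
  have hdmax : ∀ y, y ⤳ v w → y = v w := by
    intro y hy
    obtain ⟨w', hw', rfl⟩ := Flat.generalizingMap (f := v) hy
    rw [hw w' hw']
  have hrange : Set.range (Models.specialFibreIdeal R X).subschemeι =
      Models.specialFibreSet R X := by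
    rw [Scheme.IdealSheafData.range_subschemeι, support_specialFibreIdeal]
  have hξF : (Models.specialFibreIdeal R X).subschemeι (v w) ∈ Models.specialFibreSet R X :=
    hrange ▸ ⟨v w, rfl⟩
  have hξmax : ∀ y ∈ Models.specialFibreSet R X,
      y ⤳ (Models.specialFibreIdeal R X).subschemeι (v w) →
      y = (Models.specialFibreIdeal R X).subschemeι (v w) := by
    intro y hy hyξ
    rw [← hrange] at hy
    obtain ⟨d', rfl⟩ := hy
    have : d' ⤳ v w :=
      ((Models.specialFibreIdeal R X).subschemeι.isEmbedding.isInducing.specializes_iff).mp hyξ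
    rw [hdmax d' this]
  obtain ⟨i, hi⟩ := exists_mem_range_of_mem_specialFibreSet Γ hΓ _ hξF
  obtain ⟨-, -, -, hr⟩ := range_ι_facts (Γ i)
  rw [hr] at hi
  have hgen : Models.genPtOf R X (Γ i) = (Models.specialFibreIdeal R X).subschemeι (v w) := by
    apply hξmax
    · exact range_ι_subset_specialFibreSet (Γ i) ⟨_, rfl⟩
    · exact specializes_iff_mem_closure.mpr hi
  have hmult : Models.mult R X (Γ i) =
      (Module.length ((Models.specialFibreIdeal R X).subscheme.presheaf.stalk (v w))
        ((Models.specialFibreIdeal R X).subscheme.presheaf.stalk (v w))).toNat := by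
    unfold Models.mult
    rw [length_stalk_specialFibre (v w), hgen]
  have hmul := Groth.Agent.H3.PLenSch2.length_stalk_eq_mul_fiber v w
  rw [hmul, ENat.toNat_mul]
  have h1 : ℓ ∣ Models.mult R X (Γ i) := hdvd.trans (Finset.gcd_dvd (Finset.mem_univ i))
  rw [hmult] at h1
  exact Dvd.dvd.mul_right h1 _

end

end Groth.Agent.H5.ArS
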