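import Mathlib
import Groth.Agent.Lib.Helper5.ArS.ChainGeo

/-!
# The special fibre as the closed subscheme of the special fibre ideal
-/

set_option autoImplicit false
set_option linter.style.haveILetI false
universe u
open CategoryTheory CategoryTheory.Limits AlgebraicGeometry TopologicalSpace Opposite

namespace Groth.Agent.H5.ArS

section

variable {R : Type u} [CommRing R] [IsDomain R] [IsDiscreteValuationRing R]

theorem ker_SpecMap_residue :
    (Spec.map (CommRingCat.ofHom (IsLocalRing.residue R))).ker =
      Curv2.idealSheaf R (IsLocalRing.maximalIdeal R) := by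
  rw [Scheme.ker_of_isAffine]
  unfold Curv2.idealSheaf
  congr 1
  set φ := CommRingCat.ofHom (IsLocalRing.residue R) with hφ
  have hnat := Scheme.ΓSpecIso_naturality φ
  have hnat' := Scheme.ΓSpecIso_inv_naturality φ
  apply le_antisymm
  · intro x hx
    rw [RingHom.mem_ker] at hx
    have h1 : (Scheme.ΓSpecIso (CommRingCat.of (IsLocalRing.ResidueField R))).hom.hom
        ((Spec.map φ).appTop.hom x) = φ.hom ((Scheme.ΓSpecIso (CommRingCat.of R)).hom.hom x) := by
      rw [← RingHom.comp_apply, ← RingHom.comp_apply, ← CommRingCat.hom_comp,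
        ← CommRingCat.hom_comp, hnat]
    rw [hx, map_zero] at h1
    have h2 : (Scheme.ΓSpecIso (CommRingCat.of R)).hom x ∈ IsLocalRing.maximalIdeal R := by
      rw [← IsLocalRing.ker_residue, RingHom.mem_ker]
      exact h1.symm
    have h3 := Ideal.mem_map_of_mem (Scheme.ΓSpecIso (CommRingCat.of R)).inv.hom h2
    have h4 : (Scheme.ΓSpecIso (CommRingCat.of R)).inv.hom
        ((Scheme.ΓSpecIso (CommRingCat.of R)).hom x) = x := by
      change ((Scheme.ΓSpecIso (CommRingCat.of R)).hom ≫
        (Scheme.ΓSpecIso (CommRingCat.of R)).inv) x = x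
      rw [Iso.hom_inv_id]
      rfl
    rw [h4] at h3
    exact h3
  · rw [Ideal.map_le_iff_le_comap]
    intro r hr
    rw [Ideal.mem_comap, RingHom.mem_ker]
    have h1 : (Scheme.ΓSpecIso (CommRingCat.of (IsLocalRing.ResidueField R))).inv.hom (φ.hom r) =
        (Spec.map φ).appTop.hom ((Scheme.ΓSpecIso (CommRingCat.of R)).inv.hom r) := by
      rw [← RingHom.comp_apply, ← RingHom.comp_apply, ← CommRingCat.hom_comp,
        ← CommRingCat.hom_comp, hnat']
    have h2 : φ.hom r = 0 := by
      have : r ∈ RingHom.ker (IsLocalRing.residue R) := by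
        rw [IsLocalRing.ker_residue]; exact hr
      exact this
    rw [h2, map_zero] at h1
    exact h1.symm

variable (X : Over (Spec (CommRingCat.of R)))

/-- the special fibre `X ×_R k` is the closed subscheme of the special fibre ideal. -/
theorem nonempty_iso_specialFibre :
    Nonempty (pullback X.hom (Spec.map (CommRingCat.ofHom (IsLocalRing.residue R))) ≅
      (Models.specialFibreIdeal R X).subscheme) := by
  set g := Spec.map (CommRingCat.ofHom (IsLocalRing.residue R)) with hg
  haveI : IsClosedImmersion g :=
    IsClosedImmersion.spec_of_surjective _ IsLocalRing.residue_surjective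
  have key : ∀ (J : (Spec (CommRingCat.of R)).IdealSheafData), g.ker = J →
      Nonempty (pullback X.hom g ≅ (J.comap X.hom).subscheme) := by
    rintro _ rfl
    let e1 : pullback X.hom g ≅ pullback X.hom g.ker.subschemeι :=
      asIso (pullback.map X.hom g X.hom g.ker.subschemeι (𝟙 _) g.toImage (𝟙 _) (by simp)
        (by simpa using g.toImage_imageι))
    exact ⟨e1 ≪≫ (g.ker.comapIso X.hom).symm⟩
  exact key _ ker_SpecMap_residue

/-- the special fibre `X ×_R k` has the same global functions as the closed subscheme of the
special fibre ideal. -/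
theorem isField_specialFibre_of_isField
    (hF : IsField Γ((Models.specialFibreIdeal R X).subscheme, ⊤)) :
    IsField Γ(pullback X.hom (Spec.map (CommRingCat.ofHom (IsLocalRing.residue R))), ⊤) := by
  obtain ⟨i⟩ := nonempty_iso_specialFibre X
  let e : Γ(pullback X.hom (Spec.map (CommRingCat.ofHom (IsLocalRing.residue R))), ⊤) ≃+*
      Γ((Models.specialFibreIdeal R X).subscheme, ⊤) :=
    (Scheme.Γ.mapIso i.symm.op).commRingCatIsoToRingEquiv
  exact e.toMulEquiv.isField hF

end

end Groth.Agent.H5.ArS
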