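import Mathlib
import Groth.Agent.Lib.Helper5.ArS.CompListD
import Groth.Agent.Lib.Helper5.ArS.SpFibIso
import Groth.Agent.Lib.Helper5.ArS.MultGeo
import Groth.Agent.Lib.Helper5.ArS.GeoConn
import Groth.Agent.Lib.Helper5.ArS.FibDec

/-!
# `k → H⁰(X_s, O)` is bijective when the geometric multiplicities have gcd one (S8723)
-/

set_option autoImplicit false
set_option linter.style.haveILetI false
universe u
open CategoryTheory CategoryTheory.Limits AlgebraicGeometry TopologicalSpace Opposite

namespace Groth.Agent.H5.ArS

section cat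

variable {C : Type*} [Category C] [HasPullbacks C]

theorem isPullback_lift_comp {X S S' S'' : C} (f : X ⟶ S) (ρ : S' ⟶ S) (a : S'' ⟶ S') :
    IsPullback (pullback.lift (pullback.fst f (a ≫ ρ)) (pullback.snd f (a ≫ ρ) ≫ a)
      (by rw [pullback.condition, Category.assoc])) (pullback.snd f (a ≫ ρ))
      (pullback.snd f ρ) a := by
  refine IsPullback.of_right ?_ (pullback.lift_snd _ _ _) (IsPullback.of_hasPullback f ρ)
  rw [pullback.lift_fst]
  exact IsPullback.of_hasPullback f (a ≫ ρ)

theorem exists_isPullback_of_eq {X S S' S'' : C} (f : X ⟶ S) (ρ : S' ⟶ S) (a : S'' ⟶ S')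
    (ρb : S'' ⟶ S) (h : ρb = a ≫ ρ) :
    ∃ u : pullback f ρb ⟶ pullback f ρ,
      IsPullback u (pullback.snd f ρb) (pullback.snd f ρ) a := by
  subst h
  exact ⟨_, isPullback_lift_comp f ρ a⟩

end cat

section main

variable (R : Type u) [CommRing R] [IsDomain R] [IsDiscreteValuationRing R]

theorem range_SpecMap_residue :
    Set.range (Spec.map (CommRingCat.ofHom (IsLocalRing.residue R))) =
      {IsLocalRing.closedPoint R} := by
  ext y
  constructor
  · rintro ⟨z, rfl⟩
    exact IsLocalRing.PrimeSpectrum.comap_residue R z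
  · intro hy
    rw [Set.mem_singleton_iff.mp hy]
    exact ⟨IsLocalRing.closedPoint (IsLocalRing.ResidueField R),
      IsLocalRing.comap_closedPoint (IsLocalRing.residue R)⟩

/-- **S8723**. -/
theorem bijective_H0_specialFibre_of_gcd_one {X : Scheme.{u}} (f : X ⟶ Spec (CommRingCat.of R))
    [IsProper f] [Flat f]
    [IsIntegral X] (hreg : ∀ x : X, IsRegularLocalRing (X.presheaf.stalk x))
    (hdim : topologicalKrullDim X = 2)
    (hconn : ∀ (K : Type u) [Field K] [Algebra (IsLocalRing.ResidueField R) K],
      ConnectedSpace ↥(pullback f (Spec.map (CommRingCat.ofHom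
        ((algebraMap (IsLocalRing.ResidueField R) K).comp (IsLocalRing.residue R))))))
    (hd : ∀ ℓ : ℕ, ℓ.Prime → ∃ x : ↥(pullback f (Spec.map (CommRingCat.ofHom
        ((algebraMap (IsLocalRing.ResidueField R) (AlgebraicClosure (IsLocalRing.ResidueField R))).comp
          (IsLocalRing.residue R))))),
        (∀ y : ↥(pullback f (Spec.map (CommRingCat.ofHom
        ((algebraMap (IsLocalRing.ResidueField R) (AlgebraicClosure (IsLocalRing.ResidueField R))).comp
          (IsLocalRing.residue R))))), y ⤳ x → y = x) ∧
        ¬ (ℓ ∣ (Module.length ((pullback f (Spec.map (CommRingCat.ofHom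
        ((algebraMap (IsLocalRing.ResidueField R) (AlgebraicClosure (IsLocalRing.ResidueField R))).comp
          (IsLocalRing.residue R))))).presheaf.stalk x) ((pullback f (Spec.map (CommRingCat.ofHom
        ((algebraMap (IsLocalRing.ResidueField R) (AlgebraicClosure (IsLocalRing.ResidueField R))).comp
          (IsLocalRing.residue R))))).presheaf.stalk x)).toNat)) :
    Function.Bijective
      (pullback.snd f (Spec.map (CommRingCat.ofHom (IsLocalRing.residue R)))).appTop.hom := by
  classical
  set k := IsLocalRing.ResidueField R with hk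
  set kb := AlgebraicClosure k with hkb
  set ρ := Spec.map (CommRingCat.ofHom (IsLocalRing.residue R)) with hρ
  set a := Spec.map (CommRingCat.ofHom (algebraMap k kb)) with ha
  set ρb := Spec.map (CommRingCat.ofHom ((algebraMap k kb).comp (IsLocalRing.residue R))) with hρb
  have hρba : ρb = a ≫ ρ := by
    rw [hρb, ha, hρ, ← Spec.map_comp]
    rfl
  let X' : Over (Spec (CommRingCat.of R)) := Over.mk f
  have hp : IsProper X'.hom := ‹IsProper f›
  haveI : Flat X'.hom := ‹Flat f›
  haveI : IsIntegral X'.left := ‹IsIntegral X›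
  haveI : IsLocallyNoetherian X'.left := LocallyOfFiniteType.isLocallyNoetherian f
  have hreg' : Models.IsRegularScheme X'.left := hreg
  -- connectedness of the closed fibre
  have hconnF : _root_.IsConnected (Models.specialFibreSet R X') := by
    have h1 := hconn k
    have h2 : (algebraMap k k).comp (IsLocalRing.residue R) = IsLocalRing.residue R := rfl
    rw [h2] at h1
    have h3 : Models.specialFibreSet R X' = Set.range (pullback.fst f ρ) := by
      rw [Scheme.Pullback.range_fst, range_SpecMap_residue]
      rfl
    rw [h3]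
    exact isConnected_range (pullback.fst f ρ).continuous
  -- the component list
  obtain ⟨n, Γ, hΓ⟩ := exists_componentList X' hp hdim hconnF.isPreconnected
  -- the geometric fibre
  obtain ⟨u, hu⟩ := exists_isPullback_of_eq f ρ a ρb hρba
  haveI : Flat a := inferInstance
  haveI : Flat u := MorphismProperty.of_isPullback hu.flip inferInstance
  obtain ⟨i⟩ := nonempty_iso_specialFibre X'
  have hgcd : Models.multGcd R X' Γ = 1 :=
    multGcd_eq_one_of_flat Γ hΓ (u ≫ i.hom) hd
  -- the chain of fields
  obtain ⟨t, c, -, hl, -, hF⟩ := exists_chain_fields (X := X') hp hreg' Γ hΓ hconnF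
  have hprod := specialFibreIdeal_eq_prod hreg' Γ hΓ
  have hfield : IsField Γ((Models.specialFibreIdeal R X').subscheme, ⊤) := by
    have hc : c (Fin.last t) = fun j => Models.mult R X' (Γ j) := by
      rw [hl]
      funext j
      rw [hgcd, Nat.div_one]
    rw [hprod]
    have h := hF (Fin.last t)
    rw [hc] at h
    exact h
  have hA : IsField Γ(pullback f ρ, ⊤) := isField_specialFibre_of_isField X' hfield
  haveI : ConnectedSpace ↥(pullback f ρb) := hconn kb
  exact bijective_appTop_of_geometric (pullback.snd f ρ) u (pullback.snd f ρb) hu hA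
    (fun ℓ hℓ => by
      obtain ⟨x, -, hx⟩ := hd ℓ hℓ
      exact ⟨x, hx⟩)

end main

end Groth.Agent.H5.ArS
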