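import Mathlib
import Groth.Agent.Lib.Helper5.ArS.FibDec
import Groth.Agent.Lib.Helper5.ArS.ChainGeo
import Groth.Agent.Lib.Helper5.ArS.CohFlat
import Groth.Agent.Lib.Helper5.Curve6.Rat

/-!
# The reduced closed fibre is `Σ Γ_i`
-/

set_option autoImplicit false
set_option linter.style.haveILetI false
universe u
open CategoryTheory CategoryTheory.Limits AlgebraicGeometry TopologicalSpace Opposite

namespace Groth.Agent.H5.ArS

open Groth.Agent.LD Groth.Agent.LD.QC

section ring

variable {A : Type u} [CommRing A] {ι : Type*} [Fintype ι]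

/-- local form: in a factorial localisation, the intersection of the minimal primes over `π` is
contained in their product. -/
theorem map_iInf_le_map_prod (π : A) (P : ι → Ideal A)
    (Q : Ideal A) [Q.IsPrime] (B : Type*) [CommRing B] [Algebra A B] [IsLocalization.AtPrime B Q]
    [IsDomain B] [UniqueFactorizationMonoid B]
    (hπ : π ∈ nonZeroDivisors A)
    (hP : ∀ i, P i = ⊤ ∨ (P i).IsPrime)
    (hπP : ∀ i, π ∈ P i)
    (hinj : ∀ i j, (P i).IsPrime → P i = P j → i = j)
    (hmin : ∀ i, (P i).IsPrime → ∀ P' : Ideal A, P'.IsPrime → π ∈ P' → P' ≤ P i → P' = P i) :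
    (⨅ i, P i).map (algebraMap A B) ≤ (∏ i, P i).map (algebraMap A B) := by
  classical
  have hπB' : algebraMap A B π ∈ nonZeroDivisors B :=
    IsLocalization.map_nonZeroDivisors_le Q.primeCompl B (Submonoid.mem_map_of_mem _ hπ)
  have hπB : algebraMap A B π ≠ 0 := nonZeroDivisors.ne_zero hπB'
  have hgen : ∀ i, ∃ q : B, (P i).map (algebraMap A B) = Ideal.span {q} ∧
      (((P i).IsPrime ∧ P i ≤ Q) → Prime q) ∧
      (¬ ((P i).IsPrime ∧ P i ≤ Q) → q = 1) := by
    intro i
    by_cases h : (P i).IsPrime ∧ P i ≤ Q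
    · haveI := h.1
      obtain ⟨q, hq, -, hspan⟩ :=
        exists_prime_map_eq_span Q B π hπB (P i) h.2 (hπP i) (hmin i h.1)
      exact ⟨q, hspan, fun _ => hq, fun h' => absurd h h'⟩
    · refine ⟨1, ?_, fun h' => absurd h' h, fun _ => rfl⟩
      rw [Ideal.span_singleton_one]
      rcases hP i with h1 | h1
      · rw [h1, Ideal.map_top]
      · exact IsLocalization.AtPrime.map_eq_top_of_not_le B (fun hle => h ⟨h1, hle⟩)
  choose q hqspan hqprime hqone using hgen
  set s : Finset ι := Finset.univ.filter (fun i => (P i).IsPrime ∧ P i ≤ Q) with hs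
  have hmem : ∀ i, i ∈ s ↔ ((P i).IsPrime ∧ P i ≤ Q) := by
    intro i
    simp [hs]
  have hdisj : ∀ i ∈ s, Disjoint (Q.primeCompl : Set A) (P i : Set A) := by
    intro i hi
    rw [Set.disjoint_left]
    intro a ha haP
    exact ha (((hmem i).mp hi).2 haP)
  have hna : ∀ i ∈ s, ∀ j ∈ s, i ≠ j → ¬ Associated (q i) (q j) := by
    intro i hi j hj hij hass
    apply hij
    have hi' := (hmem i).mp hi
    have hj' := (hmem j).mp hj
    refine hinj i j hi'.1 ?_
    have h1 : (P i).map (algebraMap A B) = (P j).map (algebraMap A B) := by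
      rw [hqspan, hqspan]
      exact Ideal.span_singleton_eq_span_singleton.mpr hass
    rw [← IsLocalization.under_map_of_isPrime_disjoint Q.primeCompl B hi'.1 (hdisj i hi),
      ← IsLocalization.under_map_of_isPrime_disjoint Q.primeCompl B hj'.1 (hdisj j hj), h1]
  have e1 : (∏ i, P i).map (algebraMap A B) = Ideal.span {∏ i, q i} := by
    rw [← Ideal.mapHom_apply, map_prod, ← Ideal.prod_span_singleton]
    refine Finset.prod_congr rfl (fun i _ => ?_)
    rw [Ideal.mapHom_apply, hqspan]
  have e2 : ∏ i, q i = ∏ i ∈ s, q i := by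
    rw [← Finset.prod_subset (Finset.subset_univ s) (fun i _ hi => by
      rw [hqone i (fun h => hi ((hmem i).mpr h))])]
  rw [e1, e2]
  intro x hx
  rw [Ideal.mem_span_singleton]
  have hrel : (s : Set ι).Pairwise (Function.onFun IsRelPrime fun i => q i) := by
    intro i hi j hj hij
    change IsRelPrime (q i) (q j)
    rw [(hqprime i ((hmem i).mp hi)).irreducible.isRelPrime_iff_not_dvd]
    intro hdvd
    exact hna i hi j hj hij ((hqprime i ((hmem i).mp hi)).associated_of_dvd
      (hqprime j ((hmem j).mp hj)) hdvd)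
  refine Finset.prod_dvd_of_isRelPrime hrel (fun i _ => ?_)
  rw [← Ideal.mem_span_singleton, ← hqspan i]
  exact Ideal.map_mono (iInf_le P i) hx

/-- **the radical of `π A`**: in a ring all of whose localisations at maximal ideals are factorial
domains, the intersection of the minimal primes over a nonzerodivisor is their product. -/
theorem iInf_eq_prod (π : A) (P : ι → Ideal A)
    (hufd : ∀ (Q : Ideal A) [Q.IsMaximal], ∃ (B : Type u) (_ : CommRing B) (_ : Algebra A B)
      (_ : IsLocalization.AtPrime B Q) (_ : IsDomain B), UniqueFactorizationMonoid B)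
    (hπ : π ∈ nonZeroDivisors A)
    (hP : ∀ i, P i = ⊤ ∨ (P i).IsPrime)
    (hπP : ∀ i, π ∈ P i)
    (hinj : ∀ i j, (P i).IsPrime → P i = P j → i = j)
    (hmin : ∀ i, (P i).IsPrime → ∀ P' : Ideal A, P'.IsPrime → π ∈ P' → P' ≤ P i → P' = P i) :
    ⨅ i, P i = ∏ i, P i := by
  refine le_antisymm ?_ ?_
  · refine Ideal.le_of_localization_maximal (fun Q hQ => ?_)
    haveI := hQ
    obtain ⟨B, _, _, _, _, _⟩ := hufd Q
    have key := map_iInf_le_map_prod π P Q B hπ hP hπP hinj hmin
    let e : B ≃ₐ[A] Localization.AtPrime Q :=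
      IsLocalization.algEquiv Q.primeCompl B (Localization.AtPrime Q)
    have he : (e : B →+* Localization.AtPrime Q).comp (algebraMap A B) =
        algebraMap A (Localization.AtPrime Q) := by
      ext a
      exact e.commutes a
    rw [← he, ← Ideal.map_map, ← Ideal.map_map]
    exact Ideal.map_mono key
  · exact le_iInf fun i => Ideal.prod_le_inf.trans (Finset.inf_le (Finset.mem_univ i))

end ring

section scheme

variable {R : Type u} [CommRing R] [IsDomain R] [IsDiscreteValuationRing R]
  {X : Over (Spec (CommRingCat.of R))} [Flat X.hom] (hreg : Models.IsRegularScheme X.left)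
  {n : ℕ} (Γ : Fin n → ArSurf.VertComp R X) (hΓ : Models.IsComponentList R X Γ)
include hreg hΓ

/-- the intersection of the ideals of the components of the closed fibre is their product. -/
theorem iInf_ker_eq_prod : (⨅ i, (Γ i).ι.ker) = ∏ i, (Γ i).ι.ker := by
  obtain ⟨ϖ, hϖ⟩ := IsDiscreteValuationRing.exists_irreducible R
  refine Scheme.IdealSheafData.ext ?_
  funext V
  have h1 := ideal_prod_pow Finset.univ (fun i => (Γ i).ι.ker) (fun _ => 1) V
  simp only [pow_one] at h1
  rw [Scheme.IdealSheafData.ideal_iInf, iInf_apply, h1]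
  exact iInf_eq_prod (toSec X V.1 ϖ) (fun i => (Γ i).ι.ker.ideal V)
    (fun Q _ => exists_ufd_localization hreg V Q)
    (toSec_mem_nonZeroDivisors V.2 ϖ hϖ.ne_zero) (fun i => ker_ideal_top_or_prime (Γ i) V)
    (fun i => toSec_mem_ker (Γ i) V ϖ (by
      rw [hϖ.maximalIdeal_eq]
      exact Ideal.mem_span_singleton_self ϖ))
    (fun i j hP h => ker_injective Γ hΓ V i j hP h)
    (fun i hP P' hP' hπ hle => ker_minimal Γ hΓ V ϖ hϖ i hP P' hP' hπ hle)

/-- **the reduced closed fibre is `Σ Γ_i`.** -/
theorem redFibreIdeal_eq_prod : Models.redFibreIdeal R X = ∏ i, (Γ i).ι.ker := by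
  classical
  apply le_antisymm
  · rw [← iInf_ker_eq_prod hreg Γ hΓ]
    refine le_iInf fun i => ?_
    rw [Curve6.ker_eq_vanishingIdeal_of_isReduced (Γ i).ι]
    refine Scheme.IdealSheafData.vanishingIdeal_antimono ?_
    change closure (Set.range (Γ i).ι) ⊆ Models.specialFibreSet R X
    exact (Models.isClosed_specialFibreSet R X).closure_subset_iff.mpr
      (range_ι_subset_specialFibreSet (Γ i))
  · unfold Models.redFibreIdeal
    rw [← Scheme.IdealSheafData.le_support_iff_le_vanishingIdeal]
    intro x hx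
    obtain ⟨i, hi⟩ := exists_mem_range_of_mem_specialFibreSet Γ hΓ x hx
    have hle : (∏ j, (Γ j).ι.ker) ≤ (Γ i).ι.ker := by
      rw [← Finset.mul_prod_erase Finset.univ (fun j => (Γ j).ι.ker) (Finset.mem_univ i)]
      calc (Γ i).ι.ker * ∏ j ∈ Finset.univ.erase i, (Γ j).ι.ker
          ≤ (Γ i).ι.ker * 1 := mul_le_mul_right
            (show (∏ j ∈ Finset.univ.erase i, (Γ j).ι.ker) ≤ 1 from le_top) _
        _ = (Γ i).ι.ker := mul_one _
    have h2 := Scheme.IdealSheafData.support_antitone hle
    apply h2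
    change x ∈ ((Γ i).ι.ker.support : Set X.left)
    rw [support_ker_ι]
    exact hi

end scheme

end Groth.Agent.H5.ArS
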