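import Mathlib
import Groth.Agent.Lib.Helper5.ArS.RedFib
import Groth.Agent.Lib.Helper5.ArS.ChiGeo
import Groth.Agent.Lib.Helper5.ArS.ExcD
import Groth.Agent.Lib.Helper5.ArS.EulerAdd
import Groth.Agent.Lib.Helper5.ArS.NumType

/-!
# `h¹` of the reduced closed fibre against `h¹` of the closed fibre (S3345)
-/

set_option autoImplicit false
set_option linter.style.haveILetI false
universe u
open CategoryTheory CategoryTheory.Limits AlgebraicGeometry TopologicalSpace Opposite

namespace Groth.Agent.H5.ArS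

open Groth.Agent.LD Groth.Agent.LD.QC

variable {R : Type u} [CommRing R] [IsDomain R] [IsDiscreteValuationRing R]
  {X : Over (Spec (CommRingCat.of R))}

section len

/-- the `R`-length of the ring of global functions of the closed subscheme `V(K)`. -/
noncomputable def lenΓ (K : X.left.IdealSheafData) : ℕ∞ :=
  @Module.length R Γ(K.subscheme, ⊤) _ _
    (Coh.toGlobal (K.subschemeι ≫ X.hom)).toAlgebra.toModule

theorem length_HH0_quotMod_eq (K : X.left.IdealSheafData) :
    Module.length R (Coh.HH X.left (ClSub.quotMod K) 0) = lenΓ K := by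
  letI oZ : K.subscheme.Over (Spec (CommRingCat.of R)) := ⟨K.subschemeι ≫ X.hom⟩
  haveI : K.subschemeι.IsOver (Spec (CommRingCat.of R)) := ⟨rfl⟩
  let e1 := CL.HHpushEquiv K.subschemeι R (Coh.structureModule K.subscheme) 0
  letI algA : Algebra R Γ(K.subscheme, ⊤) :=
    (Coh.toGlobal (K.subscheme ↘ Spec (CommRingCat.of R))).toAlgebra
  let e2 : Coh.HH K.subscheme (Coh.structureModule K.subscheme) 0 ≃ₗ[R] Γ(K.subscheme, ⊤) :=
    { CL.HH0Equiv (Coh.structureModule K.subscheme) with
      map_smul' := fun c x =>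
        CL.HH0Equiv_smul (Coh.structureModule K.subscheme)
          (Coh.toGlobal (K.subscheme ↘ Spec (CommRingCat.of R)) c) x }
  exact (e1.symm ≪≫ₗ e2).length_eq

theorem lengthH_zero_eq_toNat (K : X.left.IdealSheafData) :
    Models.lengthH R X (ClSub.quotMod K) 0 = (lenΓ K).toNat := by
  unfold Models.lengthH
  rw [length_HH0_quotMod_eq]

theorem lenΓ_le_of_injective {D' D : X.left.IdealSheafData} (hle : D' ≤ D)
    (hinj : Function.Injective (Scheme.IdealSheafData.inclusion hle).appTop.hom) :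
    lenΓ (X := X) D' ≤ lenΓ D := by
  letI a1 : Algebra R Γ(D'.subscheme, ⊤) := (Coh.toGlobal (D'.subschemeι ≫ X.hom)).toAlgebra
  letI a2 : Algebra R Γ(D.subscheme, ⊤) := (Coh.toGlobal (D.subschemeι ≫ X.hom)).toAlgebra
  set inc := Scheme.IdealSheafData.inclusion hle with hinc
  have hfac : inc ≫ D'.subschemeι = D.subschemeι := Scheme.IdealSheafData.inclusion_subschemeι hle
  have hcomp : Coh.toGlobal (D.subschemeι ≫ X.hom) =
      inc.appTop.hom.comp (Coh.toGlobal (D'.subschemeι ≫ X.hom)) := by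
    unfold Coh.toGlobal
    rw [← hfac, Category.assoc, Scheme.Hom.comp_appTop inc]
    rfl
  let φ : Γ(D'.subscheme, ⊤) →ₗ[R] Γ(D.subscheme, ⊤) :=
    { toFun := inc.appTop.hom
      map_add' := map_add _
      map_smul' := fun r a => by
        change inc.appTop.hom ((show Γ(D'.subscheme, ⊤) from
            Coh.toGlobal (D'.subschemeι ≫ X.hom) r) * a) =
          (show Γ(D.subscheme, ⊤) from Coh.toGlobal (D.subschemeι ≫ X.hom) r) *
            inc.appTop.hom a
        rw [map_mul, hcomp]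
        rfl }
  exact Module.length_le_of_injective φ hinj

theorem lenΓ_ne_zero_of_le {D' D : X.left.IdealSheafData} (hle : D' ≤ D)
    (h : lenΓ (X := X) D ≠ 0) : lenΓ (X := X) D' ≠ 0 := by
  letI a1 : Algebra R Γ(D'.subscheme, ⊤) := (Coh.toGlobal (D'.subschemeι ≫ X.hom)).toAlgebra
  letI a2 : Algebra R Γ(D.subscheme, ⊤) := (Coh.toGlobal (D.subschemeι ≫ X.hom)).toAlgebra
  intro h0
  apply h
  unfold lenΓ at h0 ⊢
  rw [Module.length_eq_zero_iff] at h0 ⊢
  refine ⟨fun x y => ?_⟩
  have h1 : (1 : Γ(D'.subscheme, ⊤)) = 0 := Subsingleton.elim _ _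
  have h2 : (1 : Γ(D.subscheme, ⊤)) = 0 := by
    have := congrArg (Scheme.IdealSheafData.inclusion hle).appTop.hom h1
    rwa [map_one, map_zero] at this
  rw [← mul_one x, ← mul_one y, h2, mul_zero, mul_zero]

end len

section main

variable {C Y : Scheme.{u}} (f : C ⟶ Spec (CommRingCat.of (FractionRing R)))
  (p : Y ⟶ Spec (CommRingCat.of R)) (hX : Models.IsRegularProperModel R Y p C f)
  (hH0 : IsIso f.appTop) {n : ℕ} (Γ : Fin n → ArSurf.VertComp R (Over.mk p))
  (hΓ : Models.IsComponentList R (Over.mk p) Γ)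
include hX hH0 hΓ

/-- **S3345**. -/
theorem h1_redFibre_le_h1_fibre (hmin : Models.IsMinimalModel R Y p C f)
    (hgcd : Models.multGcd R (Over.mk p) Γ = 1)
    (hH0k : Models.lengthH R (Over.mk p)
      (ClSub.quotMod (Models.redFibreIdeal R (Over.mk p))) 0 = 1) :
    Models.lengthH R (Over.mk p) (ClSub.quotMod (Models.redFibreIdeal R (Over.mk p))) 1 ≤
        Models.lengthH R (Over.mk p)
          (ClSub.quotMod (Models.specialFibreIdeal R (Over.mk p))) 1 ∧
      (Models.specialFibreIdeal R (Over.mk p) ≠ Models.redFibreIdeal R (Over.mk p) →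
        Models.lengthH R (Over.mk p) (ClSub.quotMod (Models.redFibreIdeal R (Over.mk p))) 1 <
          Models.lengthH R (Over.mk p)
            (ClSub.quotMod (Models.specialFibreIdeal R (Over.mk p))) 1) := by
  classical
  have hp : IsProper (Over.mk p).hom := hX.2.1
  haveI : Flat (Over.mk p).hom := hX.1.1
  haveI : LocallyOfFiniteType p := hX.1.2.1
  haveI : IsLocallyNoetherian (Over.mk p).left := LocallyOfFiniteType.isLocallyNoetherian p
  have hreg := hX.2.2
  set k := IsLocalRing.ResidueField R with hk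
  have hI : ∀ l, BlowUp.IsEffCartierIdeal (Γ l).ι.ker := fun l => isEffCartierIdeal_ker hreg Γ hΓ l
  have hex : ∀ l, ∃ L : Y.Modules, ClSub.IsInverseOf L (ClSub.idealMod (Γ l).ι.ker) := by
    intro l
    obtain ⟨L', -, ⟨e⟩⟩ := Groth.Agent.H5.Glue.exists_inverse (ClSub.idealMod (Γ l).ι.ker)
      ((isInvertible_idealMod_iff _).mpr (hI l))
    exact ⟨L', ⟨tensorCommGen _ _ ≪≫ e⟩⟩
  choose L hL using hex
  have hconn := isConnected_specialFibreSet_of_model f p hX hH0
  set M : Fin n → Fin n → ℤ := fun i j => ArSurf.inter R (Over.mk p) (L j) (Γ i) with hM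
  have h0 : ∀ i j, M i j = M j i := by
    intro i j
    by_cases hij : i = j
    · subst hij; rfl
    · exact (inter_offdiag hp Γ hΓ L hL i j hij).1
  have h1 : ∀ i j, i ≠ j → 0 ≤ M i j := fun i j hij => (inter_offdiag hp Γ hΓ L hL i j hij).2.1
  have h3 : ∀ S : Finset (Fin n), S.Nonempty → (∀ i ∈ S, ∀ j ∉ S, M i j = 0) →
      S = Finset.univ :=
    fun S hS h => indecomposable_of_isPreconnected hp Γ hΓ L hL hconn.isPreconnected S hS h
  set m : Fin n → ℕ := fun i => Models.mult R (Over.mk p) (Γ i) with hm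
  have hmpos : ∀ i, 0 < m i := fun i => mult_pos hreg Γ hΓ i
  have hg : Finset.univ.gcd m = 1 := hgcd
  have h2 : ∀ i, ∑ j, (m j : ℤ) * M i j = 0 :=
    fun i => sum_mult_inter_eq_zero hp hreg Γ hΓ L hL (Γ i)
  let Z : (Fin n → ℕ) → (Over.mk p).left.IdealSheafData := fun a => ∏ j, (Γ j).ι.ker ^ a j
  let hh1 : (Fin n → ℕ) → ℕ := fun a => Models.lengthH R (Over.mk p) (ClSub.quotMod (Z a)) 1
  set F : (Fin n → ℕ) → Prop := fun a =>
    (∀ j, a j ≤ m j) ∧ lenΓ (X := Over.mk p) (Z a) = 1 ∧ hh1 (fun _ => 1) ≤ hh1 a ∧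
      (a = m → a ≠ (fun _ => 1) → hh1 (fun _ => 1) < hh1 a) with hF
  have hred : Models.redFibreIdeal R (Over.mk p) = Z (fun _ => 1) := by
    rw [redFibreIdeal_eq_prod hreg Γ hΓ]
    exact Finset.prod_congr rfl (fun j _ => (pow_one _).symm)
  have hsp : Models.specialFibreIdeal R (Over.mk p) = Z m := specialFibreIdeal_eq_prod hreg Γ hΓ
  have hbase : F fun _ => 1 := by
    refine ⟨fun j => hmpos j, ?_, le_rfl, fun _ h => absurd rfl h⟩
    rw [hred, lengthH_zero_eq_toNat] at hH0k
    have h4 := (ENat.toNat_eq_iff (by norm_num : (1 : ℕ) ≠ 0)).mp hH0k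
    exact_mod_cast h4
  have hstep : ∀ (a : Fin n → ℕ) (i : Fin n), (∀ j, 1 ≤ a j) → a i < m i → F a →
      0 < ∑ j, (a j : ℤ) * M i j → F (a + Pi.single i 1) := by
    rintro a i ha1 hai ⟨hale, hlen, hmono, -⟩ hpos
    haveI : IsProper ((Γ i).curve.left ↘ Spec (CommRingCat.of k)) := isProper_curve_hom hp (Γ i)
    obtain ⟨hDc, hdeg⟩ := pdeg_idealMod_prod k (Γ i).ι (dim_curve_le (Γ i)) Finset.univ
      (fun j => (Γ j).ι.ker) hI a
    set D : (Over.mk p).left.IdealSheafData := Z a with hD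
    have hDinv : PicF.IsInvertible (ClSub.idealMod D) := (isInvertible_idealMod_iff D).mpr hDc
    have hD'eq : Z (a + Pi.single i 1) = (Γ i).ι.ker * D := by
      change (∏ j, (Γ j).ι.ker ^ ((a + Pi.single i 1 : Fin n → ℕ) j)) =
        (Γ i).ι.ker * ∏ j, (Γ j).ι.ker ^ a j
      rw [mul_comm]
      have h1' : ∀ j : Fin n, (Γ j).ι.ker ^ ((a + Pi.single i 1 : Fin n → ℕ) j) =
          (Γ j).ι.ker ^ a j * (if j = i then (Γ j).ι.ker else 1) := by
        intro j
        rw [Pi.add_apply, pow_add, Pi.single_apply]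
        split_ifs <;> simp
      rw [Finset.prod_congr rfl (fun j _ => h1' j), Finset.prod_mul_distrib,
        Finset.prod_ite_eq' Finset.univ i (fun j => (Γ j).ι.ker)]
      simp
    have hle : (Γ i).ι.ker * D ≤ D := by
      calc (Γ i).ι.ker * D ≤ 1 * D := mul_le_mul_left (show (Γ i).ι.ker ≤ 1 from le_top) D
        _ = D := one_mul D
    have hinter : ∀ j, pdeg k (Γ i).ι (ClSub.idealMod (Γ j).ι.ker) = - M i j := by
      intro j
      change _ = - ArSurf.inter R (Over.mk p) (L j) (Γ i)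
      rw [inter_eq_neg_pdeg hp (Γ i) (Γ j).ι.ker (hI j) (L j) (hL j), neg_neg]
    have hdegneg : pdeg k (Γ i).ι (ClSub.idealMod D) < 0 := by
      rw [hdeg]
      simp only [hinter]
      have : ∑ j, (a j : ℤ) * -M i j = -∑ j, (a j : ℤ) * M i j := by
        rw [← Finset.sum_neg_distrib]
        exact Finset.sum_congr rfl (fun j _ => by ring)
      rw [this]
      omega
    have hinj := injective_inclusion_appTop hp (Γ i) D hDinv hle hdegneg
    have hale' : ∀ j, (a + Pi.single i 1 : Fin n → ℕ) j ≤ m j := by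
      intro j
      simp only [Pi.add_apply, Pi.single_apply]
      split_ifs with h
      · subst h; omega
      · have := hale j; omega
    -- `h⁰ = 1`
    have hlen' : lenΓ (X := Over.mk p) (Z (a + Pi.single i 1)) = 1 := by
      rw [hD'eq]
      refine le_antisymm ?_ ?_
      · rw [← hlen]
        exact lenΓ_le_of_injective hle hinj
      · rw [ENat.one_le_iff_ne_zero]
        refine lenΓ_ne_zero_of_le hle ?_
        rw [hlen]
        exact one_ne_zero
    refine ⟨hale', hlen', ?_⟩
    -- the Euler characteristic step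
    have hvec : ∀ j, (a + Pi.single i 1 : Fin n → ℕ) j = a j + if j = i then 1 else 0 := by
      intro j
      rw [Pi.add_apply, Pi.single_apply]
    have hZ' : Z (a + Pi.single i 1) = ∏ j, (Γ j).ι.ker ^ (a j + if j = i then 1 else 0) :=
      Finset.prod_congr rfl (fun j _ => by rw [hvec j])
    have hE := euler_add_component hp hreg Γ hΓ L hL a i (fun j => by
      rw [← hvec j]; exact hale' j)
    rw [← hZ'] at hE
    have hA0 : Models.lengthH R (Over.mk p) (ClSub.quotMod (Z a)) 0 = 1 := by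
      rw [lengthH_zero_eq_toNat, hlen]; rfl
    have hB0 : Models.lengthH R (Over.mk p) (ClSub.quotMod (Z (a + Pi.single i 1))) 0 = 1 := by
      rw [lengthH_zero_eq_toNat, hlen']; rfl
    change ((Models.lengthH R (Over.mk p) (ClSub.quotMod (Z (a + Pi.single i 1))) 0 : ℤ) -
        (hh1 (a + Pi.single i 1) : ℤ)) -
      ((Models.lengthH R (Over.mk p) (ClSub.quotMod (Z a)) 0 : ℤ) - (hh1 a : ℤ)) = _ at hE
    rw [hA0, hB0] at hE
    set S : ℤ := ∑ j, (a j : ℤ) * M i j with hS
    have hSeq : ∑ j, (a j : ℤ) * ArSurf.inter R (Over.mk p) (L i) (Γ j) = S :=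
      Finset.sum_congr rfl (fun j _ => by rw [h0 i j])
    rw [hSeq] at hE
    have hwdvd : (Models.wdeg R (Over.mk p) (Γ i) : ℤ) ∣ S :=
      Finset.dvd_sum (fun j _ => Dvd.dvd.mul_left (wdeg_dvd_inter hp (Γ i) (L j)) _)
    have hwle : (Models.wdeg R (Over.mk p) (Γ i) : ℤ) ≤ S := Int.le_of_dvd hpos hwdvd
    have hh1nn : (0 : ℤ) ≤ (Models.h1 R (Over.mk p) (Γ i) : ℤ) := Int.natCast_nonneg _
    refine ⟨by omega, fun ham hne => ?_⟩
    -- strictness at the last step, by minimality
    by_contra hnot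
    have hS' : S = (Models.wdeg R (Over.mk p) (Γ i) : ℤ) ∧ Models.h1 R (Over.mk p) (Γ i) = 0 := by
      constructor <;> omega
    have hSm : S = - M i i := by
      have h5 : ∀ j, (a j : ℤ) = (m j : ℤ) - (if j = i then 1 else 0) := by
        intro j
        have := congrFun ham j
        rw [hvec j] at this
        split_ifs at this ⊢ with h <;> omega
      rw [hS, Finset.sum_congr rfl (fun j _ => by rw [h5 j, sub_mul]), Finset.sum_sub_distrib,
        h2 i]
      simp
    have := (isMinimalModel_iff f p hX Γ hΓ L hL).mp hmin i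
    apply this
    refine ⟨hS'.2, ?_⟩
    change M i i = _
    omega
  obtain ⟨s, c, -, hl, -, hFc⟩ := exists_chain F M m hmpos hg h1 h2 h3 hbase hstep
  have hFm : F m := hl ▸ hFc (Fin.last s)
  obtain ⟨-, -, hle, hlt⟩ := hFm
  rw [hred, hsp]
  refine ⟨hle, fun hne => hlt rfl (fun h => hne ?_)⟩
  rw [h]

end main

end Groth.Agent.H5.ArS
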