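import Mathlib
import Groth.Agent.Lib.Helper5.ArS.H1Red
import Groth.Agent.Lib.Helper5.ArS.RatPt

/-!
# `h¹` of the reduced closed fibre is smaller than the genus (S15104)
-/

set_option autoImplicit false
set_option linter.style.haveILetI false
universe u
open CategoryTheory CategoryTheory.Limits AlgebraicGeometry TopologicalSpace Opposite

namespace Groth.Agent.H5.ArS

open Groth.Agent.LD Groth.Agent.LD.QC

variable {R : Type u} [CommRing R] [IsDomain R] [IsDiscreteValuationRing R]
  {X : Over (Spec (CommRingCat.of R))}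

section alg

/-- a finite ring map from a discrete valuation ring with algebraically closed residue field to a
field is surjective. -/
theorem surjective_of_finite_of_isField (hk : IsAlgClosed (IsLocalRing.ResidueField R))
    {A : Type u} [CommRing A] (hA : IsField A) (φ : R →+* A) (hφ : φ.Finite) :
    Function.Surjective φ := by
  haveI : IsDomain A := hA.isDomain
  letI : Algebra R A := φ.toAlgebra
  haveI : Module.Finite R A := hφ
  haveI : Algebra.IsIntegral R A := Algebra.IsIntegral.of_finite R A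
  have hprime : (RingHom.ker φ).IsPrime := RingHom.ker_isPrime φ
  have hker : RingHom.ker φ = IsLocalRing.maximalIdeal R := by
    by_cases hbot : RingHom.ker φ = ⊥
    · exfalso
      have hinj : Function.Injective (algebraMap R A) := (RingHom.injective_iff_ker_eq_bot φ).mpr hbot
      exact IsDiscreteValuationRing.not_isField R (isField_of_isIntegral_of_isField hinj hA)
    · exact IsLocalRing.eq_maximalIdeal (Ring.DimensionLEOne.maximalOfPrime hbot hprime)
  let ψ : IsLocalRing.ResidueField R →+* A :=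
    Ideal.Quotient.lift (IsLocalRing.maximalIdeal R) φ (fun a ha => by
      rw [← hker] at ha
      exact ha)
  have hψ : ψ.comp (IsLocalRing.residue R) = φ := Ideal.Quotient.lift_comp_mk _ _ _
  have hψfin : ψ.Finite := RingHom.Finite.of_comp_finite (f := IsLocalRing.residue R) (by
    rw [hψ]; exact hφ)
  letI : Algebra (IsLocalRing.ResidueField R) A := ψ.toAlgebra
  haveI : Module.Finite (IsLocalRing.ResidueField R) A := hψfin
  haveI : Algebra.IsIntegral (IsLocalRing.ResidueField R) A :=
    Algebra.IsIntegral.of_finite (IsLocalRing.ResidueField R) A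
  have hbij : Function.Bijective (algebraMap (IsLocalRing.ResidueField R) A) :=
    IsAlgClosed.algebraMap_bijective_of_isIntegral
  intro a
  obtain ⟨c, hc⟩ := hbij.2 a
  obtain ⟨r, rfl⟩ := IsLocalRing.residue_surjective c
  refine ⟨r, ?_⟩
  rw [← hc, ← hψ]
  rfl

end alg

section len1

/-- over an algebraically closed residue field, a closed subscheme whose ring of global functions
is a field has `H⁰` of `R`-length one. -/
theorem lengthH_quotMod_eq_one_of_isAlgClosed (hk : IsAlgClosed (IsLocalRing.ResidueField R))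
    (hp : IsProper X.hom) (J : X.left.IdealSheafData)
    (hfield : IsField Γ(J.subscheme, ⊤)) : Models.lengthH R X (ClSub.quotMod J) 0 = 1 := by
  haveI : IsProper X.hom := hp
  haveI : IsProper (J.subschemeι ≫ X.hom) := inferInstance
  have hs : Function.Surjective (Coh.toGlobal (J.subschemeι ≫ X.hom)) :=
    surjective_of_finite_of_isField hk hfield _ (finite_toGlobal J.subscheme (J.subschemeι ≫ X.hom))
  letI oZ : J.subscheme.Over (Spec (CommRingCat.of R)) := ⟨J.subschemeι ≫ X.hom⟩
  haveI : J.subschemeι.IsOver (Spec (CommRingCat.of R)) := ⟨rfl⟩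
  let e1 := CL.HHpushEquiv J.subschemeι R (Coh.structureModule J.subscheme) 0
  letI algA : Algebra R Γ(J.subscheme, ⊤) :=
    (Coh.toGlobal (J.subscheme ↘ Spec (CommRingCat.of R))).toAlgebra
  let e2 : Coh.HH J.subscheme (Coh.structureModule J.subscheme) 0 ≃ₗ[R] Γ(J.subscheme, ⊤) :=
    { CL.HH0Equiv (Coh.structureModule J.subscheme) with
      map_smul' := fun c x =>
        CL.HH0Equiv_smul (Coh.structureModule J.subscheme)
          (Coh.toGlobal (J.subscheme ↘ Spec (CommRingCat.of R)) c) x }
  have hlen : Module.length R Γ(J.subscheme, ⊤) = 1 := by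
    letI : Field Γ(J.subscheme, ⊤) := hfield.toField
    have hs' : Function.Surjective (algebraMap R Γ(J.subscheme, ⊤)) := hs
    rw [Module.length_eq_of_surjective hs']
    exact Module.length_eq_one _ _
  unfold Models.lengthH
  rw [(e1.symm ≪≫ₗ e2).length_eq, hlen]
  rfl

end len1

section main

variable {C Y : Scheme.{u}} (f : C ⟶ Spec (CommRingCat.of (FractionRing R)))
  (p : Y ⟶ Spec (CommRingCat.of R)) (hX : Models.IsRegularProperModel R Y p C f)
  (hH0 : IsIso f.appTop) {n : ℕ} (Γ : Fin n → ArSurf.VertComp R (Over.mk p))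
  (hΓ : Models.IsComponentList R (Over.mk p) Γ)
include hX hH0 hΓ

/-- variant of **S3345** with strictness stated through a multiplicity `≥ 2`. -/
theorem h1_redFibre_lt_h1_fibre_of_mult (hmin : Models.IsMinimalModel R Y p C f)
    (hgcd : Models.multGcd R (Over.mk p) Γ = 1)
    (hH0k : Models.lengthH R (Over.mk p)
      (ClSub.quotMod (Models.redFibreIdeal R (Over.mk p))) 0 = 1)
    (hnr : ∃ i, 2 ≤ Models.mult R (Over.mk p) (Γ i)) :
    Models.lengthH R (Over.mk p) (ClSub.quotMod (Models.redFibreIdeal R (Over.mk p))) 1 <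
        Models.lengthH R (Over.mk p)
          (ClSub.quotMod (Models.specialFibreIdeal R (Over.mk p))) 1 := by
  classical
  have hp : IsProper (Over.mk p).hom := hX.2.1
  haveI : Flat (Over.mk p).hom := hX.1.1
  haveI : LocallyOfFiniteType p := hX.1.2.1
  haveI : IsLocallyNoetherian (Over.mk p).left := LocallyOfFiniteType.isLocallyNoetherian p
  have hreg := hX.2.2
  set k := IsLocalRing.ResidueField R with hk
  have hI : ∀ l, BlowUp.IsEffCartierIdeal (Γ l).ι.ker := fun l => isEffCartierIdeal_ker hreg Γ hΓ l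
  have hex : ∀ l, ∃ L : Y.Modules, ClSub.IsInverseOf L (ClSub.idealMod (Γ l).ι.ker) := by
    intro l
    obtain ⟨L', -, ⟨e⟩⟩ := Groth.Agent.H5.Glue.exists_inverse (ClSub.idealMod (Γ l).ι.ker)
      ((isInvertible_idealMod_iff _).mpr (hI l))
    exact ⟨L', ⟨tensorCommGen _ _ ≪≫ e⟩⟩
  choose L hL using hex
  have hconn := isConnected_specialFibreSet_of_model f p hX hH0
  set M : Fin n → Fin n → ℤ := fun i j => ArSurf.inter R (Over.mk p) (L j) (Γ i) with hM
  have h0 : ∀ i j, M i j = M j i := by
    intro i j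
    by_cases hij : i = j
    · subst hij; rfl
    · exact (inter_offdiag hp Γ hΓ L hL i j hij).1
  have h1 : ∀ i j, i ≠ j → 0 ≤ M i j := fun i j hij => (inter_offdiag hp Γ hΓ L hL i j hij).2.1
  have h3 : ∀ S : Finset (Fin n), S.Nonempty → (∀ i ∈ S, ∀ j ∉ S, M i j = 0) →
      S = Finset.univ :=
    fun S hS h => indecomposable_of_isPreconnected hp Γ hΓ L hL hconn.isPreconnected S hS h
  set m : Fin n → ℕ := fun i => Models.mult R (Over.mk p) (Γ i) with hm
  have hmpos : ∀ i, 0 < m i := fun i => mult_pos hreg Γ hΓ i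
  have hg : Finset.univ.gcd m = 1 := hgcd
  have h2 : ∀ i, ∑ j, (m j : ℤ) * M i j = 0 :=
    fun i => sum_mult_inter_eq_zero hp hreg Γ hΓ L hL (Γ i)
  let Z : (Fin n → ℕ) → (Over.mk p).left.IdealSheafData := fun a => ∏ j, (Γ j).ι.ker ^ a j
  let hh1 : (Fin n → ℕ) → ℕ := fun a => Models.lengthH R (Over.mk p) (ClSub.quotMod (Z a)) 1
  set F : (Fin n → ℕ) → Prop := fun a =>
    (∀ j, a j ≤ m j) ∧ lenΓ (X := Over.mk p) (Z a) = 1 ∧ hh1 (fun _ => 1) ≤ hh1 a ∧
      (a = m → a ≠ (fun _ => 1) → hh1 (fun _ => 1) < hh1 a) with hF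
  have hred : Models.redFibreIdeal R (Over.mk p) = Z (fun _ => 1) := by
    rw [redFibreIdeal_eq_prod hreg Γ hΓ]
    exact Finset.prod_congr rfl (fun j _ => (pow_one _).symm)
  have hsp : Models.specialFibreIdeal R (Over.mk p) = Z m := specialFibreIdeal_eq_prod hreg Γ hΓ
  have hbase : F fun _ => 1 := by
    refine ⟨fun j => hmpos j, ?_, le_rfl, fun _ h => absurd rfl h⟩
    rw [hred, lengthH_zero_eq_toNat] at hH0k
    have h4 := (ENat.toNat_eq_iff (by norm_num : (1 : ℕ) ≠ 0)).mp hH0k
    exact_mod_cast h4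
  have hstep : ∀ (a : Fin n → ℕ) (i : Fin n), (∀ j, 1 ≤ a j) → a i < m i → F a →
      0 < ∑ j, (a j : ℤ) * M i j → F (a + Pi.single i 1) := by
    rintro a i ha1 hai ⟨hale, hlen, hmono, -⟩ hpos
    haveI : IsProper ((Γ i).curve.left ↘ Spec (CommRingCat.of k)) := isProper_curve_hom hp (Γ i)
    obtain ⟨hDc, hdeg⟩ := pdeg_idealMod_prod k (Γ i).ι (dim_curve_le (Γ i)) Finset.univ
      (fun j => (Γ j).ι.ker) hI a
    set D : (Over.mk p).left.IdealSheafData := Z a with hD
    have hDinv : PicF.IsInvertible (ClSub.idealMod D) := (isInvertible_idealMod_iff D).mpr hDc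
    have hD'eq : Z (a + Pi.single i 1) = (Γ i).ι.ker * D := by
      change (∏ j, (Γ j).ι.ker ^ ((a + Pi.single i 1 : Fin n → ℕ) j)) =
        (Γ i).ι.ker * ∏ j, (Γ j).ι.ker ^ a j
      rw [mul_comm]
      have h1' : ∀ j : Fin n, (Γ j).ι.ker ^ ((a + Pi.single i 1 : Fin n → ℕ) j) =
          (Γ j).ι.ker ^ a j * (if j = i then (Γ j).ι.ker else 1) := by
        intro j
        rw [Pi.add_apply, pow_add, Pi.single_apply]
        split_ifs <;> simp
      rw [Finset.prod_congr rfl (fun j _ => h1' j), Finset.prod_mul_distrib,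
        Finset.prod_ite_eq' Finset.univ i (fun j => (Γ j).ι.ker)]
      simp
    have hle : (Γ i).ι.ker * D ≤ D := by
      calc (Γ i).ι.ker * D ≤ 1 * D := mul_le_mul_left (show (Γ i).ι.ker ≤ 1 from le_top) D
        _ = D := one_mul D
    have hinter : ∀ j, pdeg k (Γ i).ι (ClSub.idealMod (Γ j).ι.ker) = - M i j := by
      intro j
      change _ = - ArSurf.inter R (Over.mk p) (L j) (Γ i)
      rw [inter_eq_neg_pdeg hp (Γ i) (Γ j).ι.ker (hI j) (L j) (hL j), neg_neg]
    have hdegneg : pdeg k (Γ i).ι (ClSub.idealMod D) < 0 := by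
      rw [hdeg]
      simp only [hinter]
      have : ∑ j, (a j : ℤ) * -M i j = -∑ j, (a j : ℤ) * M i j := by
        rw [← Finset.sum_neg_distrib]
        exact Finset.sum_congr rfl (fun j _ => by ring)
      rw [this]
      omega
    have hinj := injective_inclusion_appTop hp (Γ i) D hDinv hle hdegneg
    have hale' : ∀ j, (a + Pi.single i 1 : Fin n → ℕ) j ≤ m j := by
      intro j
      simp only [Pi.add_apply, Pi.single_apply]
      split_ifs with h
      · subst h; omega
      · have := hale j; omega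
    -- `h⁰ = 1`
    have hlen' : lenΓ (X := Over.mk p) (Z (a + Pi.single i 1)) = 1 := by
      rw [hD'eq]
      refine le_antisymm ?_ ?_
      · rw [← hlen]
        exact lenΓ_le_of_injective hle hinj
      · rw [ENat.one_le_iff_ne_zero]
        refine lenΓ_ne_zero_of_le hle ?_
        rw [hlen]
        exact one_ne_zero
    refine ⟨hale', hlen', ?_⟩
    -- the Euler characteristic step
    have hvec : ∀ j, (a + Pi.single i 1 : Fin n → ℕ) j = a j + if j = i then 1 else 0 := by
      intro j
      rw [Pi.add_apply, Pi.single_apply]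
    have hZ' : Z (a + Pi.single i 1) = ∏ j, (Γ j).ι.ker ^ (a j + if j = i then 1 else 0) :=
      Finset.prod_congr rfl (fun j _ => by rw [hvec j])
    have hE := euler_add_component hp hreg Γ hΓ L hL a i (fun j => by
      rw [← hvec j]; exact hale' j)
    rw [← hZ'] at hE
    have hA0 : Models.lengthH R (Over.mk p) (ClSub.quotMod (Z a)) 0 = 1 := by
      rw [lengthH_zero_eq_toNat, hlen]; rfl
    have hB0 : Models.lengthH R (Over.mk p) (ClSub.quotMod (Z (a + Pi.single i 1))) 0 = 1 := by
      rw [lengthH_zero_eq_toNat, hlen']; rfl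
    change ((Models.lengthH R (Over.mk p) (ClSub.quotMod (Z (a + Pi.single i 1))) 0 : ℤ) -
        (hh1 (a + Pi.single i 1) : ℤ)) -
      ((Models.lengthH R (Over.mk p) (ClSub.quotMod (Z a)) 0 : ℤ) - (hh1 a : ℤ)) = _ at hE
    rw [hA0, hB0] at hE
    set S : ℤ := ∑ j, (a j : ℤ) * M i j with hS
    have hSeq : ∑ j, (a j : ℤ) * ArSurf.inter R (Over.mk p) (L i) (Γ j) = S :=
      Finset.sum_congr rfl (fun j _ => by rw [h0 i j])
    rw [hSeq] at hE
    have hwdvd : (Models.wdeg R (Over.mk p) (Γ i) : ℤ) ∣ S :=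
      Finset.dvd_sum (fun j _ => Dvd.dvd.mul_left (wdeg_dvd_inter hp (Γ i) (L j)) _)
    have hwle : (Models.wdeg R (Over.mk p) (Γ i) : ℤ) ≤ S := Int.le_of_dvd hpos hwdvd
    have hh1nn : (0 : ℤ) ≤ (Models.h1 R (Over.mk p) (Γ i) : ℤ) := Int.natCast_nonneg _
    refine ⟨by omega, fun ham hne => ?_⟩
    -- strictness at the last step, by minimality
    by_contra hnot
    have hS' : S = (Models.wdeg R (Over.mk p) (Γ i) : ℤ) ∧ Models.h1 R (Over.mk p) (Γ i) = 0 := by
      constructor <;> omega
    have hSm : S = - M i i := by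
      have h5 : ∀ j, (a j : ℤ) = (m j : ℤ) - (if j = i then 1 else 0) := by
        intro j
        have := congrFun ham j
        rw [hvec j] at this
        split_ifs at this ⊢ with h <;> omega
      rw [hS, Finset.sum_congr rfl (fun j _ => by rw [h5 j, sub_mul]), Finset.sum_sub_distrib,
        h2 i]
      simp
    have := (isMinimalModel_iff f p hX Γ hΓ L hL).mp hmin i
    apply this
    refine ⟨hS'.2, ?_⟩
    change M i i = _
    omega
  obtain ⟨s, c, -, hl, -, hFc⟩ := exists_chain F M m hmpos hg h1 h2 h3 hbase hstep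
  have hFm : F m := hl ▸ hFc (Fin.last s)
  obtain ⟨-, -, hle, hlt⟩ := hFm
  rw [hred, hsp]
  refine hlt rfl (fun h => ?_)
  obtain ⟨i, hi⟩ := hnr
  have h5 := congrFun h i
  change Models.mult R (Over.mk p) (Γ i) = 1 at h5
  omega

end main

end Groth.Agent.H5.ArS
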