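import Mathlib
import Groth.Agent.Lib.Helper5.ArS.H1Red2
import Groth.Agent.Lib.Helper5.ArS.FibConn
import Groth.Agent.Lib.Lead.FF.H0Const

/-!
# `h¹((X_k)_red) < g` for a minimal model with a non-reduced closed fibre (S15104)
-/

set_option autoImplicit false
set_option linter.style.haveILetI false
universe u
open CategoryTheory CategoryTheory.Limits AlgebraicGeometry TopologicalSpace Opposite

namespace Groth.Agent.H5.ArS

open Groth.Agent.LD Groth.Agent.LD.QC

section h0

/-- `dim_κ H⁰(E, O_E) = 1` means `κ → Γ(E, O_E)` is an isomorphism. -/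
theorem isIso_appTop_of_finrank_eq_one (κ : Type u) [Field κ] (E : Scheme.{u})
    [E.Over (Spec (CommRingCat.of κ))]
    (h : Module.finrank κ (Coh.HH E (Coh.structureModule E) 0) = 1) :
    IsIso (E ↘ Spec (CommRingCat.of κ)).appTop := by
  rw [FF.finrank_HH0_eq] at h
  letI : Algebra κ Γ(E, ⊤) := (Coh.toGlobal (E ↘ Spec (CommRingCat.of κ))).toAlgebra
  haveI : Nontrivial Γ(E, ⊤) := Module.nontrivial_of_finrank_pos (R := κ) (by rw [h]; exact one_pos)
  have hsurj : Function.Surjective (Coh.toGlobal (E ↘ Spec (CommRingCat.of κ))) := by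
    intro a
    obtain ⟨c, hc⟩ := (finrank_eq_one_iff_of_nonzero' (1 : Γ(E, ⊤)) one_ne_zero).mp h a
    refine ⟨c, ?_⟩
    rw [← hc, Algebra.smul_def, mul_one]
    rfl
  haveI : Nontrivial (Coh.Γtop E) := ‹Nontrivial Γ(E, ⊤)›
  have hinj : Function.Injective (Coh.toGlobal (E ↘ Spec (CommRingCat.of κ))) :=
    (Coh.toGlobal (E ↘ Spec (CommRingCat.of κ))).injective
  rw [ConcreteCategory.isIso_iff_bijective]
  have h1 : Function.Bijective ((Scheme.ΓSpecIso (CommRingCat.of κ)).hom.hom) :=
    ConcreteCategory.bijective_of_isIso _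
  have h2 : ((E ↘ Spec (CommRingCat.of κ)).appTop).hom =
      (Coh.toGlobal (E ↘ Spec (CommRingCat.of κ))).comp
        (Scheme.ΓSpecIso (CommRingCat.of κ)).hom.hom := by
    refine RingHom.ext fun x => ?_
    have h4 : (Scheme.ΓSpecIso (CommRingCat.of κ)).inv.hom
        ((Scheme.ΓSpecIso (CommRingCat.of κ)).hom.hom x) = x := by
      change ((Scheme.ΓSpecIso (CommRingCat.of κ)).hom ≫
        (Scheme.ΓSpecIso (CommRingCat.of κ)).inv) x = x
      rw [Iso.hom_inv_id]
      rfl
    change _ = ((E ↘ Spec (CommRingCat.of κ)).appTop).hom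
      ((Scheme.ΓSpecIso (CommRingCat.of κ)).inv.hom
        ((Scheme.ΓSpecIso (CommRingCat.of κ)).hom.hom x))
    rw [h4]
  change Function.Bijective ((E ↘ Spec (CommRingCat.of κ)).appTop).hom
  rw [h2]
  exact ⟨hinj.comp h1.1, hsurj.comp h1.2⟩

end h0

section main

variable {R : Type u} [CommRing R] [IsDomain R] [IsDiscreteValuationRing R]

/-- **S15104**. -/
theorem lengthH_one_redFibre_lt_genus (hk : IsAlgClosed (IsLocalRing.ResidueField R))
    (C : Scheme.{u}) (fC : C ⟶ (Spec (CommRingCat.of (FractionRing R))))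
    (hC0 : Models.hRank (FractionRing R) C fC (Coh.structureModule C) 0 = 1)
    (X : Scheme.{u}) (p : X ⟶ (Spec (CommRingCat.of R))) (hX : Models.IsMinimalModel R X p C fC)
    {n : ℕ} (Γ : Fin n → ArSurf.VertComp R (Over.mk p)) (hΓ : Models.IsComponentList R (Over.mk p) Γ)
    (hgcd : Models.multGcd R (Over.mk p) Γ = 1) (hnr : ∃ i, 2 ≤ Models.mult R (Over.mk p) (Γ i)) :
    Models.lengthH R (Over.mk p) (ClSub.quotMod (Models.redFibreIdeal R (Over.mk p))) 1 <
      Models.curveGenus (FractionRing R) C fC := by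
  classical
  have hXr : Models.IsRegularProperModel R X p C fC := hX.1
  have hH0 : IsIso fC.appTop := by
    letI : C.Over (Spec (CommRingCat.of (FractionRing R))) := ⟨fC⟩
    exact isIso_appTop_of_finrank_eq_one (FractionRing R) C hC0
  have hp : IsProper (Over.mk p).hom := hXr.2.1
  haveI : IsProper p := hXr.2.1
  haveI : Flat (Over.mk p).hom := hXr.1.1
  haveI : LocallyOfFiniteType p := hXr.1.2.1
  haveI : IsLocallyNoetherian (Over.mk p).left := LocallyOfFiniteType.isLocallyNoetherian p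
  have hreg := hXr.2.2
  have hconn := isConnected_specialFibreSet_of_model fC p hXr hH0
  obtain ⟨t, c, h0, hl, -, hF⟩ := exists_chain_fields (X := Over.mk p) hp hreg Γ hΓ hconn
  have hprod := specialFibreIdeal_eq_prod hreg Γ hΓ
  have hredfield : IsField Γ((Models.redFibreIdeal R (Over.mk p)).subscheme, ⊤) := by
    have hred : Models.redFibreIdeal R (Over.mk p) = ∏ j, (Γ j).ι.ker ^ (c 0 j) := by
      rw [redFibreIdeal_eq_prod hreg Γ hΓ, h0]
      exact Finset.prod_congr rfl (fun j _ => (pow_one _).symm)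
    rw [hred]
    exact hF 0
  have hspfield : IsField Γ((Models.specialFibreIdeal R (Over.mk p)).subscheme, ⊤) := by
    have hc : c (Fin.last t) = fun j => Models.mult R (Over.mk p) (Γ j) := by
      rw [hl]
      funext j
      rw [hgcd, Nat.div_one]
    rw [hprod]
    have h := hF (Fin.last t)
    rw [hc] at h
    exact h
  have hH0k := lengthH_quotMod_eq_one_of_isAlgClosed hk hp _ hredfield
  have hh0 := lengthH_quotMod_eq_one_of_isAlgClosed hk hp _ hspfield
  have hI : ∀ j, BlowUp.IsEffCartierIdeal (Γ j).ι.ker :=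
    fun j => isEffCartierIdeal_ker hreg Γ hΓ j
  have hex : ∀ j, ∃ L : X.Modules, ClSub.IsInverseOf L (ClSub.idealMod (Γ j).ι.ker) := by
    intro j
    obtain ⟨L', -, ⟨e⟩⟩ := Groth.Agent.H5.Glue.exists_inverse (ClSub.idealMod (Γ j).ι.ker)
      ((isInvertible_idealMod_iff _).mpr (hI j))
    exact ⟨L', ⟨tensorCommGen _ _ ≪≫ e⟩⟩
  choose L hL using hex
  have hchi := one_sub_genus_eq_of_proportional fC p hXr hH0 Γ hΓ L hL
    (fun j => Models.mult R (Over.mk p) (Γ j)) 1 (fun j => Nat.one_mul _)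
  rw [← hprod, hh0] at hchi
  have hlt := h1_redFibre_lt_h1_fibre_of_mult fC p hXr hH0 Γ hΓ hX hgcd hH0k hnr
  push_cast at hchi
  omega

end main

end Groth.Agent.H5.ArS
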