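import Mathlib
import Groth.Agent.Lib.Helper5.ArS.ChainGeo

/-!
# The fundamental divisor of a connected configuration has a field of global functions (S7942)
-/

set_option autoImplicit false
set_option linter.style.haveILetI false
universe u
open CategoryTheory CategoryTheory.Limits AlgebraicGeometry TopologicalSpace Opposite

namespace Groth.Agent.H5.ArS

open Groth.Agent.LD Groth.Agent.LD.QC Groth.Agent.H5.LinEq Groth.Agent.H5.DegC

section comb

variable {n : ℕ} (F : (Fin n → ℕ) → Prop) (M : Fin n → Fin n → ℤ)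

/-- **Laufer's computation sequence**: starting from a single vertex and adding a vertex `i`
whenever `(M a) i > 0` reaches the fundamental cycle. -/
theorem laufer (hn : 0 < n) (h0 : ∀ i j, M i j = M j i) (h1 : ∀ i j, i ≠ j → 0 ≤ M i j)
    (h3 : ∀ S : Finset (Fin n), S.Nonempty → (∀ i ∈ S, ∀ j ∉ S, M i j = 0) → S = Finset.univ)
    (z : Fin n → ℕ) (hz1 : ∀ i, 1 ≤ z i) (hz : ∀ i, ∑ j, (z j : ℤ) * M i j ≤ 0)
    (hmin : ∀ z' : Fin n → ℕ, (∀ i, 1 ≤ z' i) → (∀ i, ∑ j, (z' j : ℤ) * M i j ≤ 0) →
      ∀ i, z i ≤ z' i)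
    (hsingle : ∀ i, F (Pi.single i 1))
    (hstep : ∀ (a : Fin n → ℕ) (i : Fin n), F a → 0 < ∑ j, (a j : ℤ) * M i j →
      F (a + Pi.single i 1)) : F z := by
  classical
  have key : ∀ (N : ℕ) (a : Fin n → ℕ), (∀ i, a i ≤ z i) → (∃ i, 0 < a i) → F a →
      ∑ i, (z i - a i) = N → F z := by
    intro N
    induction N using Nat.strong_induction_on with
    | _ N ih =>
      intro a hale hane hFa hsum
      by_cases hpos : ∃ i, 0 < ∑ j, (a j : ℤ) * M i j
      · obtain ⟨i, hi⟩ := hpos
        -- the coefficient of `i` is not yet maximal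
        have hai : a i < z i := by
          by_contra hcon
          have haz : a i = z i := le_antisymm (hale i) (not_lt.mp hcon)
          have hdiff : 0 ≤ ∑ j, ((z j : ℤ) - (a j : ℤ)) * M i j := by
            apply Finset.sum_nonneg
            intro j _
            by_cases hji : j = i
            · subst hji
              rw [haz, sub_self, zero_mul]
            · have : (0 : ℤ) ≤ (z j : ℤ) - (a j : ℤ) := by
                have := hale j
                omega
              exact mul_nonneg this (h1 i j (Ne.symm hji))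
          have hsplit : ∑ j, ((z j : ℤ) - (a j : ℤ)) * M i j =
              ∑ j, (z j : ℤ) * M i j - ∑ j, (a j : ℤ) * M i j := by
            rw [← Finset.sum_sub_distrib]
            exact Finset.sum_congr rfl (fun j _ => by ring)
          have := hz i
          omega
        have hF' := hstep a i hFa hi
        have hdecomp : ∑ j, (z j - a j) = ∑ j, (z j - (a + Pi.single i 1 : Fin n → ℕ) j) + 1 := by
          have h1' : ∀ j, z j - a j = (z j - (a + Pi.single i 1 : Fin n → ℕ) j) +
              (if j = i then 1 else 0) := by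
            intro j
            simp only [Pi.add_apply, Pi.single_apply]
            split_ifs with h
            · subst h
              omega
            · omega
          rw [Finset.sum_congr rfl (fun j _ => h1' j), Finset.sum_add_distrib,
            Finset.sum_ite_eq' Finset.univ i (fun _ => 1)]
          simp
        refine ih (∑ j, (z j - (a + Pi.single i 1 : Fin n → ℕ) j)) (by omega)
          (a + Pi.single i 1) (fun j => ?_) ?_ hF' rfl
        · simp only [Pi.add_apply, Pi.single_apply]
          split_ifs with h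
          · subst h
            omega
          · have := hale j
            omega
        · obtain ⟨l, hl⟩ := hane
          refine ⟨l, ?_⟩
          simp only [Pi.add_apply]
          omega
      · push Not at hpos
        -- the support is everything
        set S : Finset (Fin n) := Finset.univ.filter (fun i => 0 < a i) with hS
        have hSne : S.Nonempty := by
          obtain ⟨l, hl⟩ := hane
          exact ⟨l, by rw [hS, Finset.mem_filter]; exact ⟨Finset.mem_univ _, hl⟩⟩
        have hSuniv : S = Finset.univ := by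
          by_contra hne
          have hex : ∃ i ∈ S, ∃ j, j ∉ S ∧ M i j ≠ 0 := by
            by_contra hcon
            push Not at hcon
            exact hne (h3 S hSne hcon)
          obtain ⟨i, hiS, j, hjS, hMne⟩ := hex
          have hij : i ≠ j := fun h => hjS (h ▸ hiS)
          have hMpos : 0 < M j i := by
            rw [← h0 i j]
            exact lt_of_le_of_ne (h1 i j hij) (Ne.symm hMne)
          have haj : a j = 0 := by
            by_contra h
            exact hjS (by rw [hS, Finset.mem_filter]; exact ⟨Finset.mem_univ _, Nat.pos_of_ne_zero h⟩)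
          have hai : 0 < a i := by
            rw [hS, Finset.mem_filter] at hiS
            exact hiS.2
          have hnn : ∀ l ∈ Finset.univ, 0 ≤ (a l : ℤ) * M j l := by
            intro l _
            by_cases hlj : l = j
            · subst hlj
              rw [haj]
              simp
            · exact mul_nonneg (Int.natCast_nonneg _) (h1 j l (Ne.symm hlj))
          have hlt : 0 < ∑ l, (a l : ℤ) * M j l := by
            refine lt_of_lt_of_le ?_ (Finset.single_le_sum hnn (Finset.mem_univ i))
            exact mul_pos (by exact_mod_cast hai) hMpos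
          have := hpos j
          omega
        have ha1 : ∀ i, 1 ≤ a i := by
          intro i
          have : i ∈ S := hSuniv ▸ Finset.mem_univ i
          rw [hS, Finset.mem_filter] at this
          exact this.2
        have hza := hmin a ha1 hpos
        have : a = z := funext fun i => le_antisymm (hale i) (hza i)
        rw [← this]
        exact hFa
  refine key _ (Pi.single ⟨0, hn⟩ 1) (fun i => ?_) ⟨⟨0, hn⟩, by simp⟩ (hsingle _) rfl
  rw [Pi.single_apply]
  split_ifs
  · exact hz1 i
  · exact Nat.zero_le _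

end comb

section geo

variable {R : Type u} [CommRing R] [IsDomain R] [IsDiscreteValuationRing R]
  {X : Over (Spec (CommRingCat.of R))} (hp : IsProper X.hom)
  {n : ℕ} (Γ : Fin n → ArSurf.VertComp R X)
include hp

/-- the divisor of a single component has a field of global functions. -/
theorem isField_single (i : Fin n) :
    IsField ↑(Γ((∏ j, (Γ j).ι.ker ^ ((Pi.single i 1 : Fin n → ℕ) j)).subscheme, ⊤)) := by
  classical
  have hprod : (∏ j, (Γ j).ι.ker ^ ((Pi.single i 1 : Fin n → ℕ) j)) = (Γ i).ι.ker := by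
    have h1 : ∀ j : Fin n, (Γ j).ι.ker ^ ((Pi.single i 1 : Fin n → ℕ) j) =
        (if j = i then (Γ j).ι.ker else 1) := by
      intro j
      rw [Pi.single_apply]
      split_ifs <;> simp
    rw [Finset.prod_congr rfl (fun j _ => h1 j),
      Finset.prod_ite_eq' Finset.univ i (fun j => (Γ j).ι.ker)]
    simp
  rw [hprod]
  exact isField_ker_subscheme hp (Γ i)

variable (L : Fin n → X.left.Modules)
  (hL : ∀ j, ClSub.IsInverseOf (L j) (ClSub.idealMod (Γ j).ι.ker))
include hL

/-- adding a component of positive intersection number preserves the property that the global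
functions form a field. -/
theorem isField_add_component (a : Fin n → ℕ) (i : Fin n)
    (hFa : IsField ↑(Γ((∏ j, (Γ j).ι.ker ^ a j).subscheme, ⊤)))
    (hpos : 0 < ∑ j, (a j : ℤ) * ArSurf.inter R X (L j) (Γ i)) :
    IsField ↑(Γ((∏ j, (Γ j).ι.ker ^ ((a + Pi.single i 1 : Fin n → ℕ) j)).subscheme, ⊤)) := by
  classical
  set k := IsLocalRing.ResidueField R with hk
  have hI : ∀ j, BlowUp.IsEffCartierIdeal (Γ j).ι.ker := fun j => (inverse_facts _ _ (hL j)).1
  haveI : IsProper ((Γ i).curve.left ↘ Spec (CommRingCat.of k)) := isProper_curve_hom hp (Γ i)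
  obtain ⟨hDc, hdeg⟩ := pdeg_idealMod_prod k (Γ i).ι (dim_curve_le (Γ i)) Finset.univ
    (fun j => (Γ j).ι.ker) hI a
  set D : X.left.IdealSheafData := ∏ j, (Γ j).ι.ker ^ a j with hD
  have hDinv : PicF.IsInvertible (ClSub.idealMod D) := (isInvertible_idealMod_iff D).mpr hDc
  have hD'eq : (∏ j, (Γ j).ι.ker ^ ((a + Pi.single i 1 : Fin n → ℕ) j)) = (Γ i).ι.ker * D := by
    rw [hD, mul_comm]
    have h1 : ∀ j : Fin n, (Γ j).ι.ker ^ ((a + Pi.single i 1 : Fin n → ℕ) j) =
        (Γ j).ι.ker ^ a j * (if j = i then (Γ j).ι.ker else 1) := by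
      intro j
      rw [Pi.add_apply, pow_add, Pi.single_apply]
      split_ifs <;> simp
    rw [Finset.prod_congr rfl (fun j _ => h1 j), Finset.prod_mul_distrib,
      Finset.prod_ite_eq' Finset.univ i (fun j => (Γ j).ι.ker)]
    simp
  have hle : (Γ i).ι.ker * D ≤ D := by
    calc (Γ i).ι.ker * D ≤ 1 * D := mul_le_mul_left (show (Γ i).ι.ker ≤ 1 from le_top) D
      _ = D := one_mul D
  have hinter : ∀ j, pdeg k (Γ i).ι (ClSub.idealMod (Γ j).ι.ker) =
      - ArSurf.inter R X (L j) (Γ i) := by
    intro j
    rw [inter_eq_neg_pdeg hp (Γ i) (Γ j).ι.ker (hI j) (L j) (hL j), neg_neg]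
  have hdegneg : pdeg k (Γ i).ι (ClSub.idealMod D) < 0 := by
    rw [hdeg]
    simp only [hinter]
    have : ∑ j, (a j : ℤ) * -ArSurf.inter R X (L j) (Γ i) =
        -∑ j, (a j : ℤ) * ArSurf.inter R X (L j) (Γ i) := by
      rw [← Finset.sum_neg_distrib]
      exact Finset.sum_congr rfl (fun j _ => by ring)
    rw [this]
    omega
  have hinj := injective_inclusion_appTop hp (Γ i) D hDinv hle hdegneg
  rw [hD'eq]
  exact isField_of_injective_inclusion hp hle hinj hFa

/-- **S7942** (general form): the fundamental divisor of a connected configuration of vertical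
prime divisors has a field of global functions. -/
theorem isField_fundamental
    (hΓ : Function.Injective fun i => Set.range ((Γ i).ι.base : (Γ i).curve.left → X.left))
    (hconn : _root_.IsConnected
      (⋃ i, Set.range ((Γ i).ι.base : (Γ i).curve.left → X.left)))
    (z : Fin n → ℕ) (hz1 : ∀ i, 1 ≤ z i)
    (hz : ∀ i, ∑ j, (z j : ℤ) * ArSurf.inter R X (L j) (Γ i) ≤ 0)
    (hmin : ∀ z' : Fin n → ℕ, (∀ i, 1 ≤ z' i) →
      (∀ i, ∑ j, (z' j : ℤ) * ArSurf.inter R X (L j) (Γ i) ≤ 0) → ∀ i, z i ≤ z' i) :
    IsField ↑(Γ((∏ j, (Γ j).ι.ker ^ z j).subscheme, ⊤)) := by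
  classical
  set M : Fin n → Fin n → ℤ := fun i j => ArSurf.inter R X (L j) (Γ i) with hM
  have hoff : ∀ i j, i ≠ j → M i j = M j i ∧ 0 ≤ M i j ∧
      (M i j = 0 ↔ Disjoint (Set.range (Γ i).ι) (Set.range (Γ j).ι)) := by
    intro i j hij
    have hne : Set.range (Γ i).ι ≠ Set.range (Γ j).ι := fun h => hij (hΓ h)
    obtain ⟨hI, -, -⟩ := inverse_facts (Γ j).ι.ker (L j) (hL j)
    have h := inter_nonneg_and_eq_zero_iff hp (Γ i) (Γ j).ι.ker hI
      (genericPoint_notMem_of_ne (Γ i) (Γ j) hne) (L j) (hL j)
    rw [support_ker_ι] at h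
    exact ⟨inter_symm hp (Γ i) (Γ j) hne (L i) (L j) (hL i) (hL j), h.1, h.2⟩
  have h0 : ∀ i j, M i j = M j i := by
    intro i j
    by_cases hij : i = j
    · subst hij; rfl
    · exact (hoff i j hij).1
  have h1 : ∀ i j, i ≠ j → 0 ≤ M i j := fun i j hij => (hoff i j hij).2.1
  obtain ⟨x, hx⟩ := hconn.nonempty
  obtain ⟨i₀, -⟩ := Set.mem_iUnion.mp hx
  have hn : 0 < n := Nat.pos_of_ne_zero (fun h => by subst h; exact i₀.elim0)
  have h3 : ∀ S : Finset (Fin n), S.Nonempty → (∀ i ∈ S, ∀ j ∉ S, M i j = 0) →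
      S = Finset.univ := by
    intro S hS h0'
    by_contra hne
    obtain ⟨j0, hj0⟩ : ∃ j, j ∉ S := by
      by_contra h
      push Not at h
      exact hne (Finset.eq_univ_iff_forall.mpr h)
    obtain ⟨i0, hi0⟩ := hS
    let t : Set X.left := ⋃ i ∈ S, Set.range (Γ i).ι
    let t' : Set X.left := ⋃ j ∈ Sᶜ, Set.range (Γ j).ι
    have hcl : ∀ i, IsClosed (Set.range (Γ i).ι) :=
      fun i => (Γ i).ι.isClosedEmbedding.isClosed_range
    have ht : IsClosed t := Set.Finite.isClosed_biUnion S.finite_toSet (fun i _ => hcl i)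
    have ht' : IsClosed t' := Set.Finite.isClosed_biUnion (Sᶜ).finite_toSet (fun i _ => hcl i)
    have hcover : (⋃ i, Set.range ((Γ i).ι.base : (Γ i).curve.left → X.left)) ⊆ t ∪ t' := by
      intro y hy
      obtain ⟨i, hyi⟩ := Set.mem_iUnion.mp hy
      by_cases hiS : i ∈ S
      · exact Or.inl (Set.mem_biUnion hiS hyi)
      · exact Or.inr (Set.mem_biUnion (Finset.mem_compl.mpr hiS) hyi)
    have hne1 : ((⋃ i, Set.range ((Γ i).ι.base : (Γ i).curve.left → X.left)) ∩ t).Nonempty :=
      ⟨(Γ i0).ι (genericPoint _), Set.mem_iUnion.mpr ⟨i0, ⟨_, rfl⟩⟩,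
        Set.mem_biUnion hi0 ⟨_, rfl⟩⟩
    have hne2 : ((⋃ i, Set.range ((Γ i).ι.base : (Γ i).curve.left → X.left)) ∩ t').Nonempty :=
      ⟨(Γ j0).ι (genericPoint _), Set.mem_iUnion.mpr ⟨j0, ⟨_, rfl⟩⟩,
        Set.mem_biUnion (Finset.mem_compl.mpr hj0) ⟨_, rfl⟩⟩
    obtain ⟨y, -, hyt, hyt'⟩ :=
      (isPreconnected_closed_iff.mp hconn.isPreconnected) t t' ht ht' hcover hne1 hne2
    obtain ⟨i, hiS, hyi⟩ := Set.mem_iUnion₂.mp hyt
    obtain ⟨j, hjS, hyj⟩ := Set.mem_iUnion₂.mp hyt'
    have hjS' : j ∉ S := Finset.mem_compl.mp hjS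
    have hij : i ≠ j := fun h => hjS' (h ▸ hiS)
    have hdisj := ((hoff i j hij).2.2).mp (h0' i hiS j hjS')
    exact (Set.disjoint_left.mp hdisj) hyi hyj
  exact laufer (fun a => IsField ↑(Γ((∏ j, (Γ j).ι.ker ^ a j).subscheme, ⊤))) M hn h0 h1 h3 z hz1
    hz hmin (fun i => isField_single hp Γ i)
    (fun a i hFa hpos => isField_add_component hp Γ L hL a i hFa hpos)

end geo

end Groth.Agent.H5.ArS
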