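import Mathlib
import Groth.Agent.Lib.Helper5.ArS.FibDec
import Groth.Agent.Lib.Helper5.ArS.FibKer
import Groth.Agent.Lib.Helper5.ArS.Symm
import Groth.Agent.Lib.Lead.QC.CartierHeight

/-!
# Vertical effective Cartier divisors on a regular model are combinations of the components
-/

set_option autoImplicit false
set_option linter.style.haveILetI false
universe u
open CategoryTheory CategoryTheory.Limits AlgebraicGeometry TopologicalSpace Opposite

namespace Groth.Agent.H5.ArS

open Groth.Agent.LD Groth.Agent.LD.QC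

section stalkIdeal

variable {Y : Scheme.{u}}

/-- the ideal of the stalk at `x` generated by an ideal sheaf. -/
noncomputable def stalkIdealAt (J : Y.IdealSheafData) (x : Y) : Ideal (Y.presheaf.stalk x) :=
  ⨆ (U : Y.affineOpens) (h : x ∈ U.1), (J.ideal U).map (Y.presheaf.germ U.1 x h).hom

theorem map_germ_eq_of_le (J : Y.IdealSheafData) (x : Y) {W U : Y.affineOpens} (hWU : W ≤ U)
    (hx : x ∈ W.1) :
    (J.ideal U).map (Y.presheaf.germ U.1 x (hWU hx)).hom =
      (J.ideal W).map (Y.presheaf.germ W.1 x hx).hom := by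
  rw [← J.map_ideal hWU, Ideal.map_map]
  congr 1
  ext a
  exact (TopCat.Presheaf.germ_res_apply Y.presheaf (homOfLE hWU) x hx a).symm

theorem stalkIdealAt_eq (J : Y.IdealSheafData) (x : Y) (V : Y.affineOpens) (hx : x ∈ V.1) :
    stalkIdealAt J x = (J.ideal V).map (Y.presheaf.germ V.1 x hx).hom := by
  apply le_antisymm
  · refine iSup₂_le (fun U hU => ?_)
    obtain ⟨W, hW, hxW, hWle⟩ := exists_isAffineOpen_mem_and_subset (x := x) (U := U.1 ⊓ V.1)
      ⟨hU, hx⟩
    have h1 := map_germ_eq_of_le J x (W := ⟨W, hW⟩) (U := U) (hWle.trans inf_le_left) hxW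
    have h2 := map_germ_eq_of_le J x (W := ⟨W, hW⟩) (U := V) (hWle.trans inf_le_right) hxW
    rw [h1, ← h2]
  · exact le_iSup₂_of_le V hx le_rfl

theorem stalkIdealAt_mul (J K : Y.IdealSheafData) (x : Y) :
    stalkIdealAt (J * K) x = stalkIdealAt J x * stalkIdealAt K x := by
  obtain ⟨V, hV, hxV, -⟩ := exists_isAffineOpen_mem_and_subset (x := x) (U := (⊤ : Y.Opens)) trivial
  rw [stalkIdealAt_eq _ x ⟨V, hV⟩ hxV, stalkIdealAt_eq _ x ⟨V, hV⟩ hxV,
    stalkIdealAt_eq _ x ⟨V, hV⟩ hxV, ← Ideal.map_mul]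
  rfl

theorem stalkIdealAt_one (x : Y) : stalkIdealAt (1 : Y.IdealSheafData) x = ⊤ := by
  obtain ⟨V, hV, hxV, -⟩ := exists_isAffineOpen_mem_and_subset (x := x) (U := (⊤ : Y.Opens)) trivial
  rw [stalkIdealAt_eq _ x ⟨V, hV⟩ hxV, Scheme.IdealSheafData.one_eq_top,
    Scheme.IdealSheafData.ideal_top]
  exact Ideal.map_top _

theorem stalkIdealAt_pow (J : Y.IdealSheafData) (x : Y) (n : ℕ) :
    stalkIdealAt (J ^ n) x = stalkIdealAt J x ^ n := by
  induction n with
  | zero => rw [pow_zero, pow_zero, stalkIdealAt_one, Ideal.one_eq_top]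
  | succ n ih => rw [pow_succ, pow_succ, stalkIdealAt_mul, ih]

theorem stalkIdealAt_prod {ι : Type*} (s : Finset ι) (J : ι → Y.IdealSheafData) (x : Y) :
    stalkIdealAt (∏ i ∈ s, J i) x = ∏ i ∈ s, stalkIdealAt (J i) x := by
  classical
  induction s using Finset.induction_on with
  | empty => rw [Finset.prod_empty, Finset.prod_empty, stalkIdealAt_one, Ideal.one_eq_top]
  | insert a s ha ih => rw [Finset.prod_insert ha, Finset.prod_insert ha, stalkIdealAt_mul, ih]

/-- away from the support, the stalk ideal is the unit ideal. -/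
theorem stalkIdealAt_eq_top_of_notMem (J : Y.IdealSheafData) (x : Y)
    (hx : x ∉ (J.support : Set Y)) : stalkIdealAt J x = ⊤ := by
  obtain ⟨V, hV, hxV, -⟩ := exists_isAffineOpen_mem_and_subset (x := x) (U := (⊤ : Y.Opens)) trivial
  rw [stalkIdealAt_eq _ x ⟨V, hV⟩ hxV]
  have h1 : x ∉ Y.zeroLocus (U := V) (J.ideal ⟨V, hV⟩) := by
    intro h
    apply hx
    rw [SetLike.mem_coe, Scheme.IdealSheafData.mem_support_iff_of_mem (U := ⟨V, hV⟩) hxV]
    exact h
  rw [Scheme.mem_zeroLocus_iff] at h1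
  push Not at h1
  obtain ⟨f, hf, hxf⟩ := h1
  have hu : IsUnit ((Y.presheaf.germ V x hxV).hom f) := (Y.mem_basicOpen f x hxV).mp hxf
  exact Ideal.eq_top_of_isUnit_mem _ (Ideal.mem_map_of_mem _ hf) hu

end stalkIdeal

variable {R : Type u} [CommRing R] [IsDomain R] [IsDiscreteValuationRing R]
  {X : Over (Spec (CommRingCat.of R))}

/-- the order of an ideal sheaf along a vertical prime divisor: the length of `O_{X,ξ}/J_ξ` at the
generic point `ξ` of the divisor. -/
noncomputable def vord (J : X.left.IdealSheafData) (Γ : ArSurf.VertComp R X) : ℕ :=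
  (Module.length (X.left.presheaf.stalk (Models.genPtOf R X Γ))
    (X.left.presheaf.stalk (Models.genPtOf R X Γ) ⧸
      stalkIdealAt J (Models.genPtOf R X Γ))).toNat

section genPt

variable (Γ : ArSurf.VertComp R X)

theorem genPtOf_mem_support : Models.genPtOf R X Γ ∈ (Γ.ι.ker.support : Set X.left) := by
  rw [support_ker_ι]
  exact ⟨_, rfl⟩

theorem eq_genPtOf_of_specializes (y : X.left) (hy : y ∈ (Γ.ι.ker.support : Set X.left))
    (h : y ⤳ Models.genPtOf R X Γ) : y = Models.genPtOf R X Γ := by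
  rw [support_ker_ι] at hy
  obtain ⟨z, rfl⟩ := hy
  have h1 : genericPoint Γ.curve.left ⤳ z := genericPoint_specializes z
  have h2 : Models.genPtOf R X Γ ⤳ Γ.ι z := h1.map Γ.ι.continuous
  exact (h.antisymm h2).eq

theorem ker_ideal_isPrime_of_mem (V : X.left.affineOpens) (hξV : Models.genPtOf R X Γ ∈ V.1) :
    ((Γ.ι.ker).ideal V).IsPrime := by
  rcases ker_ideal_top_or_prime Γ V with h | h
  · exfalso
    have h1 := genPtOf_mem_support Γ
    rw [SetLike.mem_coe, Scheme.IdealSheafData.mem_support_iff_of_mem (U := V) hξV, h,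
      Scheme.mem_zeroLocus_iff] at h1
    apply h1 1 trivial
    rw [Scheme.basicOpen_of_isUnit _ isUnit_one]
    exact hξV
  · exact h

variable [IsLocallyNoetherian X.left] (hI : BlowUp.IsEffCartierIdeal Γ.ι.ker)
include hI

theorem krullDimLE_one_stalk_genPtOf :
    Ring.KrullDimLE 1 (X.left.presheaf.stalk (Models.genPtOf R X Γ)) := by
  rw [Ring.krullDimLE_iff]
  exact (ringKrullDim_stalk_eq_one Γ.ι.ker hI _ (genPtOf_mem_support Γ)
    (eq_genPtOf_of_specializes Γ)).le

/-- a uniformizer at the generic point of a vertical prime divisor. -/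
theorem exists_uniformizer_genPtOf :
    ∃ t : X.left.presheaf.stalk (Models.genPtOf R X Γ),
      t ∈ nonZeroDivisors (X.left.presheaf.stalk (Models.genPtOf R X Γ)) ∧
      stalkIdealAt Γ.ι.ker (Models.genPtOf R X Γ) = Ideal.span {t} ∧
      Ring.ord (X.left.presheaf.stalk (Models.genPtOf R X Γ)) t = 1 := by
  set ξ := Models.genPtOf R X Γ with hξdef
  obtain ⟨V, hξV, g, hg, hV⟩ := hI ξ
  have hP := ker_ideal_isPrime_of_mem Γ V hξV
  obtain ⟨hξV', hξP⟩ := genPt_mem_and_primeIdealOf_eq Γ V hP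
  letI : Algebra Γ(X.left, V.1) (X.left.presheaf.stalk ξ) :=
    TopCat.Presheaf.algebra_section_stalk X.left.presheaf ⟨ξ, hξV⟩
  haveI hloc : IsLocalization.AtPrime (X.left.presheaf.stalk ξ)
      (V.2.primeIdealOf ⟨ξ, hξV⟩).asIdeal := V.2.isLocalization_stalk ⟨ξ, hξV⟩
  have hst : stalkIdealAt Γ.ι.ker ξ =
      Ideal.span {(X.left.presheaf.germ V.1 ξ hξV).hom g} := by
    rw [stalkIdealAt_eq _ ξ V hξV, hV, Ideal.map_span, Set.image_singleton]
  have hmax : stalkIdealAt Γ.ι.ker ξ = IsLocalRing.maximalIdeal (X.left.presheaf.stalk ξ) := by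
    rw [stalkIdealAt_eq _ ξ V hξV, ← hξP]
    exact IsLocalization.AtPrime.map_eq_maximalIdeal (V.2.primeIdealOf ⟨ξ, hξV⟩).asIdeal
      (X.left.presheaf.stalk ξ)
  refine ⟨(X.left.presheaf.germ V.1 ξ hξV).hom g, ?_, hst, ?_⟩
  · exact IsLocalization.map_nonZeroDivisors_le (V.2.primeIdealOf ⟨ξ, hξV⟩).asIdeal.primeCompl
      (X.left.presheaf.stalk ξ) ⟨g, hg, rfl⟩
  · rw [Ring.ord, Module.length_eq_one_iff, ← hst, hmax]
    rw [isSimpleModule_iff_isSimpleModule_of_algebraMap_surjective
      (S := X.left.presheaf.stalk ξ ⧸ IsLocalRing.maximalIdeal (X.left.presheaf.stalk ξ))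
      Ideal.Quotient.mk_surjective]
    let := Ideal.Quotient.field (IsLocalRing.maximalIdeal (X.left.presheaf.stalk ξ))
    exact instIsSimpleModule _

end genPt

section comp

variable [Flat X.hom] [IsLocallyNoetherian X.left] (hreg : Models.IsRegularScheme X.left)
  {n : ℕ} (Γ : Fin n → ArSurf.VertComp R X) (hΓ : Models.IsComponentList R X Γ)
include hreg hΓ

/-- **uniqueness of the multiplicities**: the order of `Σ a_j Γ_j` along `Γ_i` is `a_i`. -/
theorem vord_prod_pow (a : Fin n → ℕ) (i : Fin n) :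
    vord (∏ j, (Γ j).ι.ker ^ a j) (Γ i) = a i := by
  classical
  have hI := isEffCartierIdeal_ker hreg Γ hΓ i
  haveI := krullDimLE_one_stalk_genPtOf (Γ i) hI
  obtain ⟨t, ht, hst, hord⟩ := exists_uniformizer_genPtOf (Γ i) hI
  unfold vord
  have h1 : stalkIdealAt (∏ j, (Γ j).ι.ker ^ a j) (Models.genPtOf R X (Γ i)) =
      Ideal.span {t ^ a i} := by
    rw [stalkIdealAt_prod, Finset.prod_eq_single i]
    · rw [stalkIdealAt_pow, hst, Ideal.span_singleton_pow]
    · intro j _ hji
      have hnm : Models.genPtOf R X (Γ i) ∉ ((Γ j).ι.ker.support : Set X.left) :=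
        genericPoint_notMem_of_ne (Γ i) (Γ j) (fun h => hji (hΓ.1 h).symm)
      rw [stalkIdealAt_pow, stalkIdealAt_eq_top_of_notMem _ _ hnm, Ideal.top_pow,
        Ideal.one_eq_top]
    · intro h
      exact absurd (Finset.mem_univ i) h
  rw [h1]
  change (Ring.ord _ (t ^ a i)).toNat = a i
  rw [Ring.ord_pow ht, hord]
  simp

theorem prod_pow_injective (a b : Fin n → ℕ)
    (h : (∏ j, (Γ j).ι.ker ^ a j) = ∏ j, (Γ j).ι.ker ^ b j) : a = b := by
  funext i
  rw [← vord_prod_pow hreg Γ hΓ a i, ← vord_prod_pow hreg Γ hΓ b i, h]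

/-- **an effective Cartier divisor supported in the closed fibre of a regular model is a
combination of the components of the closed fibre.** -/
theorem eq_prod_pow_vord (J : X.left.IdealSheafData) (hJ : BlowUp.IsEffCartierIdeal J)
    (hsupp : (J.support : Set X.left) ⊆ Models.specialFibreSet R X) :
    J = ∏ i, (Γ i).ι.ker ^ vord J (Γ i) := by
  classical
  obtain ⟨ϖ, hϖ⟩ := IsDiscreteValuationRing.exists_irreducible R
  refine Scheme.IdealSheafData.ext_of_iSup_eq_top
    (fun V : {V : X.left.affineOpens // ∃ f : Γ(X.left, V.1),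
      f ∈ nonZeroDivisors Γ(X.left, V.1) ∧ J.ideal V = Ideal.span {f}} => V.1) ?_ ?_
  · rw [eq_top_iff]
    intro x _
    obtain ⟨U, hxU, f, hf, hU⟩ := hJ x
    exact Opens.mem_iSup.mpr ⟨⟨U, f, hf, hU⟩, hxU⟩
  · rintro ⟨V, f, hf, hV⟩
    change J.ideal V = (∏ i, (Γ i).ι.ker ^ vord J (Γ i)).ideal V
    rw [ideal_prod_pow, hV]
    set π₀ := toSec X V.1 ϖ with hπ₀def
    have hπ₀ : π₀ ∈ nonZeroDivisors Γ(X.left, V.1) :=
      toSec_mem_nonZeroDivisors V.2 ϖ hϖ.ne_zero
    have hkey : ∀ P' : Ideal Γ(X.left, V.1), P'.IsPrime → f * π₀ ∈ P' → π₀ ∈ P' := by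
      intro P' hP' h
      rcases hP'.mem_or_mem h with h | h
      · let q : PrimeSpectrum Γ(X.left, V.1) := ⟨P', hP'⟩
        let y : X.left := V.2.fromSpec q
        have hyV : y ∈ V.1 := fromSpec_mem V.2 q
        have hyq : V.2.primeIdealOf ⟨y, hyV⟩ = q := primeIdealOf_fromSpec V.2 q
        have hyJ : y ∈ (J.support : Set X.left) := by
          rw [SetLike.mem_coe, Scheme.IdealSheafData.mem_support_iff_of_mem (U := V) hyV, hV,
            Scheme.zeroLocus_span, Scheme.zeroLocus_singleton]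
          exact (mem_primeIdealOf_iff V.2 y hyV f).mp (by rw [hyq]; exact h)
        have := (mem_specialFibreSet_iff V.2 y hyV ϖ hϖ).mp (hsupp hyJ)
        rw [hyq] at this
        exact this
      · exact h
    have hlen : ∀ i, ((Γ i).ι.ker.ideal V).IsPrime → ∃ (O' : Type u) (_ : CommRing O')
        (_ : Algebra Γ(X.left, V.1) O') (P' : Ideal Γ(X.left, V.1)) (_ : P'.IsPrime)
        (_ : IsLocalization.AtPrime O' P'), P' = (Γ i).ι.ker.ideal V ∧
        (Ring.ord O' (algebraMap Γ(X.left, V.1) O' (f * π₀))).toNat =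
          vord J (Γ i) + Models.mult R X (Γ i) := by
      intro i hP
      obtain ⟨hξV, hξP⟩ := genPt_mem_and_primeIdealOf_eq (Γ i) V hP
      letI : Algebra Γ(X.left, V.1) (X.left.presheaf.stalk (Models.genPtOf R X (Γ i))) :=
        TopCat.Presheaf.algebra_section_stalk X.left.presheaf ⟨_, hξV⟩
      haveI hloc : IsLocalization.AtPrime (X.left.presheaf.stalk (Models.genPtOf R X (Γ i)))
          (V.2.primeIdealOf ⟨_, hξV⟩).asIdeal := V.2.isLocalization_stalk ⟨_, hξV⟩
      have hI := isEffCartierIdeal_ker hreg Γ hΓ i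
      haveI := krullDimLE_one_stalk_genPtOf (Γ i) hI
      refine ⟨X.left.presheaf.stalk (Models.genPtOf R X (Γ i)), inferInstance, inferInstance,
        (V.2.primeIdealOf ⟨_, hξV⟩).asIdeal, (V.2.primeIdealOf ⟨_, hξV⟩).isPrime, hloc, hξP, ?_⟩
      have hgf : algebraMap Γ(X.left, V.1) (X.left.presheaf.stalk (Models.genPtOf R X (Γ i))) f ∈
          nonZeroDivisors (X.left.presheaf.stalk (Models.genPtOf R X (Γ i))) :=
        IsLocalization.map_nonZeroDivisors_le (V.2.primeIdealOf ⟨_, hξV⟩).asIdeal.primeCompl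
          _ ⟨f, hf, rfl⟩
      have hgπ : algebraMap Γ(X.left, V.1) (X.left.presheaf.stalk (Models.genPtOf R X (Γ i))) π₀ ∈
          nonZeroDivisors (X.left.presheaf.stalk (Models.genPtOf R X (Γ i))) :=
        IsLocalization.map_nonZeroDivisors_le (V.2.primeIdealOf ⟨_, hξV⟩).asIdeal.primeCompl
          _ ⟨π₀, hπ₀, rfl⟩
      rw [map_mul, Ring.ord_mul _ hgπ, ENat.toNat_add (Ring.ord_ne_top hgf) (Ring.ord_ne_top hgπ)]
      congr 1
      · unfold vord Ring.ord
        rw [stalkIdealAt_eq J _ V hξV, hV, Ideal.map_span, Set.image_singleton]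
        rfl
      · unfold Models.mult Ring.ord
        have hI' : Ideal.map (Models.stalkHom R X (Models.genPtOf R X (Γ i)))
            (IsLocalRing.maximalIdeal R) =
            Ideal.span {algebraMap Γ(X.left, V.1)
              (X.left.presheaf.stalk (Models.genPtOf R X (Γ i))) π₀} := by
          rw [hϖ.maximalIdeal_eq, Ideal.map_span, Set.image_singleton]
          congr 2
          change (X.left.presheaf.germ ⊤ _ trivial).hom (Coh.toGlobal X.hom ϖ) =
            (X.left.presheaf.germ V.1 _ hξV).hom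
              ((X.left.presheaf.map (homOfLE le_top).op).hom (Coh.toGlobal X.hom ϖ))
          exact (TopCat.Presheaf.germ_res_apply X.left.presheaf (homOfLE le_top) _ hξV _).symm
        rw [hI']
    have h1 := span_eq_prod_pow (f * π₀) (fun i => (Γ i).ι.ker.ideal V)
      (fun i => vord J (Γ i) + Models.mult R X (Γ i))
      (fun Q _ => exists_ufd_localization hreg V Q) (mul_mem hf hπ₀)
      (fun i => ker_ideal_top_or_prime (Γ i) V)
      (fun i => Ideal.mul_mem_left _ _ (toSec_mem_ker (Γ i) V ϖ (by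
        rw [hϖ.maximalIdeal_eq]
        exact Ideal.mem_span_singleton_self ϖ)))
      (fun i j hP h => ker_injective Γ hΓ V i j hP h)
      (fun P' hP' hπ => exists_ker_le Γ hΓ V ϖ hϖ P' hP' (hkey P' hP' hπ))
      (fun i hP P' hP' hπ hle => ker_minimal Γ hΓ V ϖ hϖ i hP P' hP' (hkey P' hP' hπ) hle)
      hlen
    have h2 : Ideal.span {π₀} = ∏ i, (Γ i).ι.ker.ideal V ^ Models.mult R X (Γ i) := by
      have := congrArg (fun I : X.left.IdealSheafData => I.ideal V)
        (specialFibreIdeal_eq_prod hreg Γ hΓ)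
      simp only [ideal_prod_pow, specialFibreIdeal_ideal, hϖ.maximalIdeal_eq, Ideal.map_span,
        Set.image_singleton] at this
      exact this
    have h3 : Ideal.span {f} * Ideal.span {π₀} =
        (∏ i, (Γ i).ι.ker.ideal V ^ vord J (Γ i)) * Ideal.span {π₀} := by
      rw [Ideal.span_singleton_mul_span_singleton, h1, h2, ← Finset.prod_mul_distrib]
      exact Finset.prod_congr rfl (fun i _ => pow_add _ _ _)
    -- cancel the principal ideal generated by a nonzerodivisor
    have hcancel : ∀ I I' : Ideal Γ(X.left, V.1), I * Ideal.span {π₀} ≤ I' * Ideal.span {π₀} →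
        I ≤ I' := by
      intro I I' h x hx
      have hx' : x * π₀ ∈ I' * Ideal.span {π₀} :=
        h (Ideal.mul_mem_mul hx (Ideal.mem_span_singleton_self π₀))
      obtain ⟨z, hz, hzx⟩ := Ideal.mem_mul_span_singleton.mp hx'
      have : z = x := (mul_cancel_right_mem_nonZeroDivisors hπ₀).mp hzx
      rw [← this]
      exact hz
    exact le_antisymm (hcancel _ _ h3.le) (hcancel _ _ h3.ge)

end comp

end Groth.Agent.H5.ArS
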