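import Mathlib
import Groth.Agent.Lib.Helper5.PicLaw.Law
import Groth.Agent.Lib.Helper5.ArS.VertCart
import Groth.Agent.Lib.Helper5.ArS.GenTriv
import Groth.Agent.Lib.Helper5.ArS.FibSum
import Groth.Agent.Lib.Helper5.ArS.FibNum
import Groth.Agent.Lib.Lead.QC.IdealMul
import Groth.Agent.Lib.Lead.QC.IdealMod

/-!
# The Picard group of a regular proper model: the subgroup generated by the components of the
closed fibre
-/

set_option autoImplicit false
set_option linter.style.haveILetI false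
universe u
open CategoryTheory CategoryTheory.Limits AlgebraicGeometry TopologicalSpace Opposite

namespace Groth.Agent.H5.ArS

open Groth.Agent.LD Groth.Agent.LD.QC Groth.Agent.H5.PicLaw
open scoped Groth.Agent.H5.PicLaw

section general

variable {X : Scheme.{u}}

theorem clsOf_idealMod_mul (I J : X.IdealSheafData) (hI : BlowUp.IsEffCartierIdeal I)
    (hJ : BlowUp.IsEffCartierIdeal J) :
    BlowUp.IsEffCartierIdeal (I * J) ∧
      clsOf (ClSub.idealMod (I * J)) = clsOf (ClSub.idealMod I) * clsOf (ClSub.idealMod J) := by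
  have hI' : PicF.IsInvertible (ClSub.idealMod I) := (isInvertible_idealMod_iff I).mpr hI
  have hJ' : PicF.IsInvertible (ClSub.idealMod J) := (isInvertible_idealMod_iff J).mpr hJ
  haveI := isIso_idealMulLift I J hJ'
  let e : CohB1.tensorMod (ClSub.idealMod I) (ClSub.idealMod J) ≅ ClSub.idealMod (I * J) :=
    asIso (idealMulLift I J)
  have hinv := PicLaw.isInvertible_of_iso e (isInvertible_tensorMod hI' hJ')
  refine ⟨(isInvertible_idealMod_iff _).mp hinv, ?_⟩
  rw [← clsOf_tensor hI' hJ']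
  exact (clsOf_iso e (isInvertible_tensorMod hI' hJ')).symm

theorem clsOf_idealMod_one :
    BlowUp.IsEffCartierIdeal (1 : X.IdealSheafData) ∧
      clsOf (ClSub.idealMod (1 : X.IdealSheafData)) = 1 := by
  obtain ⟨e⟩ := nonempty_unit_iso_idealMod_of_principal (1 : X.IdealSheafData) 1
    (fun U => by
      rw [map_one, Ideal.span_singleton_one]
      rfl)
    (fun U => by
      rw [map_one]
      exact Submonoid.one_mem _)
  have hinv := PicLaw.isInvertible_of_iso e (isInvertible_unit X)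
  refine ⟨(isInvertible_idealMod_iff _).mp hinv, ?_⟩
  rw [← clsOf_iso e (isInvertible_unit X)]
  exact clsOf_unit

theorem clsOf_idealMod_pow (I : X.IdealSheafData) (hI : BlowUp.IsEffCartierIdeal I) (n : ℕ) :
    BlowUp.IsEffCartierIdeal (I ^ n) ∧
      clsOf (ClSub.idealMod (I ^ n)) = clsOf (ClSub.idealMod I) ^ n := by
  induction n with
  | zero =>
    rw [pow_zero, pow_zero]
    exact clsOf_idealMod_one
  | succ n ih =>
    rw [pow_succ, pow_succ]
    obtain ⟨h1, h2⟩ := clsOf_idealMod_mul (I ^ n) I ih.1 hI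
    exact ⟨h1, by rw [h2, ih.2]⟩

theorem clsOf_idealMod_prod_pow {ι : Type*} (s : Finset ι) (I : ι → X.IdealSheafData)
    (hI : ∀ j, BlowUp.IsEffCartierIdeal (I j)) (m : ι → ℕ) :
    BlowUp.IsEffCartierIdeal (∏ j ∈ s, I j ^ m j) ∧
      clsOf (ClSub.idealMod (∏ j ∈ s, I j ^ m j)) =
        ∏ j ∈ s, clsOf (ClSub.idealMod (I j)) ^ m j := by
  classical
  induction s using Finset.induction_on with
  | empty =>
    rw [Finset.prod_empty, Finset.prod_empty]
    exact clsOf_idealMod_one
  | insert a s ha ih =>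
    rw [Finset.prod_insert ha, Finset.prod_insert ha]
    obtain ⟨h1, h2⟩ := clsOf_idealMod_pow (I a) (hI a) (m a)
    obtain ⟨h3, h4⟩ := clsOf_idealMod_mul _ _ h1 ih.1
    exact ⟨h3, by rw [h4, h2, ih.2]⟩

/-- an ideal sheaf whose ideal module is trivial is generated by a global function. -/
theorem ideal_eq_span_of_iso_unit (J : X.IdealSheafData) (φ : unitMod X ≅ ClSub.idealMod J) :
    ∃ a : Γ(X, ⊤), (∀ b : Γ(X, ⊤), b * a = 0 → b = 0) ∧ ∀ U : X.affineOpens,
      J.ideal U = Ideal.span {(X.presheaf.map (homOfLE (le_top : U.1 ≤ ⊤)).op).hom a} := by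
  let u : unitMod X ⟶ unitMod X := φ.hom ≫ ClSub.idealModι J
  haveI : Mono u := mono_comp _ _
  refine ⟨u.app ⊤ (1 : Γ(X, ⊤)), ?_, ?_⟩
  · intro b hb
    have h1 : u.app ⊤ b = b • u.app ⊤ (1 : Γ(X, ⊤)) := unitHom_app (unitMod X) u ⊤ b
    have h2 : u.app ⊤ b = 0 := h1.trans hb
    have h3 := mono_app u ⊤
    exact h3 (h2.trans (map_zero _).symm)
  · intro U
    have hres : (X.presheaf.map (homOfLE (le_top : U.1 ≤ ⊤)).op).hom (u.app ⊤ (1 : Γ(X, ⊤))) =
        u.app U.1 (1 : Γ(X, U.1)) := unitHom_app_one_res (unitMod X) u (le_top : U.1 ≤ ⊤)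
    rw [hres]
    ext s
    rw [← exists_idealModι_app_eq_iff J U s, Ideal.mem_span_singleton']
    constructor
    · rintro ⟨t, rfl⟩
      obtain ⟨b, rfl⟩ := (app_bijective_of_isIso φ.hom U.1).2 t
      exact ⟨b, (unitHom_app (unitMod X) u U.1 b).symm⟩
    · rintro ⟨b, rfl⟩
      exact ⟨φ.hom.app U.1 b, (unitHom_app (unitMod X) u U.1 b)⟩

end general

section fam

variable {X : Scheme.{u}} {n : ℕ} (I : Fin n → X.IdealSheafData) (L : Fin n → X.Modules)
  (hL : ∀ j, ClSub.IsInverseOf (L j) (ClSub.idealMod (I j)))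
include hL

theorem clsOf_multiTwist_eq_inv (a : Fin n → ℕ) :
    PicF.IsInvertible (FGA.multiTwist L a) ∧
      clsOf (FGA.multiTwist L a) = (clsOf (ClSub.idealMod (∏ j, I j ^ a j)))⁻¹ := by
  have hLi : ∀ j, PicF.IsInvertible (L j) := fun j => (inverse_facts _ _ (hL j)).2.2
  have hIi : ∀ j, BlowUp.IsEffCartierIdeal (I j) := fun j => (inverse_facts _ _ (hL j)).1
  obtain ⟨h1, h2⟩ := clsOf_multiTwist L hLi a
  refine ⟨h1, ?_⟩
  rw [h2, (clsOf_idealMod_prod_pow Finset.univ I hIi a).2, ← Finset.prod_inv_distrib]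
  refine Finset.prod_congr rfl (fun j _ => ?_)
  rw [clsOf_eq_inv (hLi j) ((inverse_facts _ _ (hL j)).2.1) (hL j), inv_pow]

end fam

section deg

variable (k : Type u) [Field k] {Y : Scheme.{u}} [Y.Over (Spec (CommRingCat.of k))]
  [IsProper (Y ↘ Spec (CommRingCat.of k))] {X : Scheme.{u}} (g : Y ⟶ X)
  (hdim : topologicalKrullDim Y ≤ 1)
include hdim

theorem pdeg_tensorPow (N : X.Modules) (hN : PicF.IsInvertible N) (m : ℕ) :
    pdeg k g (CohB1.tensorPow N m) = m * pdeg k g N := by
  induction m with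
  | zero =>
    change pdeg k g (unitMod X) = _
    rw [pdeg_unit]
    simp
  | succ m ih =>
    change pdeg k g (CohB1.tensorMod (CohB1.tensorPow N m) N) = _
    rw [pdeg_tensor k g hdim _ _ (isInvertible_tensorPow hN m) hN, ih]
    push_cast
    ring

theorem pdeg_tensorList : ∀ (l : List X.Modules), (∀ M ∈ l, PicF.IsInvertible M) →
    pdeg k g (FGA.tensorList l) = (l.map (pdeg k g)).sum
  | [], _ => by
      change pdeg k g (unitMod X) = _
      rw [pdeg_unit]
      rfl
  | M :: l, h => by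
      have hM : PicF.IsInvertible M := h M List.mem_cons_self
      have hl : ∀ N ∈ l, PicF.IsInvertible N := fun N hN => h N (List.mem_cons_of_mem _ hN)
      change pdeg k g (CohB1.tensorMod M (FGA.tensorList l)) = _
      rw [pdeg_tensor k g hdim _ _ hM (clsOf_tensorList l hl).1, pdeg_tensorList l hl,
        List.map_cons, List.sum_cons]

theorem pdeg_multiTwist {n : ℕ} (L : Fin n → X.Modules) (hL : ∀ i, PicF.IsInvertible (L i))
    (a : Fin n → ℕ) :
    pdeg k g (FGA.multiTwist L a) = ∑ j, (a j : ℤ) * pdeg k g (L j) := by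
  change pdeg k g (FGA.tensorList _) = _
  rw [pdeg_tensorList k g hdim _ (fun M hM => by
      obtain ⟨i, -, rfl⟩ := List.mem_map.mp hM
      exact isInvertible_tensorPow (hL i) (a i)), List.map_map, Fin.sum_univ_def]
  congr 1
  apply List.map_congr_left
  intro i _
  exact pdeg_tensorPow k g hdim (L i) (hL i) (a i)

end deg

section inter

variable {R : Type u} [CommRing R] [IsDomain R] [IsDiscreteValuationRing R]
  {X : Over (Spec (CommRingCat.of R))} (hp : IsProper X.hom) (Γ' : ArSurf.VertComp R X)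
include hp

theorem inter_eq_pdeg (N : X.left.Modules) (hN : PicF.IsInvertible N) :
    haveI : IsProper (Γ'.curve.left ↘ Spec (CommRingCat.of (IsLocalRing.ResidueField R))) :=
      isProper_curve_hom hp Γ'
    ArSurf.inter R X N Γ' = pdeg (IsLocalRing.ResidueField R) Γ'.ι N := by
  haveI : IsProper (Γ'.curve.left ↘ Spec (CommRingCat.of (IsLocalRing.ResidueField R))) :=
    isProper_curve_hom hp Γ'
  unfold ArSurf.inter pdeg
  exact curveDeg_eq_deg (IsLocalRing.ResidueField R) (dim_curve_le Γ') _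
    (isInvertible_pullback Γ'.ι hN)

theorem inter_iso {M N : X.left.Modules} (e : M ≅ N) (hM : PicF.IsInvertible M) :
    ArSurf.inter R X M Γ' = ArSurf.inter R X N Γ' := by
  haveI : IsProper (Γ'.curve.left ↘ Spec (CommRingCat.of (IsLocalRing.ResidueField R))) :=
    isProper_curve_hom hp Γ'
  rw [inter_eq_pdeg hp Γ' M hM, inter_eq_pdeg hp Γ' N (PicLaw.isInvertible_of_iso e hM)]
  exact pdeg_iso _ _ e

theorem inter_tensor (M N : X.left.Modules) (hM : PicF.IsInvertible M)
    (hN : PicF.IsInvertible N) :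
    ArSurf.inter R X (CohB1.tensorMod M N) Γ' = ArSurf.inter R X M Γ' + ArSurf.inter R X N Γ' := by
  haveI : IsProper (Γ'.curve.left ↘ Spec (CommRingCat.of (IsLocalRing.ResidueField R))) :=
    isProper_curve_hom hp Γ'
  rw [inter_eq_pdeg hp Γ' M hM, inter_eq_pdeg hp Γ' N hN,
    inter_eq_pdeg hp Γ' _ (isInvertible_tensorMod hM hN)]
  exact pdeg_tensor _ _ (dim_curve_le Γ') M N hM hN

theorem inter_tensorPow (N : X.left.Modules) (hN : PicF.IsInvertible N) (m : ℕ) :
    ArSurf.inter R X (CohB1.tensorPow N m) Γ' = m * ArSurf.inter R X N Γ' := by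
  haveI : IsProper (Γ'.curve.left ↘ Spec (CommRingCat.of (IsLocalRing.ResidueField R))) :=
    isProper_curve_hom hp Γ'
  rw [inter_eq_pdeg hp Γ' N hN, inter_eq_pdeg hp Γ' _ (isInvertible_tensorPow hN m)]
  exact pdeg_tensorPow _ _ (dim_curve_le Γ') N hN m

theorem inter_multiTwist {n : ℕ} (L : Fin n → X.left.Modules)
    (hL : ∀ i, PicF.IsInvertible (L i)) (a : Fin n → ℕ) :
    ArSurf.inter R X (FGA.multiTwist L a) Γ' = ∑ j, (a j : ℤ) * ArSurf.inter R X (L j) Γ' := by
  haveI : IsProper (Γ'.curve.left ↘ Spec (CommRingCat.of (IsLocalRing.ResidueField R))) :=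
    isProper_curve_hom hp Γ'
  rw [inter_eq_pdeg hp Γ' _ (clsOf_multiTwist L hL a).1,
    pdeg_multiTwist _ _ (dim_curve_le Γ') L hL a]
  exact Finset.sum_congr rfl (fun j _ => by rw [inter_eq_pdeg hp Γ' (L j) (hL j)])

/-- the intersection number only depends on the class in the Picard group. -/
theorem inter_eq_of_clsOf_eq {M N : X.left.Modules} (hM : PicF.IsInvertible M)
    (hN : PicF.IsInvertible N) (h : clsOf M = clsOf N) :
    ArSurf.inter R X M Γ' = ArSurf.inter R X N Γ' := by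
  obtain ⟨e⟩ := (clsOf_eq_iff hM hN).mp h
  exact inter_iso hp Γ' e hM

end inter

section idealpow

theorem ideal_pow {Y : Scheme.{u}} (I : Y.IdealSheafData) (e : ℕ) (V : Y.affineOpens) :
    (I ^ e).ideal V = I.ideal V ^ e := by
  induction e with
  | zero =>
    rw [pow_zero, pow_zero, Scheme.IdealSheafData.one_eq_top, Scheme.IdealSheafData.ideal_top,
      Ideal.one_eq_top]
    rfl
  | succ e ih =>
    rw [pow_succ, pow_succ, ← ih]
    rfl

end idealpow

section model

variable {R : Type u} [CommRing R] [IsDomain R] [IsDiscreteValuationRing R]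
  {C Y : Scheme.{u}} (f : C ⟶ Spec (CommRingCat.of (FractionRing R)))
  (p : Y ⟶ Spec (CommRingCat.of R)) (hX : Models.IsRegularProperModel R Y p C f)
  {n : ℕ} (Γ : Fin n → ArSurf.VertComp R (Over.mk p))
  (hΓ : Models.IsComponentList R (Over.mk p) Γ)
include hX

/-- an ideal sheaf with trivial ideal module on a regular proper model with `H⁰(C, O_C) = K` is a
power of the ideal of the closed fibre. -/
theorem eq_specialFibreIdeal_pow_of_trivial (hH0 : IsIso f.appTop) (J : Y.IdealSheafData)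
    (hJ : Nonempty (unitMod Y ≅ ClSub.idealMod J)) :
    ∃ e : ℕ, J = Models.specialFibreIdeal R (Over.mk p) ^ e := by
  obtain ⟨ϖ, hϖ⟩ := IsDiscreteValuationRing.exists_irreducible R
  obtain ⟨φ⟩ := hJ
  obtain ⟨a, ha, hJa⟩ := ideal_eq_span_of_iso_unit J φ
  have hbij := bijective_toGlobal_of_model f p hX hH0
  obtain ⟨ρ, hρ⟩ := hbij.2 a
  have hρ0 : ρ ≠ 0 := by
    rintro rfl
    have h1 : a = 0 := hρ.symm.trans (map_zero _)
    have h2 : (1 : Γ(Y, ⊤)) = 0 := ha 1 (by rw [h1, mul_zero])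
    have h3 : Coh.toGlobal p (1 : R) = Coh.toGlobal p 0 := by
      rw [map_one, map_zero]
      exact h2
    exact one_ne_zero (hbij.1 h3)
  obtain ⟨e, u, rfl⟩ := IsDiscreteValuationRing.eq_unit_mul_pow_irreducible hρ0 hϖ
  refine ⟨e, Scheme.IdealSheafData.ext ?_⟩
  funext V
  rw [hJa V, ideal_pow, specialFibreIdeal_ideal, hϖ.maximalIdeal_eq, Ideal.map_span,
    Set.image_singleton, Ideal.span_singleton_pow]
  have h1 : (Y.presheaf.map (homOfLE (le_top : V.1 ≤ ⊤)).op).hom a =
      toSec (Over.mk p) V.1 (↑u * ϖ ^ e) := by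
    rw [← hρ]
    rfl
  rw [h1, map_mul, map_pow]
  exact Ideal.span_singleton_mul_left_unit ((toSec (Over.mk p) V.1).isUnit_map u.isUnit) _

variable (L : Fin n → Y.Modules)
  (hL : ∀ j, ClSub.IsInverseOf (L j) (ClSub.idealMod (Γ j).ι.ker))
include hΓ hL

/-- `O(X_s) = O(Σ m_j Γ_j)` is trivial. -/
theorem clsOf_multiTwist_mult :
    clsOf (FGA.multiTwist L (fun j => Models.mult R (Over.mk p) (Γ j))) = 1 := by
  haveI : Flat (Over.mk p).hom := hX.1.1
  rw [(clsOf_multiTwist_eq_inv (fun j => (Γ j).ι.ker) L hL _).2,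
    ← specialFibreIdeal_eq_prod hX.2.2 Γ hΓ, inv_eq_one]
  obtain ⟨e⟩ := nonempty_unit_iso_idealMod_specialFibreIdeal (X := Over.mk p)
  rw [← clsOf_iso e (isInvertible_unit Y)]
  exact clsOf_unit

/-- **S3315** (class form): an invertible module trivial on the generic fibre is `O(Σ b_j Γ_j)`
with `b_j ≥ 0`. -/
theorem exists_clsOf_eq_multiTwist (g : C ⟶ Y)
    (hg : IsPullback g f p (Spec.map (CommRingCat.ofHom (algebraMap R (FractionRing R)))))
    (M : Y.Modules) (hM : PicF.IsInvertible M)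
    (htriv : Nonempty ((Scheme.Modules.pullback g).obj M ≅ Coh.structureModule C)) :
    ∃ b : Fin n → ℕ, clsOf M = clsOf (FGA.multiTwist L b) := by
  haveI : Flat p := hX.1.1
  haveI : Flat (Over.mk p).hom := hX.1.1
  haveI : IsProper p := hX.2.1
  haveI : LocallyOfFiniteType p := hX.1.2.1
  haveI : IsLocallyNoetherian (Over.mk p).left := LocallyOfFiniteType.isLocallyNoetherian p
  haveI : CompactSpace Y := QuasiCompact.compactSpace_of_compactSpace p
  haveI : QuasiSeparatedSpace Y := quasiSeparatedSpace_of_quasiSeparated p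
  obtain ⟨J, hJ, hsupp, hinv⟩ := exists_vertical_ideal f p g hg M hM htriv
  have hJeq := eq_prod_pow_vord (X := Over.mk p) hX.2.2 Γ hΓ J hJ hsupp
  refine ⟨fun i => vord (X := Over.mk p) J (Γ i), ?_⟩
  have h1 : clsOf (ClSub.idealMod J) =
      clsOf (ClSub.idealMod (∏ i, (Γ i).ι.ker ^ vord (X := Over.mk p) J (Γ i))) :=
    congrArg (fun K : Y.IdealSheafData => clsOf (ClSub.idealMod K)) hJeq
  rw [(clsOf_multiTwist_eq_inv (fun j => (Γ j).ι.ker) L hL _).2, ← h1]
  exact clsOf_eq_inv hM ((isInvertible_idealMod_iff J).mpr hJ) hinv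

end model

end Groth.Agent.H5.ArS
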