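import Groth.Agent.Lib.Helper5.ArS.ModelPic
import Groth.Agent.Lib.Helper5.ArS.FibKer
import Groth.Agent.Lib.Helper5.ArS.FibConn
import Groth.Agent.Lib.Helper5.ArS.ChainGeo

/-!
# The kernel of `ℤⁿ → Pic(X)`, `e_i ↦ O(Γ_i)` for a regular proper model

Class forms of S3314, S3340, S3341.
-/

universe u

open AlgebraicGeometry CategoryTheory Groth
open Groth.Agent.LD.QC Groth.Agent.H5.PicLaw
open scoped Groth.Agent.H5.PicLaw

namespace Groth.Agent.H5.ArS

section arith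

/-- a rational multiple of `m` with integer entries is an integer multiple of `m / gcd m`. -/
theorem exists_int_mul_div_gcd {n : ℕ} (m : Fin n → ℕ) (v : Fin n → ℤ) (c : ℚ)
    (h : ∀ i, (v i : ℚ) = c * (m i : ℚ)) :
    ∃ t : ℤ, ∀ i, v i = t * ((m i / Finset.univ.gcd m : ℕ) : ℤ) := by
  have hD0 : (c.den : ℚ) ≠ 0 := by exact_mod_cast c.den_ne_zero
  have h1 : ∀ i, v i * (c.den : ℤ) = c.num * (m i : ℤ) := by
    intro i
    have h2 : (v i : ℚ) * (c.den : ℚ) = (c.num : ℚ) * (m i : ℚ) := by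
      rw [h i, mul_right_comm, Rat.mul_den_eq_num]
    exact_mod_cast h2
  have hD : ∀ i, c.den ∣ m i := by
    intro i
    have h3 : (c.den : ℤ) ∣ c.num * (m i : ℤ) := Dvd.intro_left _ (h1 i)
    have h4 : c.den ∣ c.num.natAbs * m i := by
      have := Int.natAbs_dvd_natAbs.mpr h3
      rwa [Int.natAbs_mul, Int.natAbs_natCast, Int.natAbs_natCast] at this
    exact Nat.Coprime.dvd_of_dvd_mul_left c.reduced.symm h4
  obtain ⟨e, he⟩ : c.den ∣ Finset.univ.gcd m := Finset.dvd_gcd (fun i _ => hD i)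
  refine ⟨c.num * e, fun i => ?_⟩
  have hm : m i = Finset.univ.gcd m * (m i / Finset.univ.gcd m) :=
    (Nat.mul_div_cancel' (Finset.gcd_dvd (Finset.mem_univ i))).symm
  have hD0' : (c.den : ℤ) ≠ 0 := by exact_mod_cast c.den_ne_zero
  obtain ⟨q, hq⟩ : ∃ q, q = m i / Finset.univ.gcd m := ⟨_, rfl⟩
  rw [← hq] at hm ⊢
  apply mul_right_cancel₀ hD0'
  rw [h1 i, hm, he]
  push_cast
  ring

end arith

section grp

variable {G : Type*} [CommGroup G] {n : ℕ} (γ : Fin n → G) (m : Fin n → ℕ)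

theorem prod_zpow_mul_eq_one (H1 : ∏ i, γ i ^ m i = 1) (c : ℤ) :
    ∏ i, γ i ^ (c * (m i : ℤ)) = 1 := by
  have h : ∀ i, γ i ^ (c * (m i : ℤ)) = (γ i ^ m i) ^ c := fun i => by
    rw [zpow_mul', zpow_natCast]
  rw [Finset.prod_congr rfl (fun i _ => h i), Finset.prod_zpow, H1, one_zpow]

theorem exists_int_mul_of_prod_zpow_eq_one (H2 : ∀ r : ℕ,
      ∏ i, γ i ^ (r * (m i / Finset.univ.gcd m)) = 1 → Finset.univ.gcd m ∣ r)
    (v : Fin n → ℤ) (c : ℚ) (hc : ∀ i, (v i : ℚ) = c * (m i : ℚ))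
    (hv : ∏ i, γ i ^ v i = 1) :
    ∃ c' : ℤ, ∀ i, v i = c' * (m i : ℤ) := by
  obtain ⟨t, ht⟩ := exists_int_mul_div_gcd m v c hc
  set d := Finset.univ.gcd m with hd
  set δ : G := ∏ i, γ i ^ (m i / d) with hδ
  have h1 : δ ^ t = 1 := by
    rw [← hv, hδ, ← Finset.prod_zpow]
    refine Finset.prod_congr rfl (fun i _ => ?_)
    rw [ht i, zpow_mul', zpow_natCast]
  have h2 : ((orderOf δ : ℕ) : ℤ) ∣ t := orderOf_dvd_iff_zpow_eq_one.mpr h1
  have h3 : d ∣ orderOf δ := by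
    apply H2
    rw [← pow_orderOf_eq_one δ, hδ, ← Finset.prod_pow]
    refine Finset.prod_congr rfl (fun i _ => ?_)
    rw [mul_comm, pow_mul]
  obtain ⟨c', hc'⟩ : (d : ℤ) ∣ t := dvd_trans (by exact_mod_cast h3) h2
  refine ⟨c', fun i => ?_⟩
  have hm : m i = d * (m i / d) :=
    (Nat.mul_div_cancel' (Finset.gcd_dvd (Finset.mem_univ i))).symm
  obtain ⟨q, hq⟩ : ∃ q, q = m i / d := ⟨_, rfl⟩
  rw [← hq] at hm
  rw [ht i, hc', ← hq, hm]
  push_cast
  ring

theorem prod_pow_eq_iff_prod_zpow_sub (a b : Fin n → ℕ) :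
    (∏ i, γ i ^ a i = ∏ i, γ i ^ b i) ↔ ∏ i, γ i ^ ((a i : ℤ) - (b i : ℤ)) = 1 := by
  have h : ∀ i, γ i ^ ((a i : ℤ) - (b i : ℤ)) = γ i ^ a i / γ i ^ b i := fun i => by
    rw [zpow_sub, zpow_natCast, zpow_natCast, div_eq_mul_inv]
  rw [Finset.prod_congr rfl (fun i _ => h i), Finset.prod_div_distrib, div_eq_one]

end grp

section model

variable {R : Type u} [CommRing R] [IsDomain R] [IsDiscreteValuationRing R]
  {C Y : Scheme.{u}} (f : C ⟶ Spec (CommRingCat.of (FractionRing R)))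
  (p : Y ⟶ Spec (CommRingCat.of R)) (hX : Models.IsRegularProperModel R Y p C f)
  (hH0 : IsIso f.appTop)
  {n : ℕ} (Γ : Fin n → ArSurf.VertComp R (Over.mk p))
  (hΓ : Models.IsComponentList R (Over.mk p) Γ)
include hX hH0 hΓ

theorem n_pos_of_model : 0 < n := by
  have hconn := isConnected_specialFibreSet_of_model f p hX hH0
  obtain ⟨x, hx⟩ := hconn.nonempty
  obtain ⟨i, -⟩ := exists_mem_range_of_mem_specialFibreSet Γ hΓ x hx
  exact i.pos

theorem multGcd_pos : 0 < Models.multGcd R (Over.mk p) Γ := by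
  haveI : Flat (Over.mk p).hom := hX.1.1
  have hn := n_pos_of_model f p hX hH0 Γ hΓ
  refine Nat.pos_of_ne_zero (fun h0 => ?_)
  have h1 := (Finset.gcd_eq_zero_iff.mp h0) (⟨0, hn⟩ : Fin n) (Finset.mem_univ _)
  exact absurd h1 (mult_pos hX.2.2 Γ hΓ _).ne'

variable (L : Fin n → Y.Modules)
  (hL : ∀ j, ClSub.IsInverseOf (L j) (ClSub.idealMod (Γ j).ι.ker))
include hL

/-- **M4**: `O(r · (X_s / d))` trivial implies `d ∣ r`. -/
theorem dvd_of_clsOf_multiTwist_eq_one (r : ℕ)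
    (h : clsOf (FGA.multiTwist L (fun j => r *
      (Models.mult R (Over.mk p) (Γ j) / Models.multGcd R (Over.mk p) Γ))) = 1) :
    Models.multGcd R (Over.mk p) Γ ∣ r := by
  haveI : Flat (Over.mk p).hom := hX.1.1
  haveI : LocallyOfFiniteType p := hX.1.2.1
  haveI : IsLocallyNoetherian (Over.mk p).left := LocallyOfFiniteType.isLocallyNoetherian p
  have hn := n_pos_of_model f p hX hH0 Γ hΓ
  have hdpos := multGcd_pos f p hX hH0 Γ hΓ
  set d := Models.multGcd R (Over.mk p) Γ with hd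
  set a : Fin n → ℕ := fun j => r * (Models.mult R (Over.mk p) (Γ j) / d) with ha
  obtain ⟨hinv, hcls⟩ := clsOf_multiTwist_eq_inv (fun j => (Γ j).ι.ker) L hL a
  rw [hcls, inv_eq_one] at h
  have hIi : ∀ j, BlowUp.IsEffCartierIdeal (Γ j).ι.ker := fun j => (inverse_facts _ _ (hL j)).1
  have hJ := (clsOf_idealMod_prod_pow Finset.univ (fun j => (Γ j).ι.ker) hIi a).1
  have hJinv : PicF.IsInvertible (ClSub.idealMod (∏ j, (Γ j).ι.ker ^ a j)) :=
    (isInvertible_idealMod_iff _).mpr hJ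
  obtain ⟨φ⟩ := (clsOf_eq_one_iff hJinv).mp h
  obtain ⟨e, he⟩ := eq_specialFibreIdeal_pow_of_trivial f p hX hH0 _ ⟨φ.symm⟩
  rw [specialFibreIdeal_eq_prod hX.2.2 Γ hΓ, ← Finset.prod_pow] at he
  have he' : (∏ j, (Γ j).ι.ker ^ a j) =
      ∏ j, (Γ j).ι.ker ^ (Models.mult R (Over.mk p) (Γ j) * e) := by
    rw [he]
    exact Finset.prod_congr rfl (fun j _ => (pow_mul _ _ _).symm)
  have hab := prod_pow_injective hX.2.2 Γ hΓ a _ he'
  have hi := congrFun hab (⟨0, hn⟩ : Fin n)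
  have hm : Models.mult R (Over.mk p) (Γ ⟨0, hn⟩) =
      d * (Models.mult R (Over.mk p) (Γ ⟨0, hn⟩) / d) :=
    (Nat.mul_div_cancel' (Finset.gcd_dvd (f := fun i => Models.mult R (Over.mk p) (Γ i))
      (Finset.mem_univ (⟨0, hn⟩ : Fin n)))).symm
  have hmpos := mult_pos hX.2.2 Γ hΓ ⟨0, hn⟩
  obtain ⟨q, hq⟩ : ∃ q, q = Models.mult R (Over.mk p) (Γ ⟨0, hn⟩) / d := ⟨_, rfl⟩
  rw [← hq] at hm
  have hqpos : 0 < q := by
    rcases Nat.eq_zero_or_pos q with h0 | h0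
    · rw [h0, mul_zero] at hm
      exact absurd hm hmpos.ne'
    · exact h0
  have hi' : r * q = d * q * e := by
    have : a ⟨0, hn⟩ = r * q := by rw [ha, hq]
    rw [← this, hi, ← hm]
  refine ⟨e, Nat.eq_of_mul_eq_mul_right hqpos ?_⟩
  rw [hi']
  ring

/-- equal classes have proportional exponent differences (rationally). -/
theorem exists_rat_of_inter_eq_zero (v : Fin n → ℤ)
    (h : ∀ i, ∑ j, v j * ArSurf.inter R (Over.mk p) (L j) (Γ i) = 0) :
    ∃ c : ℚ, ∀ i, (v i : ℚ) = c * (Models.mult R (Over.mk p) (Γ i) : ℚ) := by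
  have hp : IsProper (Over.mk p).hom := hX.2.1
  haveI : Flat (Over.mk p).hom := hX.1.1
  haveI : LocallyOfFiniteType p := hX.1.2.1
  haveI : IsLocallyNoetherian (Over.mk p).left := LocallyOfFiniteType.isLocallyNoetherian p
  have hconn := isConnected_specialFibreSet_of_model f p hX hH0
  exact ((zariski_fibre hp hX.2.2 Γ hΓ L hL hconn.isPreconnected v).2.2).mp h

theorem exists_rat_of_clsOf_eq (a b : Fin n → ℕ)
    (h : clsOf (FGA.multiTwist L a) = clsOf (FGA.multiTwist L b)) :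
    ∃ c : ℚ, ∀ i, (((a i : ℤ) - (b i : ℤ) : ℤ) : ℚ) =
      c * (Models.mult R (Over.mk p) (Γ i) : ℚ) := by
  have hp : IsProper (Over.mk p).hom := hX.2.1
  have hLi : ∀ j, PicF.IsInvertible (L j) := fun j => (inverse_facts _ _ (hL j)).2.2
  refine exists_rat_of_inter_eq_zero f p hX hH0 Γ hΓ L hL (fun i => (a i : ℤ) - (b i : ℤ)) ?_
  intro i
  have h1 := inter_eq_of_clsOf_eq hp (Γ i) (clsOf_multiTwist L hLi a).1
    (clsOf_multiTwist L hLi b).1 h
  rw [inter_multiTwist hp (Γ i) L hLi a, inter_multiTwist hp (Γ i) L hLi b] at h1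
  simp only [sub_mul, Finset.sum_sub_distrib]
  exact sub_eq_zero.mpr h1

theorem prod_clsOf_pow_mult :
    ∏ i, clsOf (L i) ^ Models.mult R (Over.mk p) (Γ i) = 1 := by
  have hLi : ∀ j, PicF.IsInvertible (L j) := fun j => (inverse_facts _ _ (hL j)).2.2
  rw [← (clsOf_multiTwist L hLi _).2]
  exact clsOf_multiTwist_mult f p hX Γ hΓ L hL

theorem dvd_of_prod_clsOf_pow_eq_one (r : ℕ)
    (h : ∏ i, clsOf (L i) ^ (r * (Models.mult R (Over.mk p) (Γ i) /
      Finset.univ.gcd (fun i => Models.mult R (Over.mk p) (Γ i)))) = 1) :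
    Finset.univ.gcd (fun i => Models.mult R (Over.mk p) (Γ i)) ∣ r := by
  have hLi : ∀ j, PicF.IsInvertible (L j) := fun j => (inverse_facts _ _ (hL j)).2.2
  refine dvd_of_clsOf_multiTwist_eq_one f p hX hH0 Γ hΓ L hL r ?_
  rw [(clsOf_multiTwist L hLi _).2]
  exact h

/-- **S3314** (class form). -/
theorem clsOf_multiTwist_eq_iff (a b : Fin n → ℕ) :
    clsOf (FGA.multiTwist L a) = clsOf (FGA.multiTwist L b) ↔
      ∃ c : ℤ, ∀ i, (a i : ℤ) - (b i : ℤ) = c * (Models.mult R (Over.mk p) (Γ i) : ℤ) := by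
  have hLi : ∀ j, PicF.IsInvertible (L j) := fun j => (inverse_facts _ _ (hL j)).2.2
  have H1 := prod_clsOf_pow_mult f p hX hH0 Γ hΓ L hL
  constructor
  · intro h
    obtain ⟨c, hc⟩ := exists_rat_of_clsOf_eq f p hX hH0 Γ hΓ L hL a b h
    have h' := h
    rw [(clsOf_multiTwist L hLi a).2, (clsOf_multiTwist L hLi b).2,
      prod_pow_eq_iff_prod_zpow_sub] at h'
    exact exists_int_mul_of_prod_zpow_eq_one (fun i => clsOf (L i))
      (fun i => Models.mult R (Over.mk p) (Γ i))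
      (dvd_of_prod_clsOf_pow_eq_one f p hX hH0 Γ hΓ L hL) _ c hc h'
  · rintro ⟨c, hc⟩
    rw [(clsOf_multiTwist L hLi a).2, (clsOf_multiTwist L hLi b).2,
      prod_pow_eq_iff_prod_zpow_sub, Finset.prod_congr rfl (fun i _ => by rw [hc i])]
    exact prod_zpow_mul_eq_one _ _ H1 c

end model

end Groth.Agent.H5.ArS
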