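import Groth.Agent.Lib.Helper5.ArS.ModelPic2

/-!
# Degree-zero vertical classes on a regular proper model

Class forms of S3340, S3341.
-/

set_option autoImplicit false
set_option linter.style.haveILetI false
universe u
open CategoryTheory CategoryTheory.Limits AlgebraicGeometry TopologicalSpace Opposite

namespace Groth.Agent.H5.ArS

open Groth.Agent.LD Groth.Agent.LD.QC Groth.Agent.H5.PicLaw
open scoped Groth.Agent.H5.PicLaw

section grp

variable {G : Type*} [CommGroup G] {n : ℕ} (γ : Fin n → G) (m : Fin n → ℕ)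

theorem prod_pow_div_gcd_pow (H1 : ∏ i, γ i ^ m i = 1) :
    (∏ i, γ i ^ (m i / Finset.univ.gcd m)) ^ Finset.univ.gcd m = 1 := by
  rw [← Finset.prod_pow, ← H1]
  refine Finset.prod_congr rfl (fun i _ => ?_)
  rw [← pow_mul, Nat.div_mul_cancel (Finset.gcd_dvd (Finset.mem_univ i))]

theorem orderOf_prod_pow_div_gcd (H1 : ∏ i, γ i ^ m i = 1) (H2 : ∀ r : ℕ,
      ∏ i, γ i ^ (r * (m i / Finset.univ.gcd m)) = 1 → Finset.univ.gcd m ∣ r) :
    orderOf (∏ i, γ i ^ (m i / Finset.univ.gcd m)) = Finset.univ.gcd m := by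
  refine Nat.dvd_antisymm (orderOf_dvd_of_pow_eq_one (prod_pow_div_gcd_pow γ m H1)) (H2 _ ?_)
  rw [← pow_orderOf_eq_one (∏ i, γ i ^ (m i / Finset.univ.gcd m)), ← Finset.prod_pow]
  refine Finset.prod_congr rfl (fun i _ => ?_)
  rw [mul_comm, pow_mul]

theorem prod_pow_eq_zpow_of_int_mul (b : Fin n → ℕ) (t : ℤ)
    (ht : ∀ i, (b i : ℤ) = t * ((m i / Finset.univ.gcd m : ℕ) : ℤ)) :
    ∏ i, γ i ^ b i = (∏ i, γ i ^ (m i / Finset.univ.gcd m)) ^ t := by
  rw [← Finset.prod_zpow]
  refine Finset.prod_congr rfl (fun i _ => ?_)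
  rw [← zpow_natCast, ht i, zpow_mul', zpow_natCast]

end grp

section model

variable {R : Type u} [CommRing R] [IsDomain R] [IsDiscreteValuationRing R]
  {C Y : Scheme.{u}} (f : C ⟶ Spec (CommRingCat.of (FractionRing R)))
  (p : Y ⟶ Spec (CommRingCat.of R)) (hX : Models.IsRegularProperModel R Y p C f)
  (hH0 : IsIso f.appTop)
  {n : ℕ} (Γ : Fin n → ArSurf.VertComp R (Over.mk p))
  (hΓ : Models.IsComponentList R (Over.mk p) Γ)
  (L : Fin n → Y.Modules)
  (hL : ∀ j, ClSub.IsInverseOf (L j) (ClSub.idealMod (Γ j).ι.ker))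
  (g : C ⟶ Y)
  (hg : IsPullback g f p (Spec.map (CommRingCat.ofHom (algebraMap R (FractionRing R)))))
include hX hH0 hΓ hL hg

/-- an invertible module, trivial on the generic fibre and of degree zero on every component of
the closed fibre, is a power of `O(X_s / d)`. -/
theorem exists_zpow_of_inter_eq_zero (M : Y.Modules) (hM : PicF.IsInvertible M)
    (htriv : Nonempty ((Scheme.Modules.pullback g).obj M ≅ Coh.structureModule C))
    (hdeg : ∀ i, ArSurf.inter R (Over.mk p) M (Γ i) = 0) :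
    ∃ t : ℤ, clsOf M = (∏ i, clsOf (L i) ^ (Models.mult R (Over.mk p) (Γ i) /
      Finset.univ.gcd (fun i => Models.mult R (Over.mk p) (Γ i)))) ^ t := by
  have hp : IsProper (Over.mk p).hom := hX.2.1
  have hLi : ∀ j, PicF.IsInvertible (L j) := fun j => (inverse_facts _ _ (hL j)).2.2
  obtain ⟨b, hb⟩ := exists_clsOf_eq_multiTwist f p hX Γ hΓ L hL g hg M hM htriv
  obtain ⟨c, hc⟩ := exists_rat_of_inter_eq_zero f p hX hH0 Γ hΓ L hL (fun j => (b j : ℤ))
    (fun i => by
      have h1 := inter_eq_of_clsOf_eq hp (Γ i) hM (clsOf_multiTwist L hLi b).1 hb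
      rw [inter_multiTwist hp (Γ i) L hLi b, hdeg i] at h1
      exact h1.symm)
  obtain ⟨t, ht⟩ := exists_int_mul_div_gcd (fun i => Models.mult R (Over.mk p) (Γ i))
    (fun j => (b j : ℤ)) c hc
  refine ⟨t, ?_⟩
  rw [hb, (clsOf_multiTwist L hLi b).2]
  exact prod_pow_eq_zpow_of_int_mul (fun i => clsOf (L i))
    (fun i => Models.mult R (Over.mk p) (Γ i)) b t ht

/-- **S3340** (class form). -/
theorem clsOf_pow_multGcd_eq_one (M : Y.Modules) (hM : PicF.IsInvertible M)
    (htriv : Nonempty ((Scheme.Modules.pullback g).obj M ≅ Coh.structureModule C))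
    (hdeg : ∀ i, ArSurf.inter R (Over.mk p) M (Γ i) = 0) :
    clsOf M ^ Models.multGcd R (Over.mk p) Γ = 1 := by
  obtain ⟨t, ht⟩ := exists_zpow_of_inter_eq_zero f p hX hH0 Γ hΓ L hL g hg M hM htriv hdeg
  have H1 := prod_clsOf_pow_mult f p hX hH0 Γ hΓ L hL
  have h2 := prod_pow_div_gcd_pow (fun i => clsOf (L i))
    (fun i => Models.mult R (Over.mk p) (Γ i)) H1
  rw [ht]
  change (_ ^ t) ^ (Finset.univ.gcd fun i => Models.mult R (Over.mk p) (Γ i)) = 1
  rw [← zpow_natCast, ← zpow_mul, mul_comm, zpow_mul, zpow_natCast, h2, one_zpow]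

/-- the degree of a torsion invertible module on a vertical curve is zero. -/
theorem inter_eq_zero_of_torsion (h : ℕ) (hh : 0 < h) (M : Y.Modules)
    (hM : PicF.IsInvertible M)
    (htors : Nonempty (CohB1.tensorPow M h ≅ Coh.structureModule Y))
    (Γ' : ArSurf.VertComp R (Over.mk p)) :
    ArSurf.inter R (Over.mk p) M Γ' = 0 := by
  have hp : IsProper (Over.mk p).hom := hX.2.1
  obtain ⟨e⟩ := htors
  have h1 := inter_tensorPow hp Γ' M hM h
  have h2 : ArSurf.inter R (Over.mk p) (Coh.structureModule Y) Γ' = 0 := by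
    have := inter_tensorPow hp Γ' M hM 0
    rw [Nat.cast_zero, zero_mul] at this
    exact this
  rw [inter_iso hp Γ' e (isInvertible_tensorPow hM h), h2] at h1
  have hh' : (h : ℤ) ≠ 0 := by exact_mod_cast hh.ne'
  exact (mul_eq_zero.mp h1.symm).resolve_left hh'

/-- **S3341** (class form). -/
theorem clsOf_eq_one_of_torsion (h : ℕ) (hh : 0 < h)
    (hcop : Nat.Coprime h (Models.multGcd R (Over.mk p) Γ))
    (M : Y.Modules) (hM : PicF.IsInvertible M)
    (htors : Nonempty (CohB1.tensorPow M h ≅ Coh.structureModule Y))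
    (htriv : Nonempty ((Scheme.Modules.pullback g).obj M ≅ Coh.structureModule C)) :
    clsOf M = 1 := by
  have hdeg : ∀ i, ArSurf.inter R (Over.mk p) M (Γ i) = 0 := fun i =>
    inter_eq_zero_of_torsion f p hX hH0 Γ hΓ L hL g hg h hh M hM htors (Γ i)
  obtain ⟨t, ht⟩ := exists_zpow_of_inter_eq_zero f p hX hH0 Γ hΓ L hL g hg M hM htriv hdeg
  have H1 := prod_clsOf_pow_mult f p hX hH0 Γ hΓ L hL
  have hord := orderOf_prod_pow_div_gcd (fun i => clsOf (L i))
    (fun i => Models.mult R (Over.mk p) (Γ i)) H1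
    (dvd_of_prod_clsOf_pow_eq_one f p hX hH0 Γ hΓ L hL)
  have h1 : clsOf M ^ h = 1 := by
    rw [← clsOf_pow hM h]
    exact (clsOf_eq_one_iff (isInvertible_tensorPow hM h)).mpr htors
  rw [ht] at h1 ⊢
  rw [← zpow_natCast, ← zpow_mul, ← orderOf_dvd_iff_zpow_eq_one, hord] at h1
  rw [← orderOf_dvd_iff_zpow_eq_one, hord]
  have hc : IsCoprime ((Finset.univ.gcd fun i => Models.mult R (Over.mk p) (Γ i) : ℕ) : ℤ)
      (h : ℤ) := Nat.isCoprime_iff_coprime.mpr hcop.symm
  exact hc.dvd_of_dvd_mul_right h1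

end model

end Groth.Agent.H5.ArS
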