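import Groth.Agent.Lib.Helper5.ArS.ModelPic3
import Groth.Agent.Lib.Helper5.ArS.GenPull

/-!
# Degree homomorphisms on the Picard group of an arithmetic surface; extending invertible modules
with prescribed degrees (class forms of S3348, S3342)
-/

set_option autoImplicit false
set_option linter.style.haveILetI false
universe u
open CategoryTheory CategoryTheory.Limits AlgebraicGeometry TopologicalSpace Opposite

namespace Groth.Agent.H5.ArS

open Groth.Agent.LD Groth.Agent.LD.QC Groth.Agent.H5.PicLaw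
open scoped Groth.Agent.H5.PicLaw

section deg

variable {R : Type u} [CommRing R] [IsDomain R] [IsDiscreteValuationRing R]
  {X : Over (Spec (CommRingCat.of R))} (hp : IsProper X.hom) (Γ' : ArSurf.VertComp R X)

include hp in
theorem inter_unit : ArSurf.inter R X (Coh.structureModule X.left) Γ' = 0 := by
  have := inter_tensorPow hp Γ' (Coh.structureModule X.left) (isInvertible_unit X.left) 0
  rw [Nat.cast_zero, zero_mul] at this
  exact this

/-- the degree on a vertical curve, as a homomorphism on the Picard group. -/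
noncomputable def degHom : PicLoc.PicSet X.left →* Multiplicative ℤ :=
  liftHom (fun M => Multiplicative.ofAdd (ArSurf.inter R X M Γ'))
    (fun M N hM ⟨e⟩ => congrArg _ (inter_iso hp Γ' e hM))
    (by
      change Multiplicative.ofAdd (ArSurf.inter R X (Coh.structureModule X.left) Γ') = 1
      rw [inter_unit hp Γ']
      rfl)
    (fun M N hM hN => by
      change Multiplicative.ofAdd (ArSurf.inter R X (CohB1.tensorMod M N) Γ') = _
      rw [inter_tensor hp Γ' M N hM hN]
      rfl)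

/-- the degree of a class on a vertical curve. -/
noncomputable def degZ (x : PicLoc.PicSet X.left) : ℤ := Multiplicative.toAdd (degHom hp Γ' x)

theorem degZ_clsOf (M : X.left.Modules) (hM : PicF.IsInvertible M) :
    degZ hp Γ' (clsOf M) = ArSurf.inter R X M Γ' := by
  unfold degZ degHom
  rw [liftHom_clsOf _ _ _ _ M hM]
  rfl

theorem degZ_mul (x y : PicLoc.PicSet X.left) :
    degZ hp Γ' (x * y) = degZ hp Γ' x + degZ hp Γ' y := by
  unfold degZ
  rw [map_mul]
  rfl

theorem degZ_one : degZ hp Γ' 1 = 0 := by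
  unfold degZ
  rw [map_one]
  rfl

theorem degZ_inv (x : PicLoc.PicSet X.left) : degZ hp Γ' x⁻¹ = - degZ hp Γ' x := by
  unfold degZ
  rw [map_inv]
  rfl

theorem degZ_pow (x : PicLoc.PicSet X.left) (t : ℕ) :
    degZ hp Γ' (x ^ t) = t * degZ hp Γ' x := by
  unfold degZ
  rw [map_pow, toAdd_pow]
  simp

theorem degZ_zpow (x : PicLoc.PicSet X.left) (t : ℤ) :
    degZ hp Γ' (x ^ t) = t * degZ hp Γ' x := by
  unfold degZ
  rw [map_zpow, toAdd_zpow]
  simp

theorem degZ_prod {ι : Type*} (s : Finset ι) (x : ι → PicLoc.PicSet X.left) :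
    degZ hp Γ' (∏ i ∈ s, x i) = ∑ i ∈ s, degZ hp Γ' (x i) := by
  classical
  induction s using Finset.induction_on with
  | empty => simp [degZ_one]
  | insert a s ha ih => rw [Finset.prod_insert ha, Finset.sum_insert ha, degZ_mul, ih]

theorem degZ_prod_zpow {n : ℕ} (L : Fin n → X.left.Modules)
    (hLi : ∀ j, PicF.IsInvertible (L j)) (v : Fin n → ℤ) :
    degZ hp Γ' (∏ j, clsOf (L j) ^ v j) = ∑ j, ArSurf.inter R X (L j) Γ' * v j := by
  rw [degZ_prod]
  refine Finset.sum_congr rfl (fun j _ => ?_)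
  rw [degZ_zpow, degZ_clsOf hp Γ' (L j) (hLi j), mul_comm]

end deg

section model

variable {R : Type u} [CommRing R] [IsDomain R] [IsDiscreteValuationRing R]
  {C Y : Scheme.{u}} (f : C ⟶ Spec (CommRingCat.of (FractionRing R)))
  (p : Y ⟶ Spec (CommRingCat.of R)) (hX : Models.IsRegularProperModel R Y p C f)
  (hH0 : IsIso f.appTop)
  {n : ℕ} (Γ : Fin n → ArSurf.VertComp R (Over.mk p))
  (hΓ : Models.IsComponentList R (Over.mk p) Γ)
  (L : Fin n → Y.Modules)
  (hL : ∀ j, ClSub.IsInverseOf (L j) (ClSub.idealMod (Γ j).ι.ker))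
  (g : C ⟶ Y)
  (hg : IsPullback g f p (Spec.map (CommRingCat.ofHom (algebraMap R (FractionRing R)))))

include hL hg in
theorem pbHom_prod_zpow (v : Fin n → ℤ) : pbHom g (∏ j, clsOf (L j) ^ v j) = 1 := by
  rw [map_prod]
  refine Finset.prod_eq_one (fun j _ => ?_)
  rw [map_zpow, pbHom_clsOf_vertComp f p g hg (Γ j) (L j) (hL j), one_zpow]

include hL hg in
theorem pbHom_prod_pow (v : Fin n → ℕ) : pbHom g (∏ j, clsOf (L j) ^ v j) = 1 := by
  rw [map_prod]
  refine Finset.prod_eq_one (fun j _ => ?_)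
  rw [map_pow, pbHom_clsOf_vertComp f p g hg (Γ j) (L j) (hL j), one_pow]

include hX hL hg in
/-- twisting by vertical divisors to correct the degrees. -/
theorem exists_twist_degZ (N : C.Modules) (M : Y.Modules) (hM : PicF.IsInvertible M)
    (hMN : Nonempty ((Scheme.Modules.pullback g).obj M ≅ N)) (v : Fin n → ℤ)
    (hv : ∀ i, ArSurf.inter R (Over.mk p) M (Γ i) =
      ∑ j, ArSurf.inter R (Over.mk p) (L j) (Γ i) * v j) :
    ∃ x : PicLoc.PicSet Y, pbHom g x = clsOf N ∧
      ∀ i, degZ (X := Over.mk p) hX.2.1 (Γ i) x = 0 := by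
  have hp : IsProper (Over.mk p).hom := hX.2.1
  have hLi : ∀ j, PicF.IsInvertible (L j) := fun j => (inverse_facts _ _ (hL j)).2.2
  refine ⟨clsOf M * (∏ j, clsOf (L j) ^ v j)⁻¹, ?_, fun i => ?_⟩
  · rw [map_mul, map_inv, pbHom_prod_zpow f p Γ L hL g hg v, inv_one, mul_one,
      pbHom_clsOf g M hM]
    obtain ⟨e⟩ := hMN
    exact clsOf_iso e (isInvertible_pullback g hM)
  · rw [degZ_mul, degZ_inv, degZ_prod_zpow hp (Γ i) L hLi v, degZ_clsOf hp (Γ i) M hM, hv i,
      add_neg_cancel]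

include hX hH0 hΓ hL hg in
/-- **S3348**. -/
theorem exists_degree_zero_extension_iff (N : C.Modules) (hN : PicF.IsInvertible N)
    (M : Y.Modules) (hM : PicF.IsInvertible M)
    (hMN : Nonempty ((Scheme.Modules.pullback g).obj M ≅ N)) :
    (∃ v : Fin n → ℤ, ∀ i, ArSurf.inter R (Over.mk p) M (Γ i) =
        ∑ j, ArSurf.inter R (Over.mk p) (L j) (Γ i) * v j) ↔
      ∃ M' : Y.Modules, PicF.IsInvertible M' ∧
        Nonempty ((Scheme.Modules.pullback g).obj M' ≅ N) ∧
        ∀ i, ArSurf.inter R (Over.mk p) M' (Γ i) = 0 := by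
  have hp : IsProper (Over.mk p).hom := hX.2.1
  have hLi : ∀ j, PicF.IsInvertible (L j) := fun j => (inverse_facts _ _ (hL j)).2.2
  constructor
  · rintro ⟨v, hv⟩
    obtain ⟨x, hx1, hx2⟩ := exists_twist_degZ f p hX Γ L hL g hg N M hM hMN v hv
    obtain ⟨M', hM', hx⟩ := exists_clsOf_eq x
    refine ⟨M', hM', ?_, fun i => ?_⟩
    · refine (clsOf_eq_iff (isInvertible_pullback g hM') hN).mp ?_
      rw [← pbHom_clsOf g M' hM', hx, hx1]
    · rw [← degZ_clsOf hp (Γ i) M' hM', hx]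
      exact hx2 i
  · rintro ⟨M', hM', ⟨e'⟩, hdeg⟩
    obtain ⟨e⟩ := hMN
    obtain ⟨Q, hQ, hy⟩ := exists_clsOf_eq (clsOf M * (clsOf M')⁻¹)
    have hπ : clsOf ((Scheme.Modules.pullback g).obj Q) = 1 := by
      rw [← pbHom_clsOf g Q hQ, hy, map_mul, map_inv, pbHom_clsOf g M hM, pbHom_clsOf g M' hM',
        clsOf_iso e (isInvertible_pullback g hM), clsOf_iso e' (isInvertible_pullback g hM'),
        mul_inv_cancel]
    have htriv : Nonempty ((Scheme.Modules.pullback g).obj Q ≅ Coh.structureModule C) :=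
      (clsOf_eq_one_iff (isInvertible_pullback g hQ)).mp hπ
    obtain ⟨b, hb⟩ := exists_clsOf_eq_multiTwist f p hX Γ hΓ L hL g hg Q hQ htriv
    refine ⟨fun j => (b j : ℤ), fun i => ?_⟩
    have h1 : degZ hp (Γ i) (clsOf M * (clsOf M')⁻¹) = ArSurf.inter R (Over.mk p) M (Γ i) := by
      rw [degZ_mul, degZ_inv, degZ_clsOf hp (Γ i) M hM, degZ_clsOf hp (Γ i) M' hM', hdeg i,
        neg_zero, add_zero]
    rw [← h1, ← hy, hb, degZ_clsOf hp (Γ i) _ (clsOf_multiTwist L hLi b).1,
      inter_multiTwist hp (Γ i) L hLi b]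
    exact Finset.sum_congr rfl (fun j _ => mul_comm _ _)

include hX hH0 hΓ hL hg in
/-- **S3342**. -/
theorem exists_torsion_extension (h : ℕ) (hcop : Nat.Coprime h (Models.multGcd R (Over.mk p) Γ))
    (N : C.Modules) (hN : PicF.IsInvertible N)
    (hNt : Nonempty (CohB1.tensorPow N h ≅ Coh.structureModule C))
    (M : Y.Modules) (hM : PicF.IsInvertible M)
    (hMN : Nonempty ((Scheme.Modules.pullback g).obj M ≅ N)) (v : Fin n → ℤ)
    (hv : ∀ i, ArSurf.inter R (Over.mk p) M (Γ i) =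
      ∑ j, ArSurf.inter R (Over.mk p) (L j) (Γ i) * v j) :
    ∃ M' : Y.Modules, PicF.IsInvertible M' ∧
      Nonempty (CohB1.tensorPow M' h ≅ Coh.structureModule Y) ∧
      Nonempty ((Scheme.Modules.pullback g).obj M' ≅ N) := by
  have hp : IsProper (Over.mk p).hom := hX.2.1
  have hLi : ∀ j, PicF.IsInvertible (L j) := fun j => (inverse_facts _ _ (hL j)).2.2
  obtain ⟨x₁, hπ1, hdeg1⟩ := exists_twist_degZ f p hX Γ L hL g hg N M hM hMN v hv
  obtain ⟨Q, hQ, hQx⟩ := exists_clsOf_eq (x₁ ^ h)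
  have hν : clsOf N ^ h = 1 := by
    rw [← clsOf_pow hN h]
    exact (clsOf_eq_one_iff (isInvertible_tensorPow hN h)).mpr hNt
  have hQtriv : Nonempty ((Scheme.Modules.pullback g).obj Q ≅ Coh.structureModule C) :=
    (clsOf_eq_one_iff (isInvertible_pullback g hQ)).mp (by
      rw [← pbHom_clsOf g Q hQ, hQx, map_pow, hπ1, hν])
  have hQdeg : ∀ i, ArSurf.inter R (Over.mk p) Q (Γ i) = 0 := fun i => by
    rw [← degZ_clsOf hp (Γ i) Q hQ, hQx, degZ_pow, hdeg1 i, mul_zero]
  obtain ⟨t, ht⟩ := exists_zpow_of_inter_eq_zero f p hX hH0 Γ hΓ L hL g hg Q hQ hQtriv hQdeg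
  have H1 := prod_clsOf_pow_mult f p hX hH0 Γ hΓ L hL
  have hδd := prod_pow_div_gcd_pow (fun i => clsOf (L i))
    (fun i => Models.mult R (Over.mk p) (Γ i)) H1
  have hπδ := pbHom_prod_pow f p Γ L hL g hg (fun i => Models.mult R (Over.mk p) (Γ i) /
      Finset.univ.gcd (fun i => Models.mult R (Over.mk p) (Γ i)))
  obtain ⟨δ, hδ⟩ : ∃ δ, δ = ∏ i, clsOf (L i) ^ (Models.mult R (Over.mk p) (Γ i) /
      Finset.univ.gcd (fun i => Models.mult R (Over.mk p) (Γ i))) := ⟨_, rfl⟩
  rw [← hδ] at ht hδd hπδ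
  obtain ⟨s, u, hsu⟩ : IsCoprime (h : ℤ)
      ((Finset.univ.gcd fun i => Models.mult R (Over.mk p) (Γ i) : ℕ) : ℤ) :=
    Nat.isCoprime_iff_coprime.mpr hcop
  obtain ⟨M', hM', hx'⟩ := exists_clsOf_eq (x₁ * (δ ^ (t * s))⁻¹)
  refine ⟨M', hM', ?_, ?_⟩
  · refine (clsOf_eq_one_iff (isInvertible_tensorPow hM' h)).mp ?_
    rw [clsOf_pow hM' h, hx', mul_pow, ← hQx, ht, inv_pow, ← zpow_natCast (δ ^ (t * s)) h,
      ← zpow_mul, mul_inv_eq_one]
    have h3 : t = t * s * (h : ℤ) + (t * u) *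
        ((Finset.univ.gcd fun i => Models.mult R (Over.mk p) (Γ i) : ℕ) : ℤ) := by
      linear_combination (-t) * hsu
    conv_lhs => rw [h3]
    rw [zpow_add, zpow_mul' δ (t * u), zpow_natCast, hδd, one_zpow, mul_one]
  · refine (clsOf_eq_iff (isInvertible_pullback g hM') hN).mp ?_
    rw [← pbHom_clsOf g M' hM', hx', map_mul, map_inv, map_zpow, hπδ, one_zpow, inv_one, mul_one,
      hπ1]

end model

end Groth.Agent.H5.ArS
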