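import Groth.Agent.Lib.Helper5.ArS.ModelPic4

/-!
# The kernel of `Pic(X)[h] → Pic(C)[h]` and the obstruction to lifting torsion classes
(class forms of S19918, S19924)
-/

set_option autoImplicit false
set_option linter.style.haveILetI false
universe u
open CategoryTheory CategoryTheory.Limits AlgebraicGeometry TopologicalSpace Opposite

namespace Groth.Agent.H5.ArS

open Groth.Agent.LD Groth.Agent.LD.QC Groth.Agent.H5.PicLaw
open scoped Groth.Agent.H5.PicLaw

section grp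

/-- in a cyclic group of order `d`, an element `δ ^ t` killed by `h` is `δ ^ ((d / e) k)` for a
unique `k < e = gcd h d`. -/
theorem existsUnique_lt_gcd {G : Type*} [Group G] (δ : G) (d : ℕ) (hd : orderOf δ = d)
    (hdpos : 0 < d) (h : ℕ) (hh : 0 < h) (t : ℤ) (ht : (δ ^ t) ^ h = 1) :
    ∃! k : ℕ, k < Nat.gcd h d ∧ δ ^ t = δ ^ (d / Nat.gcd h d * k) := by
  set e := Nat.gcd h d with he
  have hepos : 0 < e := Nat.gcd_pos_of_pos_left d hh
  obtain ⟨d', hd'⟩ : e ∣ d := Nat.gcd_dvd_right h d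
  obtain ⟨h', hh'⟩ : e ∣ h := Nat.gcd_dvd_left h d
  have hd'pos : 0 < d' := by
    rcases Nat.eq_zero_or_pos d' with h0 | h0
    · rw [h0, mul_zero] at hd'; omega
    · exact h0
  have hdiv : d / e = d' := by rw [hd', Nat.mul_div_cancel_left _ hepos]
  have hcop : Nat.Coprime h' d' := by
    have := Nat.coprime_div_gcd_div_gcd (m := h) (n := d) hepos
    rw [← he, hdiv] at this
    have h2 : h / e = h' := by rw [hh', Nat.mul_div_cancel_left _ hepos]
    rwa [h2] at this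
  -- `d ∣ t h`
  have h1 : (d : ℤ) ∣ t * h := by
    rw [← zpow_natCast, ← zpow_mul, ← orderOf_dvd_iff_zpow_eq_one, hd] at ht
    exact ht
  have h2 : (d' : ℤ) ∣ t * h' := by
    have h3 : (e : ℤ) * d' ∣ (e : ℤ) * (t * h') := by
      have : (d : ℤ) = (e : ℤ) * d' := by exact_mod_cast hd'
      rw [← this]
      have h4 : t * (h : ℤ) = (e : ℤ) * (t * h') := by
        have : (h : ℤ) = (e : ℤ) * h' := by exact_mod_cast hh'
        rw [this]; ring
      rwa [← h4]
    exact Int.dvd_of_mul_dvd_mul_left (by exact_mod_cast hepos.ne') h3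
  have h3 : (d' : ℤ) ∣ t := by
    have hc : IsCoprime (d' : ℤ) (h' : ℤ) := Nat.isCoprime_iff_coprime.mpr hcop.symm
    exact hc.dvd_of_dvd_mul_right h2
  obtain ⟨t', ht'⟩ := h3
  have key : ∀ k : ℕ, δ ^ t = δ ^ (d / e * k) ↔ (e : ℤ) ∣ t' - k := by
    intro k
    rw [← zpow_natCast, zpow_eq_zpow_iff_modEq, hd, Int.modEq_iff_dvd, hdiv]
    have h5 : ((d' * k : ℕ) : ℤ) - t = (d' : ℤ) * ((k : ℤ) - t') := by
      rw [ht']; push_cast; ring
    have h6 : (d : ℤ) = (d' : ℤ) * e := by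
      have : (d : ℤ) = (e : ℤ) * d' := by exact_mod_cast hd'
      rw [this, mul_comm]
    rw [h5, h6]
    constructor
    · intro h7
      have := Int.dvd_of_mul_dvd_mul_left (by exact_mod_cast hd'pos.ne') h7
      rw [← neg_sub] at this
      exact (dvd_neg.mp this)
    · intro h7
      have : (e : ℤ) ∣ (k : ℤ) - t' := by
        rw [← neg_sub]; exact (dvd_neg.mpr h7)
      exact mul_dvd_mul_left _ this
  have hmod_nonneg : 0 ≤ t' % (e : ℤ) := Int.emod_nonneg _ (by exact_mod_cast hepos.ne')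
  have hmod_lt : t' % (e : ℤ) < e := Int.emod_lt_of_pos _ (by exact_mod_cast hepos)
  refine ⟨(t' % (e : ℤ)).toNat, ⟨?_, ?_⟩, ?_⟩
  · have : ((t' % (e : ℤ)).toNat : ℤ) < e := by rw [Int.toNat_of_nonneg hmod_nonneg]; exact hmod_lt
    exact_mod_cast this
  · rw [key, Int.toNat_of_nonneg hmod_nonneg]
    exact Int.dvd_self_sub_of_emod_eq rfl
  · rintro k ⟨hk1, hk2⟩
    rw [key] at hk2
    have h8 : (e : ℤ) ∣ ((t' % (e : ℤ)).toNat : ℤ) - k := by
      rw [Int.toNat_of_nonneg hmod_nonneg]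
      have h9 : (e : ℤ) ∣ t' - t' % (e : ℤ) := Int.dvd_self_sub_of_emod_eq rfl
      have : t' % (e : ℤ) - k = (t' - k) - (t' - t' % (e : ℤ)) := by ring
      rw [this]
      exact dvd_sub hk2 h9
    have h10 : ((t' % (e : ℤ)).toNat : ℤ) ≡ (k : ℤ) [ZMOD (e : ℤ)] :=
      (Int.modEq_iff_dvd.mpr (by rw [← neg_sub]; exact dvd_neg.mpr h8))
    have h11 := (Int.natCast_modEq_iff.mp h10)
    have hlt : (t' % (e : ℤ)).toNat < e := by
      have : ((t' % (e : ℤ)).toNat : ℤ) < e := by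
        rw [Int.toNat_of_nonneg hmod_nonneg]; exact hmod_lt
      exact_mod_cast this
    exact (Nat.ModEq.eq_of_lt_of_lt h11 hlt hk1).symm

theorem nat_div_eq_div_mul_div {e d m : ℕ} (he : 0 < e) (hd : 0 < d) (hed : e ∣ d) (hdm : d ∣ m) :
    m / e = m / d * (d / e) := by
  obtain ⟨d', rfl⟩ := hed
  obtain ⟨q, rfl⟩ := hdm
  rw [Nat.mul_div_cancel_left _ hd, Nat.mul_div_cancel_left _ he, mul_assoc,
    Nat.mul_div_cancel_left _ he, mul_comm]

theorem prod_zpow_sub_eq {G : Type*} [CommGroup G] {n : ℕ} (γ : Fin n → G) (a b : Fin n → ℕ) :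
    ∏ i, γ i ^ ((b i : ℤ) - (a i : ℤ)) = (∏ i, γ i ^ b i) * (∏ i, γ i ^ a i)⁻¹ := by
  rw [← Finset.prod_inv_distrib, ← Finset.prod_mul_distrib]
  refine Finset.prod_congr rfl (fun i _ => ?_)
  rw [zpow_sub, zpow_natCast, zpow_natCast]

end grp

section model

variable {R : Type u} [CommRing R] [IsDomain R] [IsDiscreteValuationRing R]
  {C Y : Scheme.{u}} (f : C ⟶ Spec (CommRingCat.of (FractionRing R)))
  (p : Y ⟶ Spec (CommRingCat.of R)) (hX : Models.IsRegularProperModel R Y p C f)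
  (hH0 : IsIso f.appTop)
  {n : ℕ} (Γ : Fin n → ArSurf.VertComp R (Over.mk p))
  (hΓ : Models.IsComponentList R (Over.mk p) Γ)
  (L : Fin n → Y.Modules)
  (hL : ∀ j, ClSub.IsInverseOf (L j) (ClSub.idealMod (Γ j).ι.ker))
  (g : C ⟶ Y)
  (hg : IsPullback g f p (Spec.map (CommRingCat.ofHom (algebraMap R (FractionRing R)))))
include hX hH0 hΓ hL

/-- the kernel of `ℤⁿ → Pic(X)` is generated by the multiplicity vector (integer exponents). -/
theorem prod_clsOf_zpow_eq_one_iff (v : Fin n → ℤ) :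
    ∏ i, clsOf (L i) ^ v i = 1 ↔
      ∃ e : ℤ, ∀ i, v i = e * (Models.mult R (Over.mk p) (Γ i) : ℤ) := by
  have hp : IsProper (Over.mk p).hom := hX.2.1
  have hLi : ∀ j, PicF.IsInvertible (L j) := fun j => (inverse_facts _ _ (hL j)).2.2
  have H1 := prod_clsOf_pow_mult f p hX hH0 Γ hΓ L hL
  constructor
  · intro h
    obtain ⟨c, hc⟩ := exists_rat_of_inter_eq_zero f p hX hH0 Γ hΓ L hL v (fun i => by
      have h1 := degZ_prod_zpow hp (Γ i) L hLi v
      rw [h, degZ_one] at h1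
      rw [h1]
      exact Finset.sum_congr rfl (fun j _ => mul_comm _ _))
    exact exists_int_mul_of_prod_zpow_eq_one (fun i => clsOf (L i))
      (fun i => Models.mult R (Over.mk p) (Γ i))
      (dvd_of_prod_clsOf_pow_eq_one f p hX hH0 Γ hΓ L hL) v c hc h
  · rintro ⟨e, he⟩
    rw [Finset.prod_congr rfl (fun i _ => by rw [he i])]
    exact prod_zpow_mul_eq_one _ _ H1 e

include hg

/-- **S19918**. -/
theorem existsUnique_torsion_kernel (h : ℕ) (hh : 0 < h)
    (M : Y.Modules) (hM : PicF.IsInvertible M)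
    (htors : Nonempty (CohB1.tensorPow M h ≅ Coh.structureModule Y))
    (htriv : Nonempty ((Scheme.Modules.pullback g).obj M ≅ Coh.structureModule C)) :
    ∃! k : ℕ, k < Nat.gcd h (Models.multGcd R (Over.mk p) Γ) ∧
      Nonempty (M ≅ FGA.multiTwist L (fun i => k * (Models.mult R (Over.mk p) (Γ i) /
        Nat.gcd h (Models.multGcd R (Over.mk p) Γ)))) := by
  haveI : Flat (Over.mk p).hom := hX.1.1
  have hLi : ∀ j, PicF.IsInvertible (L j) := fun j => (inverse_facts _ _ (hL j)).2.2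
  have hdeg : ∀ i, ArSurf.inter R (Over.mk p) M (Γ i) = 0 := fun i =>
    inter_eq_zero_of_torsion f p hX hH0 Γ hΓ L hL g hg h hh M hM htors (Γ i)
  obtain ⟨t, ht⟩ := exists_zpow_of_inter_eq_zero f p hX hH0 Γ hΓ L hL g hg M hM htriv hdeg
  have H1 := prod_clsOf_pow_mult f p hX hH0 Γ hΓ L hL
  have hord := orderOf_prod_pow_div_gcd (fun i => clsOf (L i))
    (fun i => Models.mult R (Over.mk p) (Γ i)) H1
    (dvd_of_prod_clsOf_pow_eq_one f p hX hH0 Γ hΓ L hL)
  have hdpos : 0 < Finset.univ.gcd (fun i => Models.mult R (Over.mk p) (Γ i)) :=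
    multGcd_pos f p hX hH0 Γ hΓ
  have h1 : clsOf M ^ h = 1 := by
    rw [← clsOf_pow hM h]
    exact (clsOf_eq_one_iff (isInvertible_tensorPow hM h)).mpr htors
  rw [ht] at h1
  have hU := existsUnique_lt_gcd _ _ hord hdpos h hh t h1
  have hepos : 0 < Nat.gcd h (Finset.univ.gcd (fun i => Models.mult R (Over.mk p) (Γ i))) :=
    Nat.gcd_pos_of_pos_left _ hh
  refine (existsUnique_congr (fun k => and_congr_right (fun _ => ?_))).mp hU
  change _ ↔ Nonempty (M ≅ FGA.multiTwist L (fun i => k * (Models.mult R (Over.mk p) (Γ i) /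
    Nat.gcd h (Finset.univ.gcd (fun i => Models.mult R (Over.mk p) (Γ i))))))
  rw [← clsOf_eq_iff hM (clsOf_multiTwist L hLi _).1, (clsOf_multiTwist L hLi _).2, ht,
    ← Finset.prod_pow]
  have h2 : ∀ i, (clsOf (L i) ^ (Models.mult R (Over.mk p) (Γ i) /
      Finset.univ.gcd (fun i => Models.mult R (Over.mk p) (Γ i)))) ^
        (Finset.univ.gcd (fun i => Models.mult R (Over.mk p) (Γ i)) /
          Nat.gcd h (Finset.univ.gcd (fun i => Models.mult R (Over.mk p) (Γ i))) * k) =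
      clsOf (L i) ^ (k * (Models.mult R (Over.mk p) (Γ i) /
        Nat.gcd h (Finset.univ.gcd (fun i => Models.mult R (Over.mk p) (Γ i))))) := by
    intro i
    rw [← pow_mul, nat_div_eq_div_mul_div hepos hdpos (Nat.gcd_dvd_right _ _)
      (Finset.gcd_dvd (Finset.mem_univ i))]
    congr 1
    ring
  rw [Finset.prod_congr rfl (fun i _ => h2 i)]

/-- **S19924**. -/
theorem exists_torsion_lift_iff (h : ℕ)
    (N : C.Modules) (hN : PicF.IsInvertible N)
    (M : Y.Modules) (hM : PicF.IsInvertible M)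
    (hMN : Nonempty ((Scheme.Modules.pullback g).obj M ≅ N)) (a b : Fin n → ℕ)
    (hab : Nonempty (CohB1.tensorMod (CohB1.tensorPow M h) (FGA.multiTwist L a) ≅
      FGA.multiTwist L b)) :
    (∃ M' : Y.Modules, PicF.IsInvertible M' ∧
        Nonempty (CohB1.tensorPow M' h ≅ Coh.structureModule Y) ∧
        Nonempty ((Scheme.Modules.pullback g).obj M' ≅ N)) ↔
      ∃ (c : Fin n → ℤ) (e : ℤ), ∀ i, ((b i : ℤ) - (a i : ℤ)) =
        (h : ℤ) * c i + e * (Models.mult R (Over.mk p) (Γ i) : ℤ) := by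
  have hLi : ∀ j, PicF.IsInvertible (L j) := fun j => (inverse_facts _ _ (hL j)).2.2
  have hπμ : pbHom g (clsOf M) = clsOf N := by
    rw [pbHom_clsOf g M hM]
    obtain ⟨e⟩ := hMN
    exact clsOf_iso e (isInvertible_pullback g hM)
  have hw : clsOf M ^ h = ∏ i, clsOf (L i) ^ ((b i : ℤ) - (a i : ℤ)) := by
    have h1 := (clsOf_eq_iff (isInvertible_tensorMod (isInvertible_tensorPow hM h)
      (clsOf_multiTwist L hLi a).1) (clsOf_multiTwist L hLi b).1).mpr hab
    rw [clsOf_tensor (isInvertible_tensorPow hM h) (clsOf_multiTwist L hLi a).1,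
      clsOf_pow hM h, (clsOf_multiTwist L hLi a).2, (clsOf_multiTwist L hLi b).2] at h1
    rw [prod_zpow_sub_eq, ← h1, mul_inv_cancel_right]
  constructor
  · rintro ⟨M', hM', ht', ⟨e'⟩⟩
    have hμ' : clsOf M' ^ h = 1 := by
      rw [← clsOf_pow hM' h]
      exact (clsOf_eq_one_iff (isInvertible_tensorPow hM' h)).mpr ht'
    have hπμ' : pbHom g (clsOf M') = clsOf N := by
      rw [pbHom_clsOf g M' hM']
      exact clsOf_iso e' (isInvertible_pullback g hM')
    obtain ⟨Q, hQ, hQx⟩ := exists_clsOf_eq (clsOf M * (clsOf M')⁻¹)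
    have htriv : Nonempty ((Scheme.Modules.pullback g).obj Q ≅ Coh.structureModule C) :=
      (clsOf_eq_one_iff (isInvertible_pullback g hQ)).mp (by
        rw [← pbHom_clsOf g Q hQ, hQx, map_mul, map_inv, hπμ, hπμ', mul_inv_cancel])
    obtain ⟨c, hc⟩ := exists_clsOf_eq_multiTwist f p hX Γ hΓ L hL g hg Q hQ htriv
    rw [hQx, (clsOf_multiTwist L hLi c).2] at hc
    have hμ : clsOf M = clsOf M' * ∏ i, clsOf (L i) ^ c i := by
      rw [← hc, mul_comm (clsOf M), mul_inv_cancel_left]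
    have h2 : ∏ i, clsOf (L i) ^ (((b i : ℤ) - (a i : ℤ)) - (h : ℤ) * (c i : ℤ)) = 1 := by
      have h3 : ∀ i, clsOf (L i) ^ (((b i : ℤ) - (a i : ℤ)) - (h : ℤ) * (c i : ℤ)) =
          clsOf (L i) ^ ((b i : ℤ) - (a i : ℤ)) * ((clsOf (L i) ^ c i) ^ h)⁻¹ := by
        intro i
        rw [zpow_sub, mul_comm (h : ℤ), zpow_mul, zpow_natCast, zpow_natCast]
      rw [Finset.prod_congr rfl (fun i _ => h3 i), Finset.prod_mul_distrib,
        Finset.prod_inv_distrib, Finset.prod_pow, ← hw, hμ, mul_pow, hμ', one_mul,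
        mul_inv_cancel]
    obtain ⟨e, he⟩ := (prod_clsOf_zpow_eq_one_iff f p hX hH0 Γ hΓ L hL _).mp h2
    exact ⟨fun i => (c i : ℤ), e, fun i => by have := he i; linarith⟩
  · rintro ⟨c, e, hce⟩
    obtain ⟨M', hM', hx'⟩ := exists_clsOf_eq (clsOf M * (∏ i, clsOf (L i) ^ c i)⁻¹)
    refine ⟨M', hM', ?_, ?_⟩
    · refine (clsOf_eq_one_iff (isInvertible_tensorPow hM' h)).mp ?_
      rw [clsOf_pow hM' h, hx', mul_pow, hw, inv_pow, ← Finset.prod_pow, ← Finset.prod_inv_distrib,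
        ← Finset.prod_mul_distrib]
      have h3 : ∀ i, clsOf (L i) ^ ((b i : ℤ) - (a i : ℤ)) * ((clsOf (L i) ^ c i) ^ h)⁻¹ =
          clsOf (L i) ^ (e * (Models.mult R (Over.mk p) (Γ i) : ℤ)) := by
        intro i
        rw [← zpow_natCast (clsOf (L i) ^ c i) h, ← zpow_mul, ← zpow_neg, ← zpow_add]
        congr 1
        have := hce i
        linarith
      rw [Finset.prod_congr rfl (fun i _ => h3 i)]
      exact prod_zpow_mul_eq_one _ _ (prod_clsOf_pow_mult f p hX hH0 Γ hΓ L hL) e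
    · refine (clsOf_eq_iff (isInvertible_pullback g hM') hN).mp ?_
      rw [← pbHom_clsOf g M' hM', hx', map_mul, map_inv, pbHom_prod_zpow f p Γ L hL g hg c,
        inv_one, mul_one, hπμ]

end model

end Groth.Agent.H5.ArS
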