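import Mathlib
import Groth.Agent.Lib.Helper5.ArS.FibDec
import Groth.Agent.Lib.Helper5.ArS.FibPts
import Groth.Agent.Lib.Lead.Stein.Birational
import Groth.Agent.Lib.Helper6.HC2
import Groth.Agent.Lib.Helper1.BirCodim1
import Groth.Agent.Lib.Helper1.PushO4
import Groth.Agent.Lib.Helper1.DimIneqE

/-!
# A proper birational morphism to a normal flat scheme over a DVR does not contract a clopen part
of the closed fibre to a point (unless that part is a single point)
-/

set_option autoImplicit false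
set_option linter.style.haveILetI false
universe u
open CategoryTheory CategoryTheory.Limits AlgebraicGeometry TopologicalSpace Opposite

namespace Groth.Agent.H5.ArS

open Groth.Agent.LD Groth.Agent.LD.QC

variable {R : Type u} [CommRing R] [IsDomain R] [IsDiscreteValuationRing R]

/-- Let `f : X ⟶ Y` be proper birational, `Y` normal integral locally Noetherian over a discrete
valuation ring.  If a closed subset `T` of `f⁻¹(y)` with at least two points is open in the
preimage of the closed fibre (its complement there being the closed set `C`), we get a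
contradiction. -/
theorem false_of_clopen_contracted (Y : Over (Spec (CommRingCat.of R))) [IsIntegral Y.left]
    [IsLocallyNoetherian Y.left]
    (hnor : ∀ q : Y.left, IsIntegrallyClosed (Y.left.presheaf.stalk q))
    {X : Scheme.{u}} [IsIntegral X] (f : X ⟶ Y.left) [IsProper f]
    (hbir : ∃ U : Y.left.Opens, (U : Set Y.left).Nonempty ∧ IsIso (f ∣_ U))
    (y : Y.left) (hys : y ∈ Models.specialFibreSet R Y)
    (T C : Set X) (hT : IsClosed T) (hC : IsClosed C) (hTC : Disjoint T C)
    (hcov : f.base ⁻¹' (Models.specialFibreSet R Y) ⊆ T ∪ C)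
    (hTy : T ⊆ f.base ⁻¹' {y}) (x₁ x₂ : X) (h₁ : x₁ ∈ T) (h₂ : x₂ ∈ T) (hne : x₁ ≠ x₂) :
    False := by
  obtain ⟨ϖ, hϖ⟩ := IsDiscreteValuationRing.exists_irreducible R
  have hbir' := hbir
  obtain ⟨U, hU, hfU⟩ := hbir
  obtain ⟨hgen, hbirs⟩ := Groth.Agent.H1.PushO.birational_of_isIso_morphismRestrict f U hU hfU
  have hY : Pi1.IsNormalScheme Y.left := fun q => ⟨inferInstance, hnor q⟩
  haveI := Groth.Agent.LD.Stein.connectedSpace_fiber_of_birational (f := f)
    Groth.Agent.H6.HC.finCoh Groth.Agent.H6.HC.formalBij hY hgen hbirs y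
  have hF : _root_.IsPreconnected (f.base ⁻¹' {y}) := by
    rw [← Scheme.Hom.range_fiberι]
    exact isPreconnected_range (f.fiberι y).continuous
  have hFsub : f.base ⁻¹' {y} ⊆ T ∪ C := by
    intro x hx
    apply hcov
    rw [Set.mem_preimage, Set.mem_singleton_iff] at hx
    rw [Set.mem_preimage, hx]
    exact hys
  have hFC : ∀ c ∈ C, f.base c ≠ y := by
    intro c hc hcy
    obtain ⟨z, hz, hzT, hzC⟩ := (isPreconnected_closed_iff.mp hF) T C hT hC hFsub
      ⟨x₁, hTy h₁, h₁⟩ ⟨c, hcy, hc⟩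
    exact Set.disjoint_left.mp hTC hzT hzC
  -- surjectivity
  have hsurj : Function.Surjective f.base := by
    have hcl : IsClosed (Set.range f.base) := f.isClosedMap.isClosed_range
    have hmem : genericPoint Y.left ∈ Set.range f.base := ⟨genericPoint X, hgen⟩
    have huniv : Set.range f.base = Set.univ := by
      apply Set.eq_univ_of_univ_subset
      rw [← (genericPoint_spec Y.left)]
      exact hcl.closure_subset_iff.mpr (Set.singleton_subset_iff.mpr hmem)
    exact Set.range_eq_univ.mp huniv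
  -- the open neighbourhood of `y`
  have hfC : IsClosed (f.base '' C) := f.isClosedMap C hC
  let V₀ : Y.left.Opens := ⟨(f.base '' C)ᶜ, hfC.isOpen_compl⟩
  have hyV₀ : y ∈ V₀ := by
    rintro ⟨c, hc, hcy⟩
    exact hFC c hc hcy
  obtain ⟨W, hW, hyW, hWV⟩ := exists_isAffineOpen_mem_and_subset (x := y) (U := V₀) hyV₀
  have honly : ∀ z : Y.left, z ∈ W → z ∈ Models.specialFibreSet R Y → z = y := by
    intro z hzW hzs
    obtain ⟨x, rfl⟩ := hsurj z
    rcases hcov hzs with hxT | hxC
    · exact hTy hxT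
    · exact absurd ⟨x, hxC, rfl⟩ (hWV hzW)
  haveI : IsNoetherianRing Γ(Y.left, W) := IsLocallyNoetherian.component_noetherian ⟨W, hW⟩
  have hmin : (hW.primeIdealOf ⟨y, hyW⟩).asIdeal ∈
      (Ideal.span {toSec Y W ϖ}).minimalPrimes := by
    refine ⟨⟨(hW.primeIdealOf ⟨y, hyW⟩).isPrime, ?_⟩, ?_⟩
    · rw [Ideal.span_singleton_le_iff_mem]
      exact (mem_specialFibreSet_iff hW y hyW ϖ hϖ).mp hys
    · rintro q ⟨hq, hle⟩ hqp
      let z : Y.left := hW.fromSpec ⟨q, hq⟩
      have hzW : z ∈ W := fromSpec_mem hW ⟨q, hq⟩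
      have hzq : hW.primeIdealOf ⟨z, hzW⟩ = ⟨q, hq⟩ := primeIdealOf_fromSpec hW ⟨q, hq⟩
      have hzs : z ∈ Models.specialFibreSet R Y := by
        rw [mem_specialFibreSet_iff hW z hzW ϖ hϖ, hzq]
        exact (Ideal.span_singleton_le_iff_mem _).mp hle
      have hzy : z = y := honly z hzW hzs
      have h3 : (hW.primeIdealOf ⟨y, hyW⟩).asIdeal = (hW.primeIdealOf ⟨z, hzW⟩).asIdeal := by
        congr 2
        exact Subtype.ext hzy.symm
      rw [h3, hzq]
  have hht : (hW.primeIdealOf ⟨y, hyW⟩).asIdeal.height ≤ 1 :=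
    Ideal.height_le_one_of_isPrincipal_of_mem_minimalPrimes _ _ hmin
  have hdim : ringKrullDim (Y.left.presheaf.stalk y) ≤ 1 := by
    rw [Groth.Agent.H1.DimIneq.ringKrullDim_stalk_eq_height hW y hyW]
    exact_mod_cast hht
  obtain ⟨V, hyV, hV⟩ := Groth.Agent.H1.BirCodim1.s14523 hnor f hbir' y hdim
  have hinj : Function.Injective (f ∣_ V).base := (f ∣_ V).homeomorph.injective
  have hx₁V : x₁ ∈ f ⁻¹ᵁ V := by
    change f.base x₁ ∈ V
    rw [hTy h₁]
    exact hyV
  have hx₂V : x₂ ∈ f ⁻¹ᵁ V := by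
    change f.base x₂ ∈ V
    rw [hTy h₂]
    exact hyV
  have heq : (f ∣_ V).base ⟨x₁, hx₁V⟩ = (f ∣_ V).base ⟨x₂, hx₂V⟩ := by
    apply Subtype.ext
    rw [morphismRestrict_base_coe, morphismRestrict_base_coe]
    exact (hTy h₁).trans (hTy h₂).symm
  exact hne (congrArg Subtype.val (hinj heq))

end Groth.Agent.H5.ArS
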