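import Mathlib
import Groth.Agent.Lib.Helper5.ArS.Resid
import Groth.Agent.Lib.Lead.QC.InvBasis

/-!
# The residual divisor, with the converse support property
-/

set_option autoImplicit false
set_option linter.style.haveILetI false
universe u
open CategoryTheory CategoryTheory.Limits AlgebraicGeometry TopologicalSpace Opposite

namespace Groth.Agent.H5.ArS

open Groth.Agent.LD Groth.Agent.LD.QC Groth.Agent.H5.Glue Groth.Agent.H5.LinEq

variable {X : Scheme.{u}}

/-- **the residual divisor**, with both support properties: the support of `J` is exactly the set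
of points near which `D₁ ≠ D₂`. -/
theorem exists_residual' (D₁ D₂ : X.IdealSheafData) (h₁ : BlowUp.IsEffCartierIdeal D₁)
    (hle : D₂ ≤ D₁) (φ : unitMod X ≅ ClSub.idealMod D₂) :
    ∃ J : X.IdealSheafData, BlowUp.IsEffCartierIdeal J ∧
      ClSub.IsInverseOf (ClSub.idealMod D₁) (ClSub.idealMod J) ∧
      (∀ (x : X) (W₀ : X.affineOpens), x ∈ W₀.1 → D₁.ideal W₀ ≤ D₂.ideal W₀ →
        x ∉ (J.support : Set X)) ∧
      (∀ x : X, x ∉ (J.support : Set X) →
        ∃ W : X.affineOpens, x ∈ W.1 ∧ D₁.ideal W ≤ D₂.ideal W) := by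
  have hL : PicF.IsInvertible (ClSub.idealMod D₁) := (isInvertible_idealMod_iff D₁).mpr h₁
  obtain ⟨M, hM, ⟨ε⟩⟩ := exists_inverse _ hL
  haveI : M.IsQuasicoherent := qc_of_isInvertible M hM
  let s : Coh.structureModule X ⟶ ClSub.idealMod D₁ := φ.hom ≫ idealModIncl hle
  haveI : Mono (idealModIncl hle) := by
    apply (config := { allowSynthFailures := true }) mono_of_mono_fac (idealModIncl_ι hle)
  haveI : Mono s := mono_comp _ _
  obtain ⟨ψ⟩ := nonempty_iso_idealMod_zeroScheme (ClSub.idealMod D₁) M ε s hL hM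
  have hinv : ClSub.IsInverseOf (ClSub.idealMod D₁)
      (ClSub.idealMod (PicF2.zeroScheme (ClSub.idealMod D₁) s)) :=
    ⟨(tensorIso' (Iso.refl _) ψ.symm) ≪≫ ε⟩
  refine ⟨PicF2.zeroScheme (ClSub.idealMod D₁) s, ?_, hinv, ?_, ?_⟩
  · exact (inverse_facts _ _ hinv).1
  · intro x W₀ hx h
    rw [support_zeroScheme _ hL s]
    intro hxc
    apply hxc
    refine Groth.Agent.H5.Curve6.mem_genLocus_of_locSurjAt hL s x ?_
    exact LocSurjAt.comp (locSurjAt_of_epi φ.hom x) (locSurjAt_idealModIncl hle x W₀ hx h)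
  · intro x hx
    rw [support_zeroScheme _ hL s] at hx
    have hxg : x ∈ CohB1.genLocus (ClSub.idealMod D₁) s := by
      by_contra hcon
      exact hx hcon
    obtain ⟨W, hW, hxW, hWle⟩ := exists_isAffineOpen_mem_and_subset (x := x)
      (U := CohB1.genLocus (ClSub.idealMod D₁) s) hxg
    have hbij := (le_genLocus_iff (ClSub.idealMod D₁) s (CohB1.genLocus (ClSub.idealMod D₁) s)).mp
      le_rfl W hWle
    refine ⟨⟨W, hW⟩, hxW, ?_⟩
    intro d hd
    obtain ⟨t, ht⟩ := (exists_idealModι_app_eq_iff D₁ ⟨W, hW⟩ d).mpr hd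
    obtain ⟨a, ha⟩ := hbij.2 t
    apply (exists_idealModι_app_eq_iff D₂ ⟨W, hW⟩ d).mp
    refine ⟨φ.hom.app W a, ?_⟩
    rw [← ht, ← ha, ← idealModIncl_ι hle]
    rfl

end Groth.Agent.H5.ArS
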