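import Mathlib
import Groth.Agent.Lib.Helper5.ArS.NegSemi
import Groth.Agent.Lib.Helper5.ArS.GraphLA3
import Groth.Agent.Lib.Helper5.ArS.Resid2
import Groth.Agent.Lib.Helper5.ArS.CohFlat
import Groth.Agent.Lib.Helper5.ArS.FibPts

/-!
# The equality case of negative semi-definiteness: the support is open and closed in the fibre
-/

set_option autoImplicit false
set_option linter.style.haveILetI false
universe u
open CategoryTheory CategoryTheory.Limits AlgebraicGeometry TopologicalSpace Opposite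

namespace Groth.Agent.H5.ArS

open Groth.Agent.LD Groth.Agent.LD.QC

variable {R : Type u} [CommRing R] [IsDomain R] [IsDiscreteValuationRing R]
  {X : Over (Spec (CommRingCat.of R))}

/-- if the intersection form vanishes at the integer vector `a` (on a family of pairwise distinct
vertical prime divisors of an arithmetic surface), the union of the `Γ_i` with `a_i ≠ 0` is open
and closed in the closed fibre. -/
theorem exists_closed_compl_of_quad_eq_zero (hX : ArSurf.IsArithSurface R X) {ι : Type u}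
    [Fintype ι] (Γ : ι → ArSurf.VertComp R X)
    (hinj : Function.Injective fun i => Set.range (Γ i).ι)
    (L : ι → X.left.Modules)
    (hL : ∀ j, ClSub.IsInverseOf (L j) (ClSub.idealMod (Γ j).ι.ker)) (a : ι → ℤ)
    (h0 : ∑ i, ∑ j, a i * a j * ArSurf.inter R X (L j) (Γ i) = 0) :
    ∃ C : Set X.left, IsClosed C ∧ Disjoint (⋃ i ∈ {i | a i ≠ 0}, Set.range (Γ i).ι) C ∧
      Models.specialFibreSet R X ⊆ (⋃ i ∈ {i | a i ≠ 0}, Set.range (Γ i).ι) ∪ C := by
  classical
  by_cases hS : ∃ i, a i ≠ 0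
  swap
  · push Not at hS
    refine ⟨Models.specialFibreSet R X, Models.isClosed_specialFibreSet R X, ?_,
      Set.subset_union_right⟩
    rw [Set.disjoint_left]
    intro x hx
    simp only [Set.mem_iUnion] at hx
    obtain ⟨i, hi, -⟩ := hx
    exact absurd (hS i) hi
  obtain ⟨i₀, hi₀⟩ := hS
  have hp := isProper_hom_of_isArithSurface R X hX
  haveI : Flat X.hom := hX.2.2.2.1
  haveI : LocallyOfFiniteType X.hom := inferInstance
  haveI : IsLocallyNoetherian X.left := LocallyOfFiniteType.isLocallyNoetherian X.hom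
  have hreg := hX.1
  have hmem := fun i => range_mem_fibreComponents hX (Γ i)
  have hI : ∀ j, BlowUp.IsEffCartierIdeal (Γ j).ι.ker :=
    fun j => (inverse_facts _ _ (hL j)).1
  have hIS : BlowUp.IsEffCartierIdeal (∏ j, (Γ j).ι.ker ^ Models.mult R X (Γ j)) := by
    haveI : IsProper ((Γ i₀).curve.left ↘ Spec (CommRingCat.of (IsLocalRing.ResidueField R))) :=
      isProper_curve_hom hp (Γ i₀)
    exact (pdeg_idealMod_prod (IsLocalRing.ResidueField R) (Γ i₀).ι
      (dim_curve_le (Γ i₀)) Finset.univ (fun j => (Γ j).ι.ker) hI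
      (fun j => Models.mult R X (Γ j))).1
  have hle := specialFibreIdeal_le_prod hreg Γ hinj hmem
  obtain ⟨φ⟩ := nonempty_unit_iso_idealMod_specialFibreIdeal (X := X)
  obtain ⟨J, hJ, hinv, hsupp, hconv⟩ := exists_residual' _ _ hIS hle φ
  have hISinv : PicF.IsInvertible
      (ClSub.idealMod (∏ j, (Γ j).ι.ker ^ Models.mult R X (Γ j))) :=
    (isInvertible_idealMod_iff _).mpr hIS
  -- the row sums
  have hrow : ∀ i, ∑ j, (Models.mult R X (Γ j) : ℤ) * ArSurf.inter R X (L j) (Γ i) ≤ 0 ∧
      (∑ j, (Models.mult R X (Γ j) : ℤ) * ArSurf.inter R X (L j) (Γ i) = 0 →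
        Disjoint (Set.range (Γ i).ι) (J.support : Set X.left)) := by
    intro i
    haveI : IsProper ((Γ i).curve.left ↘ Spec (CommRingCat.of (IsLocalRing.ResidueField R))) :=
      isProper_curve_hom hp (Γ i)
    obtain ⟨-, h1⟩ := pdeg_idealMod_prod (IsLocalRing.ResidueField R) (Γ i).ι
      (dim_curve_le (Γ i)) Finset.univ (fun j => (Γ j).ι.ker) hI (fun j => Models.mult R X (Γ j))
    obtain ⟨W, hξW, hW⟩ := exists_affine_prod_le_specialFibreIdeal hreg Γ hmem i
    have hξ : (Γ i).ι (genericPoint (Γ i).curve.left) ∉ (J.support : Set X.left) :=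
      hsupp _ W hξW hW
    obtain ⟨h0', h0iff⟩ := inter_nonneg_and_eq_zero_iff hp (Γ i) J hJ hξ _ hinv
    have h3 : ArSurf.inter R X (ClSub.idealMod (∏ j, (Γ j).ι.ker ^ Models.mult R X (Γ j))) (Γ i) =
        pdeg (IsLocalRing.ResidueField R) (Γ i).ι
          (ClSub.idealMod (∏ j, (Γ j).ι.ker ^ Models.mult R X (Γ j))) := by
      unfold ArSurf.inter pdeg
      exact curveDeg_eq_deg _ (dim_curve_le (Γ i)) _ (isInvertible_pullback (Γ i).ι hISinv)
    have h2 : ∀ j, ArSurf.inter R X (L j) (Γ i) =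
        - pdeg (IsLocalRing.ResidueField R) (Γ i).ι (ClSub.idealMod (Γ j).ι.ker) :=
      fun j => inter_eq_neg_pdeg hp (Γ i) _ (hI j) (L j) (hL j)
    have hsum : ∑ j, (Models.mult R X (Γ j) : ℤ) * ArSurf.inter R X (L j) (Γ i) =
        - ArSurf.inter R X (ClSub.idealMod (∏ j, (Γ j).ι.ker ^ Models.mult R X (Γ j))) (Γ i) := by
      rw [h3, h1]
      simp only [h2, mul_neg, Finset.sum_neg_distrib]
    refine ⟨by rw [hsum]; linarith, fun hz => ?_⟩
    apply h0iff.mp
    rw [hsum] at hz
    linarith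
  have hne : ∀ i j, i ≠ j → Set.range (Γ i).ι ≠ Set.range (Γ j).ι :=
    fun i j hij h => hij (hinj h)
  have hoffiff : ∀ i j, i ≠ j → (0 ≤ ArSurf.inter R X (L j) (Γ i) ∧
      (ArSurf.inter R X (L j) (Γ i) = 0 ↔
        Disjoint (Set.range (Γ i).ι) ((Γ j).ι.ker.support : Set X.left))) :=
    fun i j hij => inter_nonneg_and_eq_zero_iff hp (Γ i) (Γ j).ι.ker (hI j)
      (genericPoint_notMem_of_ne (Γ i) (Γ j) (hne i j hij)) (L j) (hL j)
  have hn : ∀ i, 0 < (Models.mult R X (Γ i) : ℤ) := fun i => by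
    exact_mod_cast mult_pos_of_mem hreg (Γ i) (hmem i)
  obtain ⟨hadj, hvan⟩ := quad_eq_zero_facts (fun i j => ArSurf.inter R X (L j) (Γ i))
    (fun i => (Models.mult R X (Γ i) : ℤ))
    (fun i j => by
      by_cases hij : i = j
      · subst hij
        rfl
      · exact inter_symm hp (Γ i) (Γ j) (hne i j hij) (L i) (L j) (hL i) (hL j))
    (fun i j hij => (hoffiff i j hij).1) hn (fun i => (hrow i).1) a h0
  refine ⟨(⋃ j ∈ {j | a j = 0}, Set.range (Γ j).ι) ∪ (J.support : Set X.left), ?_, ?_, ?_⟩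
  · refine IsClosed.union ?_ J.support.isClosed
    exact Set.Finite.isClosed_biUnion (Set.toFinite _) (fun j _ => (range_ι_facts (Γ j)).1)
  · rw [Set.disjoint_left]
    intro x hx hxC
    simp only [Set.mem_iUnion] at hx
    obtain ⟨i, hi, hxi⟩ := hx
    have hi' : a i ≠ 0 := hi
    rcases hxC with hxC | hxJ
    · simp only [Set.mem_iUnion] at hxC
      obtain ⟨j, hj, hxj⟩ := hxC
      have hj' : a j = 0 := hj
      have hij : i ≠ j := fun h => hi' (h ▸ hj')
      have hzero : ArSurf.inter R X (L j) (Γ i) = 0 := by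
        by_contra hnz
        have h5 := hadj i j hij hnz
        rw [hj', zero_mul] at h5
        rcases mul_eq_zero.mp h5 with h6 | h6
        · exact hi' h6
        · exact (hn j).ne' h6
      have hdis := (hoffiff i j hij).2.mp hzero
      rw [support_ker_ι] at hdis
      exact Set.disjoint_left.mp hdis hxi hxj
    · have hz : ∑ j, (Models.mult R X (Γ j) : ℤ) * ArSurf.inter R X (L j) (Γ i) = 0 := by
        by_contra hnz
        exact hi' (hvan i hnz)
      exact Set.disjoint_left.mp ((hrow i).2 hz) hxi hxJ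
  · intro x hx
    by_cases hxJ : x ∈ (J.support : Set X.left)
    · exact Or.inr (Or.inr hxJ)
    obtain ⟨W, hxW, hW⟩ := hconv x hxJ
    have hx2 : x ∈ (Models.specialFibreIdeal R X).support := by
      have := support_specialFibreIdeal (R := R) (X := X)
      rw [← this] at hx
      exact hx
    rw [mem_support_iff W.2 _ x hxW] at hx2
    have h1 := hW.trans hx2
    rw [ideal_prod_pow] at h1
    obtain ⟨j, -, hj⟩ := ((W.2.primeIdealOf ⟨x, hxW⟩).isPrime.prod_le).mp h1
    have hj2 : (Γ j).ι.ker.ideal W ≤ (W.2.primeIdealOf ⟨x, hxW⟩).asIdeal :=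
      (W.2.primeIdealOf ⟨x, hxW⟩).isPrime.le_of_pow_le hj
    have hxj : x ∈ Set.range (Γ j).ι := by
      rw [← support_ker_ι]
      exact (mem_support_iff W.2 _ x hxW).mpr hj2
    by_cases haj : a j = 0
    · refine Or.inr (Or.inl ?_)
      simp only [Set.mem_iUnion]
      exact ⟨j, haj, hxj⟩
    · refine Or.inl ?_
      simp only [Set.mem_iUnion]
      exact ⟨j, haj, hxj⟩

end Groth.Agent.H5.ArS
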