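import Mathlib
import Groth.Agent.Lib.Helper5.ArS.NegDefNum
import Groth.Agent.Lib.Helper5.ArS.NegDefGeo
import Groth.Agent.Lib.Helper5.ArS.FibKer

/-!
# The intersection form on the components of an exceptional fibre is negative definite (S7907)
-/

set_option autoImplicit false
set_option linter.style.haveILetI false
universe u
open CategoryTheory CategoryTheory.Limits AlgebraicGeometry TopologicalSpace Opposite

namespace Groth.Agent.H5.ArS

open Groth.Agent.LD Groth.Agent.LD.QC

variable {R : Type u} [CommRing R] [IsDomain R] [IsDiscreteValuationRing R]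
  {X : Over (Spec (CommRingCat.of R))}

/-- a space of dimension one has two distinct points. -/
theorem exists_pair_ne_of_dim_eq_one (Z : Type u) [TopologicalSpace Z]
    (h : topologicalKrullDim Z = 1) : ∃ z₁ z₂ : Z, z₁ ≠ z₂ := by
  by_contra hcon
  push Not at hcon
  haveI : Subsingleton Z := ⟨hcon⟩
  haveI : Subsingleton (IrreducibleCloseds Z) := by
    refine ⟨fun s t => ?_⟩
    apply IrreducibleCloseds.ext
    have hs : (s : Set Z) = Set.univ := Subsingleton.eq_univ_of_nonempty s.isIrreducible'.nonempty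
    have ht : (t : Set Z) = Set.univ := Subsingleton.eq_univ_of_nonempty t.isIrreducible'.nonempty
    rw [hs, ht]
  have h1 : topologicalKrullDim Z ≤ 0 := Order.krullDim_nonpos_of_subsingleton
  rw [h] at h1
  exact absurd h1 (by decide)

/-- **S7907**: negative definiteness of the intersection form on vertical prime divisors
contracted to a point of a normal fibred surface. -/
theorem inter_form_neg_of_contracted (hX : ArSurf.IsArithSurface R X)
    (Y : Over (Spec (CommRingCat.of R))) [IsIntegral Y.left]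
    (hnor : ∀ q : Y.left, IsIntegrallyClosed (Y.left.presheaf.stalk q))
    (hproj : Neron.IsProjectiveOver R Y)
    (f : X ⟶ Y) (hbir : ∃ U : Y.left.Opens, (U : Set Y.left).Nonempty ∧ IsIso (f.left ∣_ U))
    (y : Y.left)
    {r : ℕ} (Γ : Fin r → ArSurf.VertComp R X)
    (hΓ : Function.Injective fun i => Set.range ((Γ i).ι.base : (Γ i).curve.left → X.left))
    (hΓy : ∀ i, Set.range (((Γ i).ι ≫ f.left).base : (Γ i).curve.left → Y.left) = {y})
    (L : Fin r → X.left.Modules) (hL : ∀ j, ClSub.IsInverseOf (L j) (ClSub.idealMod (Γ j).ι.ker))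
    (x : Fin r → ℤ) (hx : x ≠ 0) :
    ∑ i, ∑ j, x i * x j * ArSurf.inter R X (L j) (Γ i) < 0 := by
  classical
  haveI : IsIntegral X.left := hX.2.1
  have hp := isProper_hom_of_isArithSurface R X hX
  haveI : IsProper X.hom := hp
  haveI : IsProper Y.hom := by
    obtain ⟨n, i, hi, hw⟩ := hproj
    haveI := hi
    haveI := Groth.Agent.H5.AG.isProper_toBase n (Spec (CommRingCat.of R))
    rw [← hw]
    infer_instance
  haveI : IsLocallyNoetherian Y.left := LocallyOfFiniteType.isLocallyNoetherian Y.hom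
  haveI : IsProper f.left := by
    haveI : IsProper (f.left ≫ Y.hom) := by
      rw [Over.w f]
      exact hp
    exact IsProper.of_comp f.left Y.hom
  refine lt_of_le_of_ne (inter_form_nonpos hX Γ L hL x) ?_
  intro h0
  have e1 : ∀ g : Fin r → ℤ, ∑ i : ULift.{u} (Fin r), g i.down = ∑ i, g i :=
    fun g => Equiv.sum_comp Equiv.ulift g
  have h0' : ∑ i : ULift.{u} (Fin r), ∑ j : ULift.{u} (Fin r),
      x i.down * x j.down * ArSurf.inter R X (L j.down) (Γ i.down) = 0 := by
    calc ∑ i : ULift.{u} (Fin r), ∑ j : ULift.{u} (Fin r),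
          x i.down * x j.down * ArSurf.inter R X (L j.down) (Γ i.down)
        = ∑ i : ULift.{u} (Fin r), ∑ j : Fin r,
            x i.down * x j * ArSurf.inter R X (L j) (Γ i.down) :=
          Finset.sum_congr rfl (fun i _ =>
            e1 (fun j => x i.down * x j * ArSurf.inter R X (L j) (Γ i.down)))
      _ = ∑ i : Fin r, ∑ j : Fin r, x i * x j * ArSurf.inter R X (L j) (Γ i) :=
          e1 (fun i => ∑ j, x i * x j * ArSurf.inter R X (L j) (Γ i))
      _ = 0 := h0
  obtain ⟨C, hC, hdis, hcov⟩ := exists_closed_compl_of_quad_eq_zero hX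
    (fun i : ULift.{u} (Fin r) => Γ i.down)
    (fun i j h => ULift.ext _ _ (hΓ h))
    (fun i => L i.down) (fun i => hL i.down) (fun i => x i.down) h0'
  -- a nonzero coordinate
  obtain ⟨i₁, hi₁⟩ : ∃ i, x i ≠ 0 := by
    by_contra hcon
    push Not at hcon
    exact hx (funext hcon)
  obtain ⟨z₁, z₂, hz⟩ := exists_pair_ne_of_dim_eq_one (Γ i₁).curve.left (Γ i₁).dim_eq
  have hmapy : ∀ i (z : (Γ i).curve.left), f.left.base ((Γ i).ι.base z) = y := by
    intro i z
    have : ((Γ i).ι ≫ f.left).base z ∈ Set.range (((Γ i).ι ≫ f.left).base) := ⟨z, rfl⟩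
    rw [hΓy i] at this
    exact this
  have hfs : ∀ p : X.left, f.left.base p ∈ Models.specialFibreSet R Y ↔
      p ∈ Models.specialFibreSet R X := by
    intro p
    change Y.hom.base (f.left.base p) = _ ↔ X.hom.base p = _
    have : Y.hom.base (f.left.base p) = X.hom.base p := by
      rw [← Over.w f]
      rfl
    rw [this]
  have hys : y ∈ Models.specialFibreSet R Y := by
    rw [← hmapy i₁ z₁, hfs]
    exact range_ι_subset_specialFibreSet (Γ i₁) ⟨z₁, rfl⟩
  have hmemT : ∀ z : (Γ i₁).curve.left, (Γ i₁).ι.base z ∈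
      ⋃ i ∈ {i : ULift.{u} (Fin r) | x i.down ≠ 0}, Set.range (Γ i.down).ι := by
    intro z
    simp only [Set.mem_iUnion]
    exact ⟨⟨i₁⟩, hi₁, z, rfl⟩
  refine false_of_clopen_contracted Y hnor f.left hbir y hys
    (⋃ i ∈ {i : ULift.{u} (Fin r) | x i.down ≠ 0}, Set.range (Γ i.down).ι) C ?_ hC hdis ?_ ?_
    ((Γ i₁).ι.base z₁) ((Γ i₁).ι.base z₂) (hmemT z₁) (hmemT z₂)
    (fun h => hz ((Γ i₁).ι.isClosedEmbedding.injective h))
  · exact Set.Finite.isClosed_biUnion (Set.toFinite _) (fun j _ => (range_ι_facts (Γ j.down)).1)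
  · intro p hp'
    exact hcov ((hfs p).mp hp')
  · intro p hp'
    simp only [Set.mem_iUnion] at hp'
    obtain ⟨i, -, z, rfl⟩ := hp'
    exact hmapy i.down z

end Groth.Agent.H5.ArS
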