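import Mathlib
import Groth.Prelude.Def_ArSurf
import Groth.Agent.Lib.Helper5.AG.ProjProper
import Groth.Agent.Lib.Helper6.ConnDim2

/-!
# One-dimensional closed irreducible subsets of a fibered surface are vertical or horizontal (S7919)
-/

set_option autoImplicit false
set_option linter.style.haveILetI false
universe u
open CategoryTheory CategoryTheory.Limits AlgebraicGeometry TopologicalSpace Opposite

namespace Groth.Agent.H5.ArS

theorem not_nonneg_lt_lt_one (a b : WithBot ℕ∞) (h0 : 0 ≤ a) (h1 : a < b) (h2 : b < 1) : False := by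
  induction b using WithBot.recBotCoe with
  | bot => exact absurd h1 (by simp)
  | coe e =>
    have h2' : e < (1 : ℕ∞) := by
      have : ((e : ℕ∞) : WithBot ℕ∞) < ((1 : ℕ∞) : WithBot ℕ∞) := h2
      exact WithBot.coe_lt_coe.mp this
    have he : e = 0 := ENat.lt_one_iff_eq_zero.mp h2'
    subst he
    exact absurd (h0.trans_lt h1) (lt_irrefl _)

theorem not_one_lt_lt_two (d : WithBot ℕ∞) (h1 : 1 < d) (h2 : d < 2) : False := by
  induction d using WithBot.recBotCoe with
  | bot => exact absurd h1 (by simp)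
  | coe e =>
    have h1' : (1 : ℕ∞) < e := by
      have : ((1 : ℕ∞) : WithBot ℕ∞) < ((e : ℕ∞) : WithBot ℕ∞) := h1
      exact WithBot.coe_lt_coe.mp this
    have h2' : e < (2 : ℕ∞) := by
      have : ((e : ℕ∞) : WithBot ℕ∞) < ((2 : ℕ∞) : WithBot ℕ∞) := h2
      exact WithBot.coe_lt_coe.mp this
    have h3 : (1 : ℕ∞) + 1 ≤ e := Order.add_one_le_of_lt h1'
    rw [one_add_one_eq_two] at h3
    exact absurd (h2'.trans_le h3) (lt_irrefl _)

variable {R : Type u} [CommRing R] [IsDedekindDomain R]

theorem one_dim_vertical_or_horizontal (hR : ¬ IsField R) (X : Over (Spec (CommRingCat.of R)))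
    [IsIntegral X.left] (hdim : topologicalKrullDim X.left = 2) [Flat X.hom]
    (hp : IsProper X.hom)
    (D : Set X.left) (hD : IsClosed D) (hirr : IsIrreducible D)
    (hD1 : topologicalKrullDim D = 1) :
    (∃ s : (Spec (CommRingCat.of R) : Scheme.{u}), s.asIdeal.IsMaximal ∧ D ⊆ X.hom.base ⁻¹' {s} ∧
        ∀ D' : Set X.left, IsIrreducible D' → D' ⊆ X.hom.base ⁻¹' {s} → D ⊆ D' → D' = D) ∨
      (∃ x : X.left, (X.hom.base x).asIdeal = ⊥ ∧
        (∀ z : X.left, (X.hom.base z).asIdeal = ⊥ → x ⤳ z → z = x) ∧ D = closure {x}) := by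
  classical
  obtain ⟨ξ, hξ⟩ := QuasiSober.sober hirr hD
  have hξD : closure {ξ} = D := hξ
  have hcont : Continuous X.hom.base := X.hom.base.hom.continuous
  by_cases ht : (X.hom.base ξ).asIdeal = ⊥
  · right
    refine ⟨ξ, ht, ?_, hξD.symm⟩
    intro z hz hxz
    by_contra hne
    have hzD : z ∈ D := hξD ▸ hxz.mem_closure
    have hsub : closure {z} ⊆ D := hD.closure_subset_iff.mpr (Set.singleton_subset_iff.mpr hzD)
    have hss : closure {z} ⊂ D := by
      refine ⟨hsub, fun h => hne ?_⟩
      have hξz : ξ ∈ closure {z} := h (hξD ▸ subset_closure rfl)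
      have h1 : z ⤳ ξ := specializes_iff_mem_closure.mpr hξz
      exact (h1.antisymm hxz).eq
    -- a point of `closure {z}` over a maximal ideal
    obtain ⟨𝔪, h𝔪⟩ := Ideal.exists_maximal R
    have h𝔪0 : 𝔪 ≠ ⊥ := Ring.ne_bot_of_isMaximal_of_not_isField h𝔪 hR
    let s : (Spec (CommRingCat.of R) : Scheme.{u}) := ⟨𝔪, h𝔪.isPrime⟩
    have hcl : IsClosed (X.hom.base '' closure {z}) := X.hom.isClosedMap _ isClosed_closure
    have hs : s ∈ X.hom.base '' closure {z} := by
      have h1 : X.hom.base z ∈ X.hom.base '' closure {z} := ⟨z, subset_closure rfl, rfl⟩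
      have h2 : X.hom.base z ⤳ s := by
        apply (PrimeSpectrum.le_iff_specializes _ _).mp
        change (X.hom.base z).asIdeal ≤ 𝔪
        rw [hz]
        exact bot_le
      exact h2.mem_closed hcl h1
    obtain ⟨w, hw, hws⟩ := hs
    have hsubw : closure {w} ⊆ closure {z} :=
      isClosed_closure.closure_subset_iff.mpr (Set.singleton_subset_iff.mpr hw)
    have hssw : closure {w} ⊂ closure {z} := by
      refine ⟨hsubw, fun h => ?_⟩
      have hzw : z ∈ closure {w} := h (subset_closure rfl)
      have h1 : w ⤳ z := specializes_iff_mem_closure.mpr hzw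
      have h2 : X.hom.base w ⤳ X.hom.base z := h1.map hcont
      have h3 := (PrimeSpectrum.le_iff_specializes _ _).mpr h2
      rw [hws] at h3
      change 𝔪 ≤ (X.hom.base z).asIdeal at h3
      rw [hz] at h3
      exact h𝔪0 (le_bot_iff.mp h3)
    have hd1 := Groth.Agent.H6.ConnDim.dim_lt_of_ssubset isClosed_closure hirr hss
      (by rw [hD1]; decide)
    have hd2 := Groth.Agent.H6.ConnDim.dim_lt_of_ssubset isClosed_closure
      isIrreducible_singleton.closure hssw (hd1.trans_le le_top).lt_top
    rw [hD1] at hd1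
    have hd0 : (0 : WithBot ℕ∞) ≤ topologicalKrullDim ↥(closure ({w} : Set X.left)) := by
      haveI : IrreducibleSpace ↥(closure ({w} : Set X.left)) :=
        Subtype.irreducibleSpace isIrreducible_singleton.closure
      unfold topologicalKrullDim
      exact Order.krullDim_nonneg_iff.mpr
        ⟨⟨Set.univ, IrreducibleSpace.isIrreducible_univ _, isClosed_univ⟩⟩
    exact not_nonneg_lt_lt_one _ _ hd0 hd2 hd1
  · left
    set s := X.hom.base ξ with hs
    have hsmax : s.asIdeal.IsMaximal := Ideal.IsPrime.isMaximal s.isPrime ht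
    have hscl : IsClosed ({s} : Set (Spec (CommRingCat.of R) : Scheme.{u})) :=
      (PrimeSpectrum.isClosed_singleton_iff_isMaximal s).mpr hsmax
    have hFcl : IsClosed (X.hom.base ⁻¹' {s}) := hscl.preimage hcont
    have hDF : D ⊆ X.hom.base ⁻¹' {s} := by
      rw [← hξD]
      exact hFcl.closure_subset_iff.mpr (Set.singleton_subset_iff.mpr rfl)
    refine ⟨s, hsmax, hDF, ?_⟩
    intro D' hD'irr hD's hDD'
    set T := closure D' with hT
    have hTi : IsIrreducible T := hD'irr.closure
    have hTF : T ⊆ X.hom.base ⁻¹' {s} := hFcl.closure_subset_iff.mpr hD's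
    have hDT : D ⊆ T := hDD'.trans subset_closure
    suffices hTD : T = D by
      exact le_antisymm ((subset_closure).trans hTD.le) hDD'
    by_contra hne
    have hss : D ⊂ T := ⟨hDT, fun h => hne (le_antisymm h hDT)⟩
    -- a point outside the fibre
    obtain ⟨y, hy⟩ : ∃ y : X.left, X.hom.base y ≠ s := by
      let η : (Spec (CommRingCat.of R) : Scheme.{u}) := ⟨⊥, Ideal.isPrime_bot⟩
      have hη : η ⤳ X.hom.base ξ := by
        apply (PrimeSpectrum.le_iff_specializes _ _).mp
        exact bot_le
      obtain ⟨y, -, hy⟩ := Flat.generalizingMap X.hom hη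
      refine ⟨y, fun h => ht ?_⟩
      rw [← h, hy]
    have hTu : T ⊂ (Set.univ : Set X.left) :=
      ⟨Set.subset_univ _, fun h => hy (hTF (h (Set.mem_univ y)))⟩
    have hu : topologicalKrullDim ↥(Set.univ : Set X.left) = 2 := by
      rw [← hdim]
      exact IsHomeomorph.topologicalKrullDim_eq _ (Homeomorph.Set.univ X.left).isHomeomorph
    have h1 := Groth.Agent.H6.ConnDim.dim_lt_of_ssubset isClosed_closure
      (IrreducibleSpace.isIrreducible_univ X.left) hTu (by rw [hu]; decide)
    have h2 := Groth.Agent.H6.ConnDim.dim_lt_of_ssubset hD hTi hss (h1.trans_le le_top).lt_top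
    rw [hu] at h1
    rw [hD1] at h2
    exact not_one_lt_lt_two _ h2 h1

end Groth.Agent.H5.ArS
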