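import Mathlib
import Groth.Agent.Lib.Helper5.ArS.ExcA
import Groth.Agent.Lib.Helper5.ArS.EulerAdd
import Groth.Agent.Lib.Helper5.ArS.FibNum
import Groth.Agent.Lib.Helper5.PicLaw.Law
import Groth.Agent.Lib.Helper5.SD.GG4
import Groth.Agent.Lib.Helper5.SD.VAmp4
import Groth.Agent.Lib.Helper5.GG.H1
import Groth.Agent.Lib.Helper5.GG.Ext
import Groth.Agent.Lib.Helper5.GG.FinGen
import Groth.Agent.Lib.Helper5.GG.DefAmple
import Groth.Agent.Lib.Helper5.IntN.Nak8
import Groth.Agent.Lib.Helper5.DegC.IntNum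
import Groth.Agent.Lib.Lead.FF.GGDescent

/-!
# Twisting by a vertical projective line of negative self-intersection (S7940)
-/

set_option autoImplicit false
set_option linter.style.haveILetI false
universe u
open CategoryTheory CategoryTheory.Limits AlgebraicGeometry TopologicalSpace Opposite

namespace Groth.Agent.H5.ArS

open Groth.Agent.LD Groth.Agent.LD.QC Groth.Agent.H5.DegC

/-- a scheme isomorphic to a projective line has `H¹(O) = 0`. -/
theorem subsingleton_H1_unit_of_iso_P1 {C : Scheme.{u}} (κ : Type u) [Field κ]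
    (e : C ≅ CohB1.ProjSpace 1 κ) :
    Subsingleton (Coh.HH C (Coh.structureModule C) 1) := by
  letI : C.Over (Spec (CommRingCat.of κ)) := ⟨e.hom ≫ CohB1.ProjSpace.toSpec 1 κ⟩
  have E1 := (HHpullIsoEquiv e.symm κ (Coh.structureModule C) 1).toEquiv
  have θ : (Scheme.Modules.pullback e.symm.hom).obj (Coh.structureModule C) ≅
      Twist.twistProjSpace 1 κ 0 :=
    pbUnitIso e.symm.hom ≪≫ (TW.twistZeroIso (CohB1.polyGrading 1 κ)).symm
  have E2 := (CL.HHisoEquiv κ θ 1).toEquiv
  haveI : Subsingleton (Coh.HH (CohB1.ProjSpace 1 κ) (Twist.twistProjSpace 1 κ 0) 1) :=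
    PN.subsingleton_HH_twist_all 1 κ 0 1 (fun h => by omega) (fun h => by omega)
  exact (E1.trans E2).subsingleton

/-- the middle term of a short exact sequence has no `Hⁱ` when the outer terms have none. -/
theorem subsingleton_HH_mid {Y : Scheme.{u}} (A : Type u) [CommRing A]
    [Y.Over (Spec (CommRingCat.of A))] {S : ShortComplex Y.Modules} (hS : S.ShortExact) (i : ℕ)
    (h1 : Subsingleton (Coh.HH Y S.X₁ i)) (h3 : Subsingleton (Coh.HH Y S.X₃ i)) :
    Subsingleton (Coh.HH Y S.X₂ i) := by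
  have h0 : ∀ x : Coh.HH Y S.X₂ i, x = 0 := by
    intro x
    obtain ⟨x₁, hx₁⟩ := CL.exact₂ hS A i x (Subsingleton.elim _ _)
    rw [← hx₁, Subsingleton.elim x₁ 0, map_zero]
  exact ⟨fun a b => (h0 a).trans (h0 b).symm⟩

section curve

variable (k : Type u) [Field k] (C : Scheme.{u}) [C.Over (Spec (CommRingCat.of k))]
  [IsProper (C ↘ Spec (CommRingCat.of k))] [IsIntegral C]

/-- on an integral proper curve with `H¹(O) = 0`, an invertible module of degree `≥ 0` is
globally generated, has no `H¹`, and is trivial if its degree is `0`. -/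
theorem genus_zero_facts (hdim : topologicalKrullDim C = 1)
    (h1 : Subsingleton (Coh.HH C (Coh.structureModule C) 1))
    (N : C.Modules) (hN : PicF.IsInvertible N) (hdeg : 0 ≤ Curv2.deg k C N 1) :
    Curv2.IsGloballyGenerated N ∧ Subsingleton (Coh.HH C N 1) ∧
      (Curv2.deg k C N 1 = 0 → Nonempty (N ≅ Coh.structureModule C)) := by
  haveI : Nonempty C := Groth.Agent.H5.Curve4.nonempty_of_dim_eq_one C hdim
  haveI : N.IsQuasicoherent := qc_of_isInvertible _ hN
  have hNc : Coh.IsCoh N := Groth.Agent.H5.Curve2.isCoh_of_isInvertible hN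
  have hg : Curv2.genus k C = 0 := by
    unfold Curv2.genus
    exact Module.finrank_zero_of_subsingleton
  have hgg : Curv2.IsGloballyGenerated N :=
    Groth.Agent.H5.SD.isGloballyGenerated_of_deg_ge' k C hdim N hN (by rw [hg]; simpa using hdeg)
  refine ⟨hgg, Groth.Agent.H5.GG.subsingleton_H1_of_isGloballyGenerated C k hdim.le h1 N hNc.2 hgg,
    fun h0 => ?_⟩
  obtain ⟨n, hn⟩ := Groth.Agent.H5.SD.exists_finrank_hom_eq_succ_of_gg k C N hN hgg
  haveI : Nontrivial (unitMod C ⟶ N) := by
    apply Module.nontrivial_of_finrank_pos (R := k)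
    omega
  obtain ⟨φ, hφ⟩ := exists_ne (0 : unitMod C ⟶ N)
  have h := Curve.deg_le_of_ne_zero k C hdim.le (isInvertible_unit C) hN φ hφ
  haveI : IsIso φ := h.2 (by rw [h0]; exact Curve.deg_structureModule k C)
  exact ⟨(asIso φ).symm⟩

end curve

end Groth.Agent.H5.ArS
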