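import Mathlib
import Groth.Agent.Lib.Helper5.ArS.P1Van

/-!
# Twisting by a vertical projective line of negative self-intersection (S7940), main part
-/

set_option autoImplicit false
set_option linter.style.haveILetI false
universe u
open CategoryTheory CategoryTheory.Limits AlgebraicGeometry TopologicalSpace Opposite

namespace Groth.Agent.H5.ArS

open Groth.Agent.LD Groth.Agent.LD.QC Groth.Agent.H5.DegC Groth.Agent.H5.PicLaw

section main

variable {R : Type u} [CommRing R] [IsDomain R] [IsDiscreteValuationRing R]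
  {X : Over (Spec (CommRingCat.of R))}

/-- `(O / I_Γ) ⊗ M` is globally generated when `M|_Γ` is. -/
theorem isGloballyGenerated_tensor_quotMod (hp : IsProper X.hom) (Γ : ArSurf.VertComp R X)
    (M : X.left.Modules) (hM : PicF.IsInvertible M)
    (hgg : Curv2.IsGloballyGenerated ((Scheme.Modules.pullback Γ.ι).obj M)) :
    Curv2.IsGloballyGenerated (CohB1.tensorMod (ClSub.quotMod Γ.ι.ker) M) := by
  set c : Γ.curve.left ⟶ X.left := Γ.ι with hc
  haveI : IsProper X.hom := hp
  haveI : CompactSpace X.left := QuasiCompact.compactSpace_of_compactSpace X.hom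
  haveI : CompactSpace c.ker.subscheme := c.ker.subschemeι.isClosedEmbedding.compactSpace
  haveI hqc : M.IsQuasicoherent := qc_of_isInvertible M hM
  set G := (Scheme.Modules.pullback c.ker.subschemeι).obj M with hG
  have hpM : PicF.IsInvertible G := isInvertible_pullback c.ker.subschemeι hM
  haveI : G.IsQuasicoherent := qc_of_isInvertible _ hpM
  have hGc : Coh.IsCoh G := by
    refine ⟨inferInstance, ?_⟩
    exact (Curve.isCoh_of_isFinLocFree
      (Curve.isFinLocFree_of_rank ((isInvertible_iff G).mp hpM))).2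
  let θ : CohB1.tensorMod (ClSub.quotMod c.ker) M ≅
      (Scheme.Modules.pushforward c.ker.subschemeι).obj G :=
    projIso c.ker.subschemeι (Coh.structureModule c.ker.subscheme) M hM ≪≫
      (Scheme.Modules.pushforward c.ker.subschemeι).mapIso (unitorL _)
  let θ' : (Scheme.Modules.pullback c.toImage).obj G ≅ (Scheme.Modules.pullback c).obj M :=
    (Groth.Agent.H5.Lim.pullbackCompIso c.toImage c.ker.subschemeι c c.toImage_imageι).app M
  have h1 : Curv2.IsGloballyGenerated ((Scheme.Modules.pullback c.toImage).obj G) :=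
    PN.isGloballyGenerated_of_iso θ'.symm hgg
  have h2 := FF.isGloballyGenerated_pullback (inv c.toImage) _ h1
  let θ'' : (Scheme.Modules.pullback (inv c.toImage)).obj
      ((Scheme.Modules.pullback c.toImage).obj G) ≅ G :=
    (Groth.Agent.H5.Lim.pullbackCompIso (inv c.toImage) c.toImage (𝟙 _)
      (IsIso.inv_hom_id c.toImage)).app G ≪≫ (Scheme.Modules.pullbackId _).app G
  have h3 : Curv2.IsGloballyGenerated G := PN.isGloballyGenerated_of_iso θ'' h2
  obtain ⟨n, p, hp'⟩ := Groth.Agent.H5.GG.exists_epi_freeMod_of_isGloballyGenerated G hGc.2 h3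
  have h4 := Groth.Agent.H5.IntN.isGloballyGenerated_push_of_epi_freeMod c.ker p hp'
  exact PN.isGloballyGenerated_of_iso θ.symm h4


/-- the degree of a pulled back tensor power. -/
theorem pdeg_tensorPow (k : Type u) [Field k] {Y : Scheme.{u}} [Y.Over (Spec (CommRingCat.of k))]
    [IsProper (Y ↘ Spec (CommRingCat.of k))] {Z : Scheme.{u}} (g : Y ⟶ Z)
    (hdim : topologicalKrullDim Y ≤ 1) (L : Z.Modules) (hL : PicF.IsInvertible L) (n : ℕ) :
    pdeg k g (CohB1.tensorPow L n) = n * pdeg k g L := by
  induction n with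
  | zero =>
    change pdeg k g (unitMod Z) = _
    rw [pdeg_unit]
    simp
  | succ n ih =>
    change pdeg k g (CohB1.tensorMod (CohB1.tensorPow L n) L) = _
    rw [pdeg_tensor k g hdim _ _ (isInvertible_tensorPow hL n) hL, ih]
    push_cast
    ring

/-- **S7940** (general form). -/
theorem twist_projLine (hp : IsProper X.hom) (E : ArSurf.VertComp R X)
    (h1E : Subsingleton (Coh.HH E.curve.left (Coh.structureModule E.curve.left) 1))
    (LE : X.left.Modules) (hLE : ClSub.IsInverseOf LE (ClSub.idealMod E.ι.ker))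
    (hneg : ArSurf.inter R X LE E < 0)
    (LH : X.left.Modules) (hLH : PicF.IsInvertible LH)
    (h1 : Subsingleton (Coh.HH X.left LH 1)) :
    (∀ i : ℕ, (i : ℤ) * (-ArSurf.inter R X LE E) ≤ ArSurf.inter R X LH E →
        Subsingleton (Coh.HH X.left (CohB1.tensorMod LH (CohB1.tensorPow LE i)) 1)) ∧
      ∀ r : ℕ, Curv2.IsGloballyGenerated LH →
        ArSurf.inter R X LH E = (r : ℤ) * (-ArSurf.inter R X LE E) →
        Nonempty ((Scheme.Modules.pullback E.ι).obj (CohB1.tensorMod LH (CohB1.tensorPow LE r)) ≅
            Coh.structureModule E.curve.left) ∧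
          Curv2.IsGloballyGenerated (CohB1.tensorMod LH (CohB1.tensorPow LE r)) := by
  set k := IsLocalRing.ResidueField R with hk
  set c : E.curve.left ⟶ X.left := E.ι with hc
  haveI : IsProper (E.curve.left ↘ Spec (CommRingCat.of k)) := isProper_curve_hom hp E
  have hdim : topologicalKrullDim E.curve.left = 1 := E.dim_eq
  obtain ⟨hcart, hIinv, hLEinv⟩ := inverse_facts E.ι.ker LE hLE
  set J := ClSub.idealMod E.ι.ker with hJ
  let M : ℕ → X.left.Modules := fun j => CohB1.tensorMod LH (CohB1.tensorPow LE j)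
  have hM : ∀ j, PicF.IsInvertible (M j) := fun j =>
    isInvertible_tensorMod hLH (isInvertible_tensorPow hLEinv j)
  -- degrees
  have hdegLH : ArSurf.inter R X LH E = pdeg k c LH :=
    curveDeg_eq_deg k hdim.le _ (isInvertible_pullback c hLH)
  have hdegLE : ArSurf.inter R X LE E = pdeg k c LE :=
    curveDeg_eq_deg k hdim.le _ (isInvertible_pullback c hLEinv)
  have hdeg : ∀ j : ℕ, Curv2.deg k E.curve.left ((Scheme.Modules.pullback c).obj (M j)) 1 =
      ArSurf.inter R X LH E + j * ArSurf.inter R X LE E := by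
    intro j
    change pdeg k c (CohB1.tensorMod LH (CohB1.tensorPow LE j)) = _
    rw [pdeg_tensor k c hdim.le _ _ hLH (isInvertible_tensorPow hLEinv j),
      pdeg_tensorPow k c hdim.le LE hLEinv j, hdegLH, hdegLE]
  -- facts on the curve
  have hcurve : ∀ j : ℕ, 0 ≤ ArSurf.inter R X LH E + j * ArSurf.inter R X LE E →
      Curv2.IsGloballyGenerated ((Scheme.Modules.pullback c).obj (M j)) ∧
        Subsingleton (Coh.HH E.curve.left ((Scheme.Modules.pullback c).obj (M j)) 1) ∧
        (ArSurf.inter R X LH E + j * ArSurf.inter R X LE E = 0 →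
          Nonempty ((Scheme.Modules.pullback c).obj (M j) ≅ Coh.structureModule E.curve.left)) := by
    intro j hj
    have h := genus_zero_facts k E.curve.left hdim h1E _ (isInvertible_pullback c (hM j))
      (by rw [hdeg j]; exact hj)
    rw [hdeg j] at h
    exact h
  -- vanishing of the restriction
  have hres : ∀ j : ℕ, 0 ≤ ArSurf.inter R X LH E + j * ArSurf.inter R X LE E →
      Subsingleton (Coh.HH X.left (CohB1.tensorMod (ClSub.quotMod E.ι.ker) (M j)) 1) := by
    intro j hj
    haveI := (hcurve j hj).2.1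
    have h := length_HH_tensor_quotMod hp E (M j) (hM j) 1
    rw [Module.finrank_zero_of_subsingleton, Nat.cast_zero, Module.length_eq_zero_iff] at h
    exact h
  -- the key isomorphism
  have hkey : ∀ j : ℕ, Nonempty (CohB1.tensorMod J (M (j + 1)) ≅ M j) := by
    intro j
    rw [← clsOf_eq_iff (isInvertible_tensorMod hIinv (hM (j + 1))) (hM j),
      clsOf_tensor hIinv (hM (j + 1)), clsOf_tensor hLH (isInvertible_tensorPow hLEinv (j + 1)),
      clsOf_tensor hLH (isInvertible_tensorPow hLEinv j), clsOf_pow hLEinv, clsOf_pow hLEinv,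
      clsOf_eq_inv hLEinv hIinv hLE, pow_succ,
      mul_left_comm (clsOf J) (clsOf LH), mul_left_comm (clsOf J) ((clsOf J)⁻¹ ^ j),
      mul_inv_cancel, mul_one]
  -- the short exact sequences
  have hS := fun j : ℕ => shortExact_tensorMap_of_isInvertible
    (shortExact_idealMod E.ι.ker) (M (j + 1)) (hM (j + 1))
  have hmid : ∀ j : ℕ, Subsingleton (Coh.HH X.left (M j) 1) →
      0 ≤ ArSurf.inter R X LH E + ((j + 1 : ℕ) : ℤ) * ArSurf.inter R X LE E →
      Subsingleton (Coh.HH X.left (M (j + 1)) 1) := by
    intro j hj hpos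
    obtain ⟨α⟩ := hkey j
    have h₁ : Subsingleton (Coh.HH X.left (CohB1.tensorMod J (M (j + 1))) 1) :=
      Groth.Agent.H5.GG.subsingleton_HH_of_iso α 1 hj
    have h₃ := hres (j + 1) hpos
    have h₂ := subsingleton_HH_mid R (hS j) 1 h₁ h₃
    haveI := qc_of_isInvertible _ (hM (j + 1))
    exact Groth.Agent.H5.GG.subsingleton_HH_of_iso (unitorL (M (j + 1))).symm 1 h₂
  have hb : 0 < -ArSurf.inter R X LE E := by linarith
  have ha : ∀ i : ℕ, (i : ℤ) * (-ArSurf.inter R X LE E) ≤ ArSurf.inter R X LH E →
      Subsingleton (Coh.HH X.left (M i) 1) := by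
    intro i
    induction i with
    | zero =>
      intro _
      haveI := qc_of_isInvertible _ hLH
      exact Groth.Agent.H5.GG.subsingleton_HH_of_iso
        (tensorCommGen LH (unitMod X.left) ≪≫ unitorL LH) 1 h1
    | succ i ih =>
      intro hi
      push_cast at hi
      exact hmid i (ih (by nlinarith)) (by push_cast; nlinarith)
  refine ⟨ha, fun r hgg hr => ?_⟩
  have hr0 : ArSurf.inter R X LH E + (r : ℤ) * ArSurf.inter R X LE E = 0 := by
    rw [hr]; ring
  refine ⟨(hcurve r hr0.ge).2.2 hr0, ?_⟩
  -- global generation, by induction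
  have hggM : ∀ j : ℕ, j ≤ r → Curv2.IsGloballyGenerated (M j) := by
    intro j
    induction j with
    | zero =>
      intro _
      haveI := qc_of_isInvertible _ hLH
      exact PN.isGloballyGenerated_of_iso
        (tensorCommGen LH (unitMod X.left) ≪≫ unitorL LH).symm hgg
    | succ j ih =>
      intro hj
      have hjr : (j : ℤ) + 1 ≤ r := by exact_mod_cast hj
      have hpos : 0 ≤ ArSurf.inter R X LH E + ((j + 1 : ℕ) : ℤ) * ArSurf.inter R X LE E := by
        push_cast
        nlinarith
      obtain ⟨α⟩ := hkey j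
      have g₁ : Curv2.IsGloballyGenerated (CohB1.tensorMod J (M (j + 1))) :=
        PN.isGloballyGenerated_of_iso α.symm (ih (by omega))
      have v₁ : Subsingleton (Coh.HH X.left (CohB1.tensorMod J (M (j + 1))) 1) :=
        Groth.Agent.H5.GG.subsingleton_HH_of_iso α 1
          (ha j (by rw [hr]; nlinarith))
      have g₃ := isGloballyGenerated_tensor_quotMod hp E (M (j + 1)) (hM (j + 1))
        (hcurve (j + 1) hpos).1
      have g₂ := Groth.Agent.H5.GG.isGloballyGenerated_of_shortExact (hS j) g₁ g₃ v₁
      haveI := qc_of_isInvertible _ (hM (j + 1))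
      exact PN.isGloballyGenerated_of_iso (unitorL (M (j + 1))) g₂
  exact hggM r le_rfl

end main

end Groth.Agent.H5.ArS
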