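import Mathlib
import Groth.Agent.Lib.Lead.Stein.Birational
import Groth.Agent.Lib.Helper6.HC2
import Groth.Agent.Lib.Helper1.BirCodim1
import Groth.Agent.Lib.Helper1.PushO4
import Groth.Agent.Lib.Helper1.StalkGen

/-!
# A proper birational morphism to a normal scheme does not contract a clopen part of the preimage
of a locally principal closed subset to a point (general form)
-/

set_option autoImplicit false
set_option linter.style.haveILetI false
universe u
open CategoryTheory CategoryTheory.Limits AlgebraicGeometry TopologicalSpace Opposite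

namespace Groth.Agent.H5.ArS

open Groth.Agent.H1.StalkGen

/-- Let `f : X ⟶ Y` be proper birational, `Y` normal integral locally Noetherian, `Z ⊆ Y` a subset
which near `y ∈ Z` contains the zero locus of one function `t ∈ 𝔪_y`.  If a closed subset `T` of
`f⁻¹(y)` with at least two points is open in `f⁻¹(Z)` (its complement there being the closed set
`C`), we get a contradiction. -/
theorem false_of_clopen_contracted' {X Y : Scheme.{u}} [IsIntegral X] [IsIntegral Y]
    [IsLocallyNoetherian Y]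
    (hnor : ∀ q : Y, IsIntegrallyClosed (Y.presheaf.stalk q))
    (f : X ⟶ Y) [IsProper f]
    (hbir : ∃ U : Y.Opens, (U : Set Y).Nonempty ∧ IsIso (f ∣_ U))
    (y : Y) (Z : Set Y) (hyZ : y ∈ Z) (t : Y.presheaf.stalk y)
    (ht : t ∈ IsLocalRing.maximalIdeal (Y.presheaf.stalk y))
    (hZ : ∀ q : PrimeSpectrum (Y.presheaf.stalk y), t ∈ q.asIdeal → Y.fromSpecStalk y q ∈ Z)
    (T C : Set X) (hT : IsClosed T) (hC : IsClosed C) (hTC : Disjoint T C)
    (hcov : f.base ⁻¹' Z ⊆ T ∪ C)
    (hTy : T ⊆ f.base ⁻¹' {y}) (x₁ x₂ : X) (h₁ : x₁ ∈ T) (h₂ : x₂ ∈ T) (hne : x₁ ≠ x₂) :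
    False := by
  have hbir' := hbir
  obtain ⟨U, hU, hfU⟩ := hbir
  obtain ⟨hgen, hbirs⟩ := Groth.Agent.H1.PushO.birational_of_isIso_morphismRestrict f U hU hfU
  have hY : Pi1.IsNormalScheme Y := fun q => ⟨inferInstance, hnor q⟩
  haveI := Groth.Agent.LD.Stein.connectedSpace_fiber_of_birational (f := f)
    Groth.Agent.H6.HC.finCoh Groth.Agent.H6.HC.formalBij hY hgen hbirs y
  have hF : _root_.IsPreconnected (f.base ⁻¹' {y}) := by
    rw [← Scheme.Hom.range_fiberι]
    exact isPreconnected_range (f.fiberι y).continuous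
  have hFsub : f.base ⁻¹' {y} ⊆ T ∪ C := by
    intro x hx
    apply hcov
    rw [Set.mem_preimage, Set.mem_singleton_iff] at hx
    rw [Set.mem_preimage, hx]
    exact hyZ
  have hFC : ∀ c ∈ C, f.base c ≠ y := by
    intro c hc hcy
    obtain ⟨z, hz, hzT, hzC⟩ := (isPreconnected_closed_iff.mp hF) T C hT hC hFsub
      ⟨x₁, hTy h₁, h₁⟩ ⟨c, hcy, hc⟩
    exact Set.disjoint_left.mp hTC hzT hzC
  -- surjectivity
  have hsurj : Function.Surjective f.base := by
    have hcl : IsClosed (Set.range f.base) := f.isClosedMap.isClosed_range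
    have hmem : genericPoint Y ∈ Set.range f.base := ⟨genericPoint X, hgen⟩
    have huniv : Set.range f.base = Set.univ := by
      apply Set.eq_univ_of_univ_subset
      rw [← (genericPoint_spec Y)]
      exact hcl.closure_subset_iff.mpr (Set.singleton_subset_iff.mpr hmem)
    exact Set.range_eq_univ.mp huniv
  -- the open neighbourhood of `y`
  have hfC : IsClosed (f.base '' C) := f.isClosedMap C hC
  have hyV₀ : y ∈ (f.base '' C)ᶜ := by
    rintro ⟨c, hc, hcy⟩
    exact hFC c hc hcy
  have honly : ∀ z : Y, z ⤳ y → z ∈ Z → z = y := by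
    intro z hzy hzs
    have hzV : z ∈ (f.base '' C)ᶜ := hzy.mem_open hfC.isOpen_compl hyV₀
    obtain ⟨x, rfl⟩ := hsurj z
    rcases hcov hzs with hxT | hxC
    · exact hTy hxT
    · exact absurd ⟨x, hxC, rfl⟩ hzV
  haveI : IsNoetherianRing (Y.presheaf.stalk y) := inferInstance
  have hmin : IsLocalRing.maximalIdeal (Y.presheaf.stalk y) ∈
      (Ideal.span {t}).minimalPrimes := by
    refine ⟨⟨inferInstance, ?_⟩, ?_⟩
    · rw [Ideal.span_singleton_le_iff_mem]
      exact ht
    · rintro q ⟨hq, hle⟩ hqp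
      have hzs := hZ ⟨q, hq⟩ ((Ideal.span_singleton_le_iff_mem _).mp hle)
      have hzy : Y.fromSpecStalk y ⟨q, hq⟩ = y :=
        honly _ (fromSpecStalk_specializes y _) hzs
      have hcl : Y.fromSpecStalk y (IsLocalRing.closedPoint _) = y :=
        Scheme.fromSpecStalk_closedPoint
      have h3 : (⟨q, hq⟩ : PrimeSpectrum (Y.presheaf.stalk y)) = IsLocalRing.closedPoint _ :=
        fromSpecStalk_injective y (hzy.trans hcl.symm)
      have h4 := congrArg PrimeSpectrum.asIdeal h3
      change q = IsLocalRing.maximalIdeal _ at h4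
      rw [h4]
  have hht : (IsLocalRing.maximalIdeal (Y.presheaf.stalk y)).height ≤ 1 :=
    Ideal.height_le_one_of_isPrincipal_of_mem_minimalPrimes _ _ hmin
  have hdim : ringKrullDim (Y.presheaf.stalk y) ≤ 1 := by
    rw [← IsLocalRing.maximalIdeal_height_eq_ringKrullDim]
    exact_mod_cast hht
  obtain ⟨V, hyV, hV⟩ := Groth.Agent.H1.BirCodim1.s14523 hnor f hbir' y hdim
  have hinj : Function.Injective (f ∣_ V).base := (f ∣_ V).homeomorph.injective
  have hx₁V : x₁ ∈ f ⁻¹ᵁ V := by
    change f.base x₁ ∈ V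
    rw [hTy h₁]
    exact hyV
  have hx₂V : x₂ ∈ f ⁻¹ᵁ V := by
    change f.base x₂ ∈ V
    rw [hTy h₂]
    exact hyV
  have heq : (f ∣_ V).base ⟨x₁, hx₁V⟩ = (f ∣_ V).base ⟨x₂, hx₂V⟩ := by
    apply Subtype.ext
    rw [morphismRestrict_base_coe, morphismRestrict_base_coe]
    exact (hTy h₁).trans (hTy h₂).symm
  exact hne (congrArg Subtype.val (hinj heq))

end Groth.Agent.H5.ArS
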