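import Mathlib
import Groth.Agent.Lib.Helper5.ArS.ExcD
import Groth.Agent.Lib.Helper5.ArS.FibSum
import Groth.Agent.Lib.Helper5.ArS.FibConn
import Groth.Agent.Lib.Helper5.ArS.FibSec
import Groth.Agent.Lib.Helper5.ArS.NumType
import Groth.Agent.Lib.Helper5.ArS.ModelPic4
import Groth.Agent.Lib.Helper5.SM.SM1
import Groth.Agent.Lib.Helper9.Misc.RAM1

/-!
# A smooth proper model is minimal (S3338)
-/

set_option autoImplicit false
set_option linter.style.haveILetI false
universe u
open CategoryTheory CategoryTheory.Limits AlgebraicGeometry TopologicalSpace Opposite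

namespace Groth.Agent.H5.ArS

open Groth.Agent.LD Groth.Agent.LD.QC

variable {R : Type u} [CommRing R] [IsDomain R] [IsDiscreteValuationRing R]
  {X : Over (Spec (CommRingCat.of R))}

/-- the ring map `R → O_{X,x}` factors through the local ring of `Spec R`. -/
theorem stalkHom_eq_comp (x : X.left) :
    Models.stalkHom R X x = (X.hom.stalkMap x).hom.comp
      (StructureSheaf.toStalk R (X.hom.base x)).hom := by
  ext r
  unfold Models.stalkHom Coh.toGlobal
  simp only [RingHom.coe_comp, Function.comp_apply]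
  have h := Scheme.Hom.germ_stalkMap_apply X.hom ⊤ x trivial
    ((Scheme.ΓSpecIso (CommRingCat.of R)).inv.hom r)
  exact h.symm

/-- a smooth scheme over a discrete valuation ring is regular. -/
theorem isRegularScheme_of_smooth [Smooth X.hom] : Models.IsRegularScheme X.left := by
  intro x
  have h := (H5.SM.stalk_package X.hom x ⟨⊤, trivial, inferInstance⟩).2
  exact h.mpr (Groth.Agent.H9.RAM.isRegularLocalRing_stalk_Spec R _)

/-- on a smooth scheme over a discrete valuation ring, the ideal of the closed fibre is prime at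
every point of the closed fibre. -/
theorem isPrime_map_stalkHom_of_smooth [Smooth X.hom] (x : X.left)
    (hx : x ∈ Models.specialFibreSet R X) :
    (Ideal.map (Models.stalkHom R X x) (IsLocalRing.maximalIdeal R)).IsPrime := by
  have hfs : (X.hom.stalkMap x).hom.FormallySmooth :=
    (H5.AL.exists_smooth_nhd_iff X.hom x).1 ⟨⊤, trivial, inferInstance⟩
  have hft : (X.hom.stalkMap x).hom.EssFiniteType := LocallyOfFiniteType.stalkMap X.hom x
  haveI hregA := Groth.Agent.H9.RAM.isRegularLocalRing_stalk_Spec R (X.hom.base x)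
  have key : ∀ {A B : Type u} [CommRing A] [CommRing B] [IsLocalRing A] [IsLocalRing B]
      [IsNoetherianRing A] (ψ : A →+* B) [IsLocalHom ψ], ψ.EssFiniteType → ψ.FormallySmooth →
      ((IsLocalRing.maximalIdeal A).map ψ).IsPrime := by
    intro A B _ _ _ _ _ ψ _ hft hfs
    letI := ψ.toAlgebra
    haveI : IsLocalHom (algebraMap A B) := ‹IsLocalHom ψ›
    haveI : Algebra.EssFiniteType A B := hft
    haveI : IsNoetherianRing B := Algebra.EssFiniteType.isNoetherianRing A B
    haveI : Algebra.FormallySmooth A B := hfs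
    haveI := H5.SM.isRegularLocalRing_fiber A B
    haveI := Groth.Agent.H7.Reg.isDomain (B ⧸ (IsLocalRing.maximalIdeal A).map (algebraMap A B))
    exact (Ideal.Quotient.isDomain_iff_prime _).mp inferInstance
  have h1 := key (X.hom.stalkMap x).hom hft hfs
  rw [stalkHom_eq_comp, ← Ideal.map_map]
  convert h1 using 2
  letI : Algebra R ((Spec.structureSheaf R).presheaf.stalk (X.hom.base x)) :=
    StructureSheaf.stalkAlgebra R (X.hom.base x)
  haveI : IsLocalization.AtPrime ((Spec.structureSheaf R).presheaf.stalk (X.hom.base x))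
      (X.hom.base x).asIdeal := StructureSheaf.IsLocalization.to_stalk R (X.hom.base x)
  haveI : IsLocalRing ((Spec.structureSheaf R).presheaf.stalk (X.hom.base x)) :=
    inferInstanceAs (IsLocalRing ((Spec (CommRingCat.of R)).presheaf.stalk (X.hom.base x)))
  have h2 := IsLocalization.AtPrime.map_eq_maximalIdeal (X.hom.base x).asIdeal
    ((Spec.structureSheaf R).presheaf.stalk (X.hom.base x))
  have h3 : (X.hom.base x).asIdeal = IsLocalRing.maximalIdeal R :=
    congrArg PrimeSpectrum.asIdeal hx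
  rw [h3] at h2
  exact h2

section clopen

variable [Flat X.hom] (hreg : Models.IsRegularScheme X.left)
  (hprime : ∀ x ∈ Models.specialFibreSet R X,
    (Ideal.map (Models.stalkHom R X x) (IsLocalRing.maximalIdeal R)).IsPrime)
  (Γ' : ArSurf.VertComp R X) (hcart : BlowUp.IsEffCartierIdeal Γ'.ι.ker)
include hreg hprime hcart

/-- if the closed fibre is locally integral, a Cartier vertical prime divisor is open in the closed
fibre. -/
theorem exists_nhd_inter_subset_range (x : X.left) (hx : x ∈ Set.range Γ'.ι) :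
    ∃ U : X.left.Opens, x ∈ U ∧
      Models.specialFibreSet R X ∩ (U : Set X.left) ⊆ Set.range Γ'.ι := by
  obtain ⟨ϖ, hϖ⟩ := IsDiscreteValuationRing.exists_irreducible R
  obtain ⟨V, hxV, t, ht, hIt⟩ := hcart x
  have hV : IsAffineOpen V.1 := V.2
  letI : Algebra Γ(X.left, V.1) (X.left.presheaf.stalk x) :=
    TopCat.Presheaf.algebra_section_stalk X.left.presheaf ⟨x, hxV⟩
  haveI := hV.isLocalization_stalk ⟨x, hxV⟩
  haveI := hreg x
  haveI := Groth.Agent.H7.Reg.isDomain (X.left.presheaf.stalk x)
  set Q := (hV.primeIdealOf ⟨x, hxV⟩).asIdeal with hQ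
  set πV := toSec X V.1 ϖ with hπV
  set πB := algebraMap Γ(X.left, V.1) (X.left.presheaf.stalk x) πV with hπBdef
  have hπB0 : πB ≠ 0 := by
    have := IsLocalization.map_nonZeroDivisors_le Q.primeCompl (X.left.presheaf.stalk x)
      (Submonoid.mem_map_of_mem _ (toSec_mem_nonZeroDivisors hV ϖ hϖ.ne_zero))
    exact nonZeroDivisors.ne_zero this
  have hspanπ : Ideal.map (Models.stalkHom R X x) (IsLocalRing.maximalIdeal R) =
      Ideal.span {πB} := by
    rw [hϖ.maximalIdeal_eq, Ideal.map_span, Set.image_singleton]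
    congr 2
    change (X.left.presheaf.germ ⊤ _ trivial).hom (Coh.toGlobal X.hom ϖ) =
      (X.left.presheaf.germ V.1 _ hxV).hom
        ((X.left.presheaf.map (homOfLE le_top).op).hom (Coh.toGlobal X.hom ϖ))
    exact (TopCat.Presheaf.germ_res_apply X.left.presheaf (homOfLE le_top) _ hxV _).symm
  have hxF : x ∈ Models.specialFibreSet R X := range_ι_subset_specialFibreSet Γ' hx
  have hπBprime : Prime πB := by
    have := hprime x hxF
    rw [hspanπ] at this
    exact (Ideal.span_singleton_prime hπB0).mp this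
  have hπmem : πV ∈ Γ'.ι.ker.ideal V :=
    toSec_mem_ker Γ' V ϖ (by
      rw [hϖ.maximalIdeal_eq]
      exact Ideal.mem_span_singleton_self ϖ)
  rw [hIt] at hπmem
  obtain ⟨a, ha⟩ := Ideal.mem_span_singleton'.mp hπmem
  have hxs : x ∈ Γ'.ι.ker.support := by
    change x ∈ (Γ'.ι.ker.support : Set _)
    rw [support_ker_ι]
    exact hx
  have hle : Γ'.ι.ker.ideal V ≤ Q := (mem_support_iff hV _ x hxV).mp hxs
  have htQ : t ∈ Q := hle (by rw [hIt]; exact Ideal.mem_span_singleton_self t)
  have htB : ¬ IsUnit (algebraMap Γ(X.left, V.1) (X.left.presheaf.stalk x) t) := by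
    rw [IsLocalization.AtPrime.isUnit_to_map_iff _ Q]
    exact fun h => h htQ
  have haB : IsUnit (algebraMap Γ(X.left, V.1) (X.left.presheaf.stalk x) a) := by
    have h1 : πB = algebraMap Γ(X.left, V.1) (X.left.presheaf.stalk x) a *
        algebraMap Γ(X.left, V.1) (X.left.presheaf.stalk x) t := by
      rw [← map_mul, ha]
    rcases hπBprime.irreducible.isUnit_or_isUnit h1 with h | h
    · exact h
    · exact absurd h htB
  have haQ : a ∉ Q := by
    rw [IsLocalization.AtPrime.isUnit_to_map_iff _ Q] at haB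
    exact haB
  refine ⟨X.left.basicOpen a, ?_, ?_⟩
  · by_contra h
    exact haQ ((Groth.Agent.LD.QC.mem_primeIdealOf_iff hV x hxV a).mpr h)
  · rintro y ⟨hyF, hya⟩
    have hyV : y ∈ V.1 := X.left.basicOpen_le a hya
    rw [← support_ker_ι]
    change y ∈ Γ'.ι.ker.support
    rw [mem_support_iff hV _ y hyV, hIt, Ideal.span_singleton_le_iff_mem]
    have hπQ : πV ∈ (hV.primeIdealOf ⟨y, hyV⟩).asIdeal :=
      (mem_specialFibreSet_iff hV y hyV ϖ hϖ).mp hyF
    rw [← ha] at hπQ
    rcases (hV.primeIdealOf ⟨y, hyV⟩).isPrime.mem_or_mem hπQ with h | h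
    · exfalso
      exact ((Groth.Agent.LD.QC.mem_primeIdealOf_iff hV y hyV a).mp h) hya
    · exact h

/-- if the closed fibre is connected and locally integral, a Cartier vertical prime divisor is the
whole closed fibre. -/
theorem specialFibreSet_subset_range
    (hconn : _root_.IsPreconnected (Models.specialFibreSet R X)) :
    Models.specialFibreSet R X ⊆ Set.range Γ'.ι := by
  obtain ⟨hcl, hirr, -, -⟩ := range_ι_facts Γ'
  set F := Models.specialFibreSet R X with hF
  let u : Set X.left := ⋃₀ {U | IsOpen U ∧ F ∩ U ⊆ Set.range Γ'.ι}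
  have hu : IsOpen u := isOpen_sUnion fun U hU => hU.1
  have hFu : F ∩ u ⊆ Set.range Γ'.ι := by
    rintro z ⟨hzF, U, ⟨-, hU⟩, hzU⟩
    exact hU ⟨hzF, hzU⟩
  have hru : Set.range Γ'.ι ⊆ u := by
    intro x hx
    obtain ⟨U, hxU, hU⟩ := exists_nhd_inter_subset_range hreg hprime Γ' hcart x hx
    exact ⟨U, ⟨U.2, hU⟩, hxU⟩
  have hv : IsOpen (Set.range Γ'.ι)ᶜ := hcl.isOpen_compl
  have hcov : F ⊆ u ∪ (Set.range Γ'.ι)ᶜ := by
    intro z _
    by_cases hz : z ∈ Set.range Γ'.ι
    · exact Or.inl (hru hz)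
    · exact Or.inr hz
  have hne : (F ∩ u).Nonempty := by
    obtain ⟨z, hz⟩ := hirr.nonempty
    exact ⟨z, range_ι_subset_specialFibreSet Γ' hz, hru hz⟩
  intro z hzF
  by_contra hz
  obtain ⟨w, hwF, hwu, hwv⟩ := hconn u _ hu hv hcov hne ⟨z, hzF, hz⟩
  exact hwv (hFu ⟨hwF, hwu⟩)

end clopen

section model

variable {C Y : Scheme.{u}} (f : C ⟶ Spec (CommRingCat.of (FractionRing R)))
  (p : Y ⟶ Spec (CommRingCat.of R))

/-- **S3338**: a smooth proper model of a curve with `H⁰(C, O_C) = K` is a minimal model. -/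
theorem isMinimalModel_of_smooth (hH0 : IsIso f.appTop) (hX : Models.IsModel R Y p C f)
    [IsProper p] [Smooth p] : Models.IsMinimalModel R Y p C f := by
  haveI : Smooth (Over.mk p).hom := ‹Smooth p›
  have hreg : Models.IsRegularScheme Y := isRegularScheme_of_smooth (X := Over.mk p)
  have hX' : Models.IsRegularProperModel R Y p C f := ⟨hX, inferInstance, hreg⟩
  refine ⟨hX', fun Γ' hE => ?_⟩
  have hp : IsProper (Over.mk p).hom := hX'.2.1
  haveI : Flat (Over.mk p).hom := hX.1
  haveI : LocallyOfFiniteType p := hX.2.1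
  haveI : IsLocallyNoetherian (Over.mk p).left := LocallyOfFiniteType.isLocallyNoetherian p
  have hcart := hE.1
  have hconn := (isConnected_specialFibreSet_of_model f p hX' hH0).isPreconnected
  have hsub := specialFibreSet_subset_range (X := Over.mk p) hreg
    (fun x hx => isPrime_map_stalkHom_of_smooth x hx) Γ' hcart hconn
  let Γ : Fin 1 → ArSurf.VertComp R (Over.mk p) := fun _ => Γ'
  have hΓ : Models.IsComponentList R (Over.mk p) Γ :=
    isComponentList_of_cover Γ (fun i j _ => Subsingleton.elim i j) (fun x hx => ⟨0, hsub hx⟩)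
  obtain ⟨L', -, ⟨e⟩⟩ := Groth.Agent.H5.Glue.exists_inverse (ClSub.idealMod Γ'.ι.ker)
    ((Groth.Agent.LD.QC.isInvertible_idealMod_iff _).mpr hcart)
  have hL0 : ClSub.IsInverseOf L' (ClSub.idealMod Γ'.ι.ker) :=
    ⟨Groth.Agent.LD.QC.tensorCommGen _ _ ≪≫ e⟩
  have hsum := sum_mult_inter_eq_zero hp hreg Γ hΓ (fun _ => L') (fun _ => hL0) Γ'
  rw [Fin.sum_univ_one] at hsum
  have hm := mult_pos hreg Γ hΓ 0
  have hinter : ArSurf.inter R (Over.mk p) L' Γ' = 0 := by
    rcases mul_eq_zero.mp hsum with h | h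
    · exfalso
      have : Models.mult R (Over.mk p) (Γ 0) = 0 := by exact_mod_cast h
      omega
    · exact h
  have hnum := (isExcCurve_iff hp Γ' hcart L' hL0).mp hE
  have hw := wdeg_pos hp Γ'
  omega

end model

end Groth.Agent.H5.ArS
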