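import Mathlib
import Groth.Agent.Lib.Helper5.ArS.SmMin
import Groth.Agent.Lib.Helper1.StalkGen
import Groth.Agent.Lib.Helper9.Misc.LOC3

/-!
# Fibres of smooth morphisms: closures of maximal points are open in the fibre
-/

set_option autoImplicit false
set_option linter.style.haveILetI false
universe u
open CategoryTheory CategoryTheory.Limits AlgebraicGeometry TopologicalSpace Opposite

namespace Groth.Agent.H5.ArS

open Groth.Agent.H1.StalkGen

/-- a generization `fromSpecStalk z q` of `z` lies in the fibre through `z` iff `q` contains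
`𝔪_{p z} O_{X,z}`. -/
theorem fromSpecStalk_mem_fibre_iff {X S : Scheme.{u}} (p : X ⟶ S) (z : X)
    (q : PrimeSpectrum (X.presheaf.stalk z)) :
    p.base (X.fromSpecStalk z q) = p.base z ↔
      (IsLocalRing.maximalIdeal (S.presheaf.stalk (p.base z))).map (p.stalkMap z).hom ≤
        q.asIdeal := by
  rw [map_fromSpecStalk p z q]
  constructor
  · intro h
    have h2 : PrimeSpectrum.comap (p.stalkMap z).hom q = IsLocalRing.closedPoint _ :=
      fromSpecStalk_injective _ (h.trans Scheme.fromSpecStalk_closedPoint.symm)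
    rw [Ideal.map_le_iff_le_comap]
    have h3 := congrArg PrimeSpectrum.asIdeal h2
    exact h3.ge
  · intro h
    have h2 : PrimeSpectrum.comap (p.stalkMap z).hom q = IsLocalRing.closedPoint _ := by
      apply PrimeSpectrum.ext
      change Ideal.comap _ q.asIdeal = IsLocalRing.maximalIdeal _
      exact le_antisymm (IsLocalRing.le_maximalIdeal (Ideal.IsPrime.ne_top inferInstance))
        (Ideal.map_le_iff_le_comap.mp h)
    rw [h2]
    exact Scheme.fromSpecStalk_closedPoint

/-- for a smooth morphism to a locally Noetherian scheme, the ideal of the fibre is prime in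
every local ring. -/
theorem isPrime_map_maximalIdeal_of_smooth {X S : Scheme.{u}} [IsLocallyNoetherian S]
    (p : X ⟶ S) [Smooth p] (z : X) :
    ((IsLocalRing.maximalIdeal (S.presheaf.stalk (p.base z))).map (p.stalkMap z).hom).IsPrime := by
  have hfs : (p.stalkMap z).hom.FormallySmooth :=
    (H5.AL.exists_smooth_nhd_iff p z).1 ⟨⊤, trivial, inferInstance⟩
  have hft : (p.stalkMap z).hom.EssFiniteType := LocallyOfFiniteType.stalkMap p z
  have key : ∀ {A B : Type u} [CommRing A] [CommRing B] [IsLocalRing A] [IsLocalRing B]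
      [IsNoetherianRing A] (ψ : A →+* B) [IsLocalHom ψ], ψ.EssFiniteType → ψ.FormallySmooth →
      ((IsLocalRing.maximalIdeal A).map ψ).IsPrime := by
    intro A B _ _ _ _ _ ψ _ hft hfs
    letI := ψ.toAlgebra
    haveI : IsLocalHom (algebraMap A B) := ‹IsLocalHom ψ›
    haveI : Algebra.EssFiniteType A B := hft
    haveI : IsNoetherianRing B := Algebra.EssFiniteType.isNoetherianRing A B
    haveI : Algebra.FormallySmooth A B := hfs
    haveI := H5.SM.isRegularLocalRing_fiber A B
    haveI := Groth.Agent.H7.Reg.isDomain (B ⧸ (IsLocalRing.maximalIdeal A).map (algebraMap A B))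
    exact (Ideal.Quotient.isDomain_iff_prime _).mp inferInstance
  exact key (p.stalkMap z).hom hft hfs

/-- **the closure of a maximal point of a fibre of a smooth morphism is open in the fibre.** -/
theorem exists_closed_compl_closure_of_smooth {X S : Scheme.{u}} [IsLocallyNoetherian S]
    [NoetherianSpace X] (p : X ⟶ S) [Smooth p] (x : X)
    (hcl : IsClosed (p.base ⁻¹' {p.base x}))
    (hmax : ∀ ζ : X, ζ ⤳ x → p.base ζ = p.base x → ζ = x) :
    ∃ C : Set X, IsClosed C ∧ Disjoint (closure {x}) C ∧
      p.base ⁻¹' {p.base x} ⊆ closure {x} ∪ C := by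
  set F : Set X := p.base ⁻¹' {p.base x} with hF
  have hxF : x ∈ F := rfl
  have hZF : closure {x} ⊆ F := hcl.closure_subset_iff.mpr (Set.singleton_subset_iff.mpr hxF)
  haveI : QuasiSober ↥F := hcl.isClosedEmbedding_subtypeVal.quasiSober
  let Z' : Set ↥F := Subtype.val ⁻¹' closure {x}
  have hZ'c : IsClosed Z' := isClosed_closure.preimage continuous_subtype_val
  have hZ'g : StableUnderGeneralization Z' := by
    intro z' ζ' hsp hz'
    have hsp' : (ζ' : X) ⤳ (z' : X) := hsp.map continuous_subtype_val
    set z : X := z'.1 with hz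
    set ζ : X := ζ'.1 with hζ
    have hxz : x ⤳ z := specializes_iff_mem_closure.mpr hz'
    have hpz : p.base z = p.base x := z'.2
    have hpζ : p.base ζ = p.base x := ζ'.2
    have hP := isPrime_map_maximalIdeal_of_smooth p z
    set P := (IsLocalRing.maximalIdeal (S.presheaf.stalk (p.base z))).map (p.stalkMap z).hom
      with hPdef
    have h1 : P ≤ (primeOf hsp').asIdeal := by
      rw [← fromSpecStalk_mem_fibre_iff, fromSpecStalk_primeOf, hpζ, hpz]
    have h2 : P ≤ (primeOf hxz).asIdeal := by
      rw [← fromSpecStalk_mem_fibre_iff, fromSpecStalk_primeOf, hpz]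
    let ζz : X := X.fromSpecStalk z ⟨P, hP⟩
    have h3 : ζz ⤳ x := by
      have := fromSpecStalk_mono z (q := ⟨P, hP⟩) (q' := primeOf hxz) h2
      rwa [fromSpecStalk_primeOf] at this
    have h4 : p.base ζz = p.base x := by
      rw [← hpz]
      exact (fromSpecStalk_mem_fibre_iff p z ⟨P, hP⟩).mpr le_rfl
    have h5 : ζz = x := hmax ζz h3 h4
    have h6 : ζz ⤳ ζ := by
      have := fromSpecStalk_mono z (q := ⟨P, hP⟩) (q' := primeOf hsp') h1
      rwa [fromSpecStalk_primeOf] at this
    rw [h5] at h6
    exact specializes_iff_mem_closure.mp h6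
  have hopen : IsOpen Z' :=
    Groth.Agent.H9.LOC.isOpen_of_isClosed_of_stableUnderGeneralization hZ'c hZ'g
  obtain ⟨N, hN, hNZ⟩ := isOpen_induced_iff.mp hopen
  refine ⟨F ∩ Nᶜ, hcl.inter hN.isClosed_compl, ?_, ?_⟩
  · rw [Set.disjoint_left]
    rintro w hw ⟨hwF, hwN⟩
    have : (⟨w, hwF⟩ : ↥F) ∈ Subtype.val ⁻¹' N := by
      rw [hNZ]
      exact hw
    exact hwN this
  · intro w hwF
    by_cases hwN : w ∈ N
    · left
      have : (⟨w, hwF⟩ : ↥F) ∈ Z' := by
        rw [← hNZ]
        exact hwN
      exact this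
    · exact Or.inr ⟨hwF, hwN⟩

end Groth.Agent.H5.ArS
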