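import Mathlib
import Groth.Prelude.Def_Neron

/-!
# Stalk maps and base change along a flat preimmersion (e.g. the generic point of an integral
affine scheme)
-/

set_option autoImplicit false
set_option linter.style.haveILetI false
universe u
open CategoryTheory CategoryTheory.Limits AlgebraicGeometry TopologicalSpace Opposite

namespace Groth.Agent.H5.ArS

/-- the base change of a flat preimmersion induces isomorphisms on local rings. -/
theorem bijective_stalkMap_fst {X S S' : Scheme.{u}} (p : X ⟶ S) (j : S' ⟶ S)
    [IsPreimmersion j] [Flat j] (t : ↥(pullback p j)) :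
    Function.Bijective ((pullback.fst p j).stalkMap t).hom := by
  haveI : IsPreimmersion (pullback.fst p j) :=
    MorphismProperty.pullback_fst _ _ inferInstance
  haveI : Flat (pullback.fst p j) :=
    MorphismProperty.pullback_fst _ _ inferInstance
  refine ⟨?_, SurjectiveOnStalks.stalkMap_surjective _ t⟩
  have hflat := Flat.stalkMap (pullback.fst p j) t
  algebraize [((pullback.fst p j).stalkMap t).hom]
  haveI : IsLocalHom (algebraMap (X.presheaf.stalk ((pullback.fst p j) t))
      ((pullback p j).presheaf.stalk t)) :=
    inferInstanceAs (IsLocalHom ((pullback.fst p j).stalkMap t).hom)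
  haveI : Module.FaithfullyFlat (X.presheaf.stalk ((pullback.fst p j) t))
      ((pullback p j).presheaf.stalk t) :=
    Module.FaithfullyFlat.of_flat_of_isLocalHom
  exact FaithfulSMul.algebraMap_injective _ _

/-- if the base change of `g` along a flat preimmersion is an isomorphism, `g` induces
isomorphisms of local rings at the points in the image of the projection. -/
theorem isIso_stalkMap_of_isIso_baseChange {X Y S S' : Scheme.{u}} (pX : X ⟶ S) (pY : Y ⟶ S)
    (g : X ⟶ Y) (j : S' ⟶ S) [IsPreimmersion j] [Flat j]
    (g' : pullback pX j ⟶ pullback pY j) [IsIso g']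
    (hg' : g' ≫ pullback.fst pY j = pullback.fst pX j ≫ g) (x' : ↥(pullback pX j)) :
    IsIso (g.stalkMap ((pullback.fst pX j).base x')) := by
  haveI ha : IsIso ((pullback.fst pX j).stalkMap x') :=
    (ConcreteCategory.isIso_iff_bijective _).mpr (bijective_stalkMap_fst pX j x')
  haveI hb : IsIso ((pullback.fst pY j).stalkMap (g'.base x')) :=
    (ConcreteCategory.isIso_iff_bijective _).mpr (bijective_stalkMap_fst pY j (g'.base x'))
  have h1 := Scheme.Hom.stalkMap_congr_hom _ _ hg' x'
  rw [Scheme.Hom.stalkMap_comp, Scheme.Hom.stalkMap_comp] at h1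
  have h3 : IsIso ((pullback.fst pY j).stalkMap (g'.base x') ≫ g'.stalkMap x') := inferInstance
  rw [h1] at h3
  haveI : IsIso (g.stalkMap ((pullback.fst pX j).base x') ≫ (pullback.fst pX j).stalkMap x') := by
    have aux : ∀ {A B D : CommRingCat.{u}} (e : A ≅ B) (m : B ⟶ D), IsIso (e.hom ≫ m) → IsIso m :=
      fun e m h => by
        haveI := h
        exact IsIso.of_isIso_comp_left e.hom m
    exact aux _ _ h3
  exact IsIso.of_isIso_comp_right _ ((pullback.fst pX j).stalkMap x')

end Groth.Agent.H5.ArS
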