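import Mathlib
import Groth.Agent.Lib.Helper5.ArS.RelMinA
import Groth.Agent.Lib.Helper5.ArS.RelMinB
import Groth.Agent.Lib.Helper5.ArS.RelMinC
import Groth.Agent.Lib.Helper5.AG.ProjProper
import Groth.Agent.Lib.Helper1.Purity2
import Groth.Agent.Lib.Helper1.BirCodim1
import Groth.Agent.Lib.Helper3.CA.ABufd2
import Groth.Prelude.Def_ArSurf
import Groth.Prelude.Def_Neron

/-!
# A smooth arithmetic surface over a Dedekind domain is relatively minimal (S3258)
-/

set_option autoImplicit false
set_option linter.style.haveILetI false
universe u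
open CategoryTheory CategoryTheory.Limits AlgebraicGeometry TopologicalSpace Opposite

namespace Groth.Agent.H5.ArS

open Groth.Agent.H1.StalkGen

/-- in a scheme of dimension at most two, a point with a chain of two proper generizations is
closed. -/
theorem isClosed_singleton_of_chain {X : Scheme.{u}} (hdim : topologicalKrullDim X ≤ 2)
    (w x ξ : X) (hwx : w < x) (hxξ : x < ξ) : IsClosed ({w} : Set X) := by
  by_contra hncl
  obtain ⟨w', hw', hw'ne⟩ : ∃ w' ∈ closure ({w} : Set X), w' ≠ w := by
    by_contra hcon
    push Not at hcon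
    apply hncl
    have : closure ({w} : Set X) = {w} :=
      Set.Subset.antisymm (fun v hv => hcon v hv) subset_closure
    rw [← this]
    exact isClosed_closure
  have hsp : w ⤳ w' := specializes_iff_mem_closure.mpr hw'
  have hlt : w' < w := lt_of_le_not_ge hsp (fun h' => hw'ne (hsp.antisymm h').eq.symm)
  have c1 := Order.coheight_add_one_le hlt
  have c2 := Order.coheight_add_one_le hwx
  have c3 := Order.coheight_add_one_le hxξ
  have c4 : (1 : ℕ∞) ≤ Order.coheight x := le_trans le_add_self c3
  have c5 : (1 : ℕ∞) + 1 ≤ Order.coheight w := le_trans (add_le_add_left c4 1) c2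
  have c6 : (1 : ℕ∞) + 1 + 1 ≤ Order.coheight w' := le_trans (add_le_add_left c5 1) c1
  have c : ((Order.coheight w' : ℕ∞) : WithBot ℕ∞) ≤ 2 := by
    have h := Order.coheight_le_krullDim w'
    rw [← Order.krullDim_eq_of_orderIso (irreducibleSetEquivPoints (α := X))] at h
    exact h.trans hdim
  have c' : Order.coheight w' ≤ (2 : ℕ∞) := by
    have h2 : ((Order.coheight w' : ℕ∞) : WithBot ℕ∞) ≤ ((2 : ℕ∞) : WithBot ℕ∞) := c
    exact WithBot.coe_le_coe.mp h2
  exact absurd (le_trans c6 c') (by decide)

section

variable {R : Type u} [CommRing R] [IsDedekindDomain R]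

/-- the key statement: a proper birational (iso on generic fibres) morphism from a smooth
integral flat proper `R`-scheme to a regular flat proper `R`-scheme is an isomorphism. -/
theorem isIso_of_smooth_of_isIso_genericFibre (X Y : Over (Spec (CommRingCat.of R)))
    [IsIntegral X.left] [Flat X.hom] [IsProper X.hom] [Smooth X.hom]
    (hdim : topologicalKrullDim X.left ≤ 2)
    (hYreg : ∀ y : Y.left, IsRegularLocalRing (Y.left.presheaf.stalk y))
    [IsProper Y.hom] [Flat Y.hom] (g : X ⟶ Y)
    (hgK : IsIso ((Neron.genericFibre R).map g)) : IsIso g := by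
  classical
  haveI : IsLocallyNoetherian Y.left := LocallyOfFiniteType.isLocallyNoetherian Y.hom
  haveI : IsLocallyNoetherian X.left := LocallyOfFiniteType.isLocallyNoetherian X.hom
  haveI : CompactSpace X.left := QuasiCompact.compactSpace_of_compactSpace X.hom
  haveI : IsNoetherian X.left := {}
  haveI : IsProper g.left := by
    haveI : IsProper (g.left ≫ Y.hom) := by
      rw [Over.w g]
      infer_instance
    exact IsProper.of_comp g.left Y.hom
  -- the generic point of the base
  set j := Neron.genPt R with hj
  haveI : IsPreimmersion j := IsPreimmersion.of_isLocalization (nonZeroDivisors R)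
  haveI : Flat j := by
    rw [hj]
    unfold Neron.genPt
    rw [Flat.SpecMap_iff]
    exact RingHom.flat_algebraMap_iff.mpr (IsLocalization.flat (FractionRing R) (nonZeroDivisors R))
  let t₀ : Spec (CommRingCat.of (FractionRing R)) := ⟨⊥, Ideal.isPrime_bot⟩
  set η : Spec (CommRingCat.of R) := j.base t₀ with hηdef
  have hη : η.asIdeal = ⊥ := by
    change Ideal.comap (algebraMap R (FractionRing R)) ⊥ = ⊥
    rw [← RingHom.ker_eq_comap_bot]
    exact (RingHom.injective_iff_ker_eq_bot _).mp (IsFractionRing.injective R (FractionRing R))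
  have hηsp : ∀ s : Spec (CommRingCat.of R), η ⤳ s := by
    intro s
    refine (PrimeSpectrum.le_iff_specializes (R := R) η s).mp ?_
    change η.asIdeal ≤ s.asIdeal
    rw [hη]
    exact bot_le
  have heqη : ∀ s : Spec (CommRingCat.of R), s.asIdeal = ⊥ → s = η := by
    intro s hs
    exact PrimeSpectrum.ext (hs.trans hη.symm)
  -- the generic fibre map
  let g' : pullback X.hom j ⟶ pullback Y.hom j := ((Neron.genericFibre R).map g).left
  haveI : IsIso g' := by
    haveI := hgK
    exact inferInstanceAs (IsIso ((Over.forget _).map ((Neron.genericFibre R).map g)))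
  have hg' : g' ≫ pullback.fst Y.hom j = pullback.fst X.hom j ≫ g.left :=
    pullback.lift_fst _ _ _
  -- stalk isomorphisms over the generic point
  have hstalk : ∀ x : X.left, X.hom.base x = η → IsIso (g.left.stalkMap x) := by
    intro x hx
    obtain ⟨x', hx', -⟩ := Scheme.Pullback.exists_preimage_pullback (f := X.hom) (g := j) x t₀ hx
    subst hx'
    exact isIso_stalkMap_of_isIso_baseChange X.hom Y.hom g.left j g' hg' x'
  -- surjectivity
  have hsurj : Function.Surjective g.left.base := by
    have hcl : IsClosed (Set.range g.left.base) := g.left.isClosedMap.isClosed_range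
    intro y
    have hgm : GeneralizingMap Y.hom.base := Flat.generalizingMap (f := Y.hom)
    obtain ⟨y', hy', hy'η⟩ := hgm (hηsp (Y.hom.base y))
    obtain ⟨y'', hy'', -⟩ := Scheme.Pullback.exists_preimage_pullback (f := Y.hom) (g := j) y' t₀
      hy'η
    have hmem : y' ∈ Set.range g.left.base := by
      refine ⟨(pullback.fst X.hom j).base ((inv g').base y''), ?_⟩
      have h1 := congr($(hg').base ((inv g').base y''))
      have h2 : g'.base ((inv g').base y'') = y'' := by
        have := congr($(IsIso.inv_hom_id g').base y'')
        exact this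
      change (g' ≫ pullback.fst Y.hom j).base _ = (pullback.fst X.hom j ≫ g.left).base _ at h1
      rw [Scheme.Hom.comp_base, Scheme.Hom.comp_base] at h1
      change (pullback.fst Y.hom j).base (g'.base ((inv g').base y'')) = _ at h1
      rw [h2, hy''] at h1
      exact h1.symm
    exact hcl.closure_subset_iff.mpr (Set.singleton_subset_iff.mpr hmem) hy'.mem_closure
  -- `Y` is integral
  have hYdom : ∀ y : Y.left, IsDomain (Y.left.presheaf.stalk y) ∧
      UniqueFactorizationMonoid (Y.left.presheaf.stalk y) := fun y => by
    haveI := hYreg y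
    exact Groth.Agent.H3.ABufd.main (Y.left.presheaf.stalk y)
  haveI : IsReduced Y.left := by
    haveI : ∀ y : Y.left, _root_.IsReduced (Y.left.presheaf.stalk y) := fun y => by
      haveI := (hYdom y).1
      infer_instance
    exact isReduced_of_isReduced_stalk Y.left
  haveI : IrreducibleSpace Y.left := by
    have h1 := (IrreducibleSpace.isIrreducible_univ X.left).image g.left.base
      g.left.continuous.continuousOn
    rw [Set.image_univ, Set.range_eq_univ.mpr hsurj] at h1
    exact (irreducibleSpace_def _).mpr h1
  haveI : IsIntegral Y.left := isIntegral_of_irreducibleSpace_of_isReduced Y.left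
  have hnor : ∀ q : Y.left, IsIntegrallyClosed (Y.left.presheaf.stalk q) := fun q => by
    haveI := (hYdom q).1
    haveI := (hYdom q).2
    infer_instance
  -- the generic point of `X` lies over `η`
  set ξ := genericPoint X.left with hξ
  have hξη : X.hom.base ξ = η := by
    have hgm : GeneralizingMap X.hom.base := Flat.generalizingMap (f := X.hom)
    obtain ⟨x', hx', hx'η⟩ := hgm (hηsp (X.hom.base ξ))
    have h1 : ξ ⤳ x' := (genericPoint_spec X.left).specializes trivial
    have h2 : x' = ξ := (hx'.antisymm h1).eq
    rw [← h2]
    exact hx'η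
  haveI hisoξ : IsIso (g.left.stalkMap ξ) := hstalk ξ hξη
  -- birationality
  have hfin : (irreducibleComponents (Y.left : Type u)).Finite := by
    rw [irreducibleComponents_eq_singleton]
    exact Set.finite_singleton _
  obtain ⟨W, hξW, hWoi⟩ := Groth.Agent.H1.StalkIsoOI.s7659 g.left hfin ξ hisoξ
  haveI := hWoi
  have hbir : ∃ U : Y.left.Opens, (U : Set Y.left).Nonempty ∧ IsIso (g.left ∣_ U) := by
    refine ⟨(W.ι ≫ g.left).opensRange, ⟨(W.ι ≫ g.left).base ⟨ξ, hξW⟩, ⟨_, rfl⟩⟩, ?_⟩
    exact Groth.Agent.H1.BirCodim1.isIso_restrict_of_isOpenImmersion g.left W ⟨ξ, hξW⟩ _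
      (Scheme.Hom.coe_opensRange _)
  -- quasi-finiteness at the codimension one points
  have hq : ∀ x : X.left, ringKrullDim (X.left.presheaf.stalk x) = 1 →
      g.left.QuasiFiniteAt x := by
    intro x hx1
    by_cases hxη : X.hom.base x = η
    · haveI := hstalk x hxη
      have hbij : Function.Bijective (g.left.stalkMap x).hom :=
        (ConcreteCategory.isIso_iff_bijective _).mp inferInstance
      exact RingHom.QuasiFinite.of_finite (RingHom.Finite.of_surjective _ hbij.2)
    · set s := X.hom.base x with hs
      have hs0 : s.asIdeal ≠ ⊥ := fun h => hxη (heqη s h)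
      have hsmax : s.asIdeal.IsMaximal := Ideal.IsPrime.isMaximal s.isPrime hs0
      have hscl : IsClosed ({s} : Set (Spec (CommRingCat.of R))) :=
        (PrimeSpectrum.isClosed_singleton_iff_isMaximal s).mpr hsmax
      have hFcl : IsClosed (X.hom.base ⁻¹' {s}) := hscl.preimage X.hom.continuous
      have hmax : ∀ ζ : X.left, ζ ⤳ x → X.hom.base ζ = X.hom.base x → ζ = x := by
        intro ζ hζ hζs
        by_contra hne
        have hζξ : ζ ≠ ξ := fun h => hxη (by rw [hs, ← hζs, h]; exact hξη)
        have hξζ : ξ ⤳ ζ := (genericPoint_spec X.left).specializes trivial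
        have h1 : x < ζ := lt_of_le_not_ge hζ (fun h' => hne (hζ.antisymm h').eq)
        have h2 : ζ < ξ := lt_of_le_not_ge hξζ (fun h' => hζξ (hξζ.antisymm h').eq.symm)
        have c1 := Order.coheight_add_one_le h1
        have c2 := Order.coheight_add_one_le h2
        have c3 : (1 : ℕ∞) ≤ Order.coheight ζ := le_trans le_add_self c2
        have c4 : (1 : ℕ∞) + 1 ≤ Order.coheight x := le_trans (add_le_add_left c3 1) c1
        rw [ringKrullDim_stalk_eq_coheight] at hx1
        have c5 : Order.coheight x = (1 : ℕ∞) := by exact_mod_cast hx1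
        rw [c5] at c4
        exact absurd c4 (by decide)
      obtain ⟨C, hC, hdis, hcov⟩ := exists_closed_compl_closure_of_smooth X.hom x hFcl hmax
      -- the fibres of `g` lie in the fibres over `Spec R`
      have hYX : ∀ w : X.left, Y.hom.base (g.left.base w) = X.hom.base w := by
        intro w
        rw [← Over.w g]
        rfl
      -- the fibre of `g` through `x` meets the closure of `x` only in `x`
      have hΓ : ∀ w ∈ closure ({x} : Set X.left), g.left.base w = g.left.base x → w = x := by
        intro w hw hgw
        by_contra hwx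
        have hxw : x ⤳ w := specializes_iff_mem_closure.mpr hw
        have hlt1 : w < x := lt_of_le_not_ge hxw (fun h' => hwx (hxw.antisymm h').eq.symm)
        have hξx : ξ ⤳ x := (genericPoint_spec X.left).specializes trivial
        have hxξne : x ≠ ξ := fun h => hxη (by rw [hs, h]; exact hξη)
        have hlt2 : x < ξ := lt_of_le_not_ge hξx (fun h' => hxξne (hξx.antisymm h').eq.symm)
        have hwcl : IsClosed ({w} : Set X.left) := isClosed_singleton_of_chain hdim w x ξ hlt1 hlt2
        have hycl : IsClosed ({g.left.base x} : Set Y.left) := by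
          rw [← hgw, ← Set.image_singleton]
          exact g.left.isClosedMap _ hwcl
        have hTy : closure ({x} : Set X.left) ⊆ g.left.base ⁻¹' {g.left.base x} :=
          (hycl.preimage g.left.continuous).closure_subset_iff.mpr
            (Set.singleton_subset_iff.mpr rfl)
        set y := g.left.base x with hy
        have hs'0 : (Y.hom.base y).asIdeal ≠ ⊥ := by
          rw [hYX x]
          exact hs0
        -- a uniformizer at the image of `y`
        letI : Algebra R ((Spec (CommRingCat.of R)).presheaf.stalk (Y.hom.base y)) :=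
          StructureSheaf.stalkAlgebra R (Y.hom.base y)
        haveI : IsLocalization.AtPrime ((Spec (CommRingCat.of R)).presheaf.stalk (Y.hom.base y))
            (Y.hom.base y).asIdeal :=
          StructureSheaf.IsLocalization.to_stalk R (Y.hom.base y)
        haveI : IsDomain ((Spec (CommRingCat.of R)).presheaf.stalk (Y.hom.base y)) :=
          IsLocalization.isDomain_of_atPrime _ (Y.hom.base y).asIdeal
        haveI : IsDiscreteValuationRing
            ((Spec (CommRingCat.of R)).presheaf.stalk (Y.hom.base y)) :=
          IsLocalization.AtPrime.isDiscreteValuationRing_of_dedekind_domain R hs'0 _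
        obtain ⟨ϖ, hϖ⟩ := IsDiscreteValuationRing.exists_irreducible
          ((Spec (CommRingCat.of R)).presheaf.stalk (Y.hom.base y))
        have ht : (Y.hom.stalkMap y).hom ϖ ∈
            IsLocalRing.maximalIdeal (Y.left.presheaf.stalk y) := by
          rw [IsLocalRing.mem_maximalIdeal, mem_nonunits_iff]
          intro hu
          exact hϖ.not_isUnit (isUnit_of_map_unit (Y.hom.stalkMap y).hom ϖ hu)
        have hZ : ∀ q : PrimeSpectrum (Y.left.presheaf.stalk y),
            (Y.hom.stalkMap y).hom ϖ ∈ q.asIdeal →
              Y.left.fromSpecStalk y q ∈ Y.hom.base ⁻¹' {Y.hom.base y} := by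
          intro q hq
          rw [Set.mem_preimage, Set.mem_singleton_iff, fromSpecStalk_mem_fibre_iff,
            hϖ.maximalIdeal_eq, Ideal.map_span, Set.image_singleton,
            Ideal.span_singleton_le_iff_mem]
          exact hq
        refine false_of_clopen_contracted' hnor g.left hbir y
          (Y.hom.base ⁻¹' {Y.hom.base y}) rfl ((Y.hom.stalkMap y).hom ϖ) ht hZ
          (closure {x}) C isClosed_closure hC hdis ?_ hTy x w (subset_closure rfl) hw
          (Ne.symm hwx)
        intro v hv
        apply hcov
        rw [Set.mem_preimage, Set.mem_preimage, Set.mem_singleton_iff] at hv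
        rw [Set.mem_preimage, Set.mem_singleton_iff, ← hYX v, hv, hy, hYX x]
      rw [Scheme.Hom.quasiFiniteAt_iff_isOpen_singleton_asFiber]
      rw [← (g.left.fiberHomeo (g.left.base x)).isOpen_image]
      simp only [Set.image_singleton, Scheme.Hom.asFiber, Homeomorph.apply_symm_apply]
      rw [isOpen_induced_iff]
      refine ⟨Cᶜ, hC.isOpen_compl, ?_⟩
      ext ⟨v, hv⟩
      simp only [Set.mem_preimage, Set.mem_compl_iff, Set.mem_singleton_iff, Subtype.mk.injEq]
      constructor
      · intro hvC
        have hvF : v ∈ X.hom.base ⁻¹' {X.hom.base x} := by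
          rw [Set.mem_preimage, Set.mem_singleton_iff, ← hYX v, ← hYX x]
          exact congrArg Y.hom.base hv
        rcases hcov hvF with h | h
        · exact hΓ v h hv
        · exact absurd h hvC
      · rintro rfl
        exact fun hxC => Set.disjoint_left.mp hdis (subset_closure rfl) hxC
  have hUFD : ∀ y : Y.left, UniqueFactorizationMonoid (Y.left.presheaf.stalk y) :=
    fun y => (hYdom y).2
  haveI : IsLocalIso g.left :=
    Groth.Agent.H1.Purity.isLocalIso_of_quasiFiniteAt_codim_one g.left hUFD
      ⟨W, ⟨ξ, hξW⟩, hWoi⟩ hq
  haveI : IsOpenImmersion g.left :=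
    Groth.Agent.H1.Purity.isOpenImmersion_of_isLocalIso_of_isSeparated g.left
  haveI : IsIso g.left :=
    (isIso_iff_isOpenImmersion_and_surjective g.left).mpr ⟨inferInstance, ⟨hsurj⟩⟩
  haveI : IsIso ((Over.forget (Spec (CommRingCat.of R))).map g) := ‹IsIso g.left›
  exact isIso_of_reflects_iso g (Over.forget _)

end

end Groth.Agent.H5.ArS
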